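import Cfsg.Agent.Mrg.Omega.Half.Basic
import Cfsg.Agent.Lib.SylowNormalInf

section


/-!
# HALF LEMMA without orders

`S` a Sylow 2-subgroup of `G`, `So ≤ S` of index 2, `So ≤ L ≤ H`, `So` a Sylow 2-subgroup of `L`,
`C_H(O₂(H)) ≤ O₂(H)`, `V ≤ So` normal in `L`, irreducible for `L`, centralised by `O₂(L)`.  If every `w` which
normalises `So` and acts on `V` `L`-equivariantly, with `[V, V^w] = 1`, satisfies `V ∩ V^w ≠ 1`, then
`V ≤ Z(O₂(H))` (`half_of`).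

`nx x f = f · f^x · f^(x²)` : the norm of an element of order three.
-/

set_option autoImplicit false

namespace Cfsg.Agent.Omega.IId.NV

open Subgroup Cfsg Cfsg.Agent.ZN Cfsg.Agent.MinSimple.VModule Cfsg.Agent.Omega.Half
open Cfsg.Agent.MinSimple.MinParabolic Cfsg.Agent.MinSimple.Basic

universe u

variable {G : Type u} [Group G]

/-- **HALF LEMMA without orders.** -/
theorem half_of [Finite G] (S : Sylow 2 G) {So L H V : Subgroup G}
    (hSo : So ≤ (S : Subgroup G)) (hidx : Nat.card (S : Subgroup G) = 2 * Nat.card So)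
    (hH : H ⊓ centralizer (o2 H : Set G) ≤ o2 H)
    (hSL : So ≤ L) (hLH : L ≤ H) (hSyl : ¬ 2 ∣ So.relIndex L)
    (hVS : V ≤ So) (hLV : L ≤ normalizer (V : Set G))
    (hcomm : ∀ a ∈ V, ∀ b ∈ V, a * b = b * a)
    (hirr : ∀ X : Subgroup G, X ≤ V → L ≤ normalizer (X : Set G) → X = ⊥ ∨ X = V)
    (hO : o2 L ≤ centralizer (V : Set G))
    (hB : ∀ w : G, (∀ s ∈ So, w * s * w⁻¹ ∈ So) → (∀ s ∈ So, w⁻¹ * s * w ∈ So) →
      (∀ g ∈ L, ∀ v ∈ V, g * (w * v * w⁻¹) * g⁻¹ = w * (g * v * g⁻¹) * w⁻¹) →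
      (∀ u ∈ V, ∀ v ∈ V, u * (w * v * w⁻¹) = (w * v * w⁻¹) * u) →
      ∃ v ∈ V, v ≠ 1 ∧ w * v * w⁻¹ ∈ V) :
    V ≤ o2 H ∧ o2 H ≤ centralizer (V : Set G) := by
  have : Fact (Nat.Prime 2) := ⟨Nat.prime_two⟩
  have hSo2 : IsPGroup 2 So := S.isPGroup'.to_le hSo
  have hVH : V ≤ H := (hVS.trans hSL).trans hLH
  have hVL : V ≤ L := hVS.trans hSL
  have hV2 : IsPGroup 2 V := hSo2.to_le hVS
  -- it is enough that `O₂(H)` centralises `V`
  suffices hW : o2 H ≤ centralizer (V : Set G) from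
    ⟨fun v hv => hH ⟨hVH hv, mem_centralizer_iff.mpr fun x hx =>
      (mem_centralizer_iff.mp (hW hx) v hv).symm⟩, hW⟩
  have hLW : L ≤ normalizer (o2 H : Set G) := hLH.trans (le_normalizer_o2 H)
  have hWL : L ≤ normalizer ((o2 H ⊓ L : Subgroup G) : Set G) :=
    Half.le_normalizer_inf hLW le_normalizer
  have hWL2 : o2 H ⊓ L ≤ o2 L :=
    le_o2 inf_le_right ((o2_isPGroup H).to_le inf_le_left) hWL
  have hWLSo : o2 H ⊓ L ≤ So := hWL2.trans (o2_le_of_sylow hSo2 hSyl)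
  by_cases hWS : o2 H ≤ So
  · exact fun x hx => hO (hWL2 ⟨hx, hSL (hWS hx)⟩)
  obtain ⟨w, hwW, hwS⟩ := SetLike.not_le_iff_exists.mp hWS
  obtain ⟨T, hSoT, hTH, hT2, hTS⟩ := Half.exists_sylow_le hSo2 (hSL.trans hLH)
  have hWT : o2 H ≤ T := o2_le_of_sylow hT2 hTS
  have hTle : Nat.card T ≤ 2 * Nat.card So := hidx ▸ Half.card_le_sylow S hT2
  have hrel : Nat.card So * So.relIndex T = Nat.card T := Half.card_mul_relIndex hSoT
  have hne : So.relIndex T ≠ 1 := fun h => hwS ((relIndex_eq_one.mp h) (hWT hwW))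
  have hne0 : So.relIndex T ≠ 0 := fun h => by
    rw [h, mul_zero] at hrel
    exact Nat.card_pos.ne hrel
  have hrel2 : So.relIndex T = 2 := by
    have h1 : So.relIndex T ≤ 2 := by
      by_contra h
      push Not at h
      have h3 : 2 * Nat.card So < Nat.card So * So.relIndex T := by
        rw [mul_comm]
        exact Nat.mul_lt_mul_of_pos_left h Nat.card_pos
      omega
    omega
  have htwo : ∀ a ∈ T, ∀ b ∈ T, a ∉ So → b ∉ So → a⁻¹ * b ∈ So := by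
    intro a ha b hb ha1 hb1
    have h1 : (So.subgroupOf T).index = 2 := hrel2
    have h2 := mul_mem_iff_of_index_two h1 (a := (⟨a, ha⟩ : T)⁻¹) (b := ⟨b, hb⟩)
    rw [inv_mem_iff] at h2
    have h3 := h2.mpr (iff_of_false (fun h => ha1 (mem_subgroupOf.mp h))
      (fun h => hb1 (mem_subgroupOf.mp h)))
    exact mem_subgroupOf.mp h3
  have hW0c : o2 H ⊓ So ≤ centralizer (V : Set G) := fun x hx => hO (hWL2 ⟨hx.1, hSL hx.2⟩)
  have hw : ∀ g ∈ L, w⁻¹ * (g * w * g⁻¹) ∈ o2 H ⊓ So := by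
    intro g hg
    have h1 : g * w * g⁻¹ ∈ o2 H := (mem_normalizer_iff.mp (hLW hg) w).mp hwW
    have h2 : g * w * g⁻¹ ∉ So := by
      intro h
      have h3 := (mem_normalizer_iff.mp (hWL hg) w).mpr ⟨h1, hSL h⟩
      exact hwS (hWLSo h3)
    exact ⟨(o2 H).mul_mem ((o2 H).inv_mem hwW) h1, htwo _ (hWT hwW) _ (hWT h1) hwS h2⟩
  -- it is enough that `w` centralises `V`
  suffices hwV : ∀ v ∈ V, w * v = v * w by
    intro x hx
    by_cases hxS : x ∈ So
    · exact hW0c ⟨hx, hxS⟩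
    · have h1 : w⁻¹ * x ∈ centralizer (V : Set G) :=
        hW0c ⟨(o2 H).mul_mem ((o2 H).inv_mem hwW) hx, htwo _ (hWT hwW) _ (hWT hx) hwS hxS⟩
      have h2 : w ∈ centralizer (V : Set G) :=
        mem_centralizer_iff.mpr fun v hv => (hwV v hv).symm
      have := mul_mem h2 h1
      rwa [mul_inv_cancel_left] at this
  have hcomm' : ∀ u ∈ V, ∀ v ∈ V, u * (w * v * w⁻¹) = (w * v * w⁻¹) * u :=
    fun u hu v hv => Half.comm_conj hLV hVL hw hW0c hcomm hu hv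
  rcases hirr _ inf_le_left (Half.inf_invariant hLV hw hW0c) with h0 | h0
  · -- `V ∩ V^w = 1`
    exfalso
    have hn1 : ∀ s ∈ So, w * s * w⁻¹ ∈ So := fun s hs =>
      Two.conj_mem_of_two hSoT htwo (hWT hwW) hs
    have hn2 : ∀ s ∈ So, w⁻¹ * s * w ∈ So := fun s hs => by
      have := Two.conj_mem_of_two hSoT htwo (inv_mem (hWT hwW)) hs
      rwa [inv_inv] at this
    obtain ⟨v, hv, hv1, hvV⟩ := hB w hn1 hn2 (fun g hg v hv => Half.equivariant hLV hw hW0c hg hv) hcomm'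
    have h1 : w * v * w⁻¹ ∈ V ⊓ V.map (MulAut.conj w).toMonoidHom := mem_inf.2 ⟨hvV, v, hv, by simp⟩
    rw [h0, mem_bot] at h1
    apply hv1
    have e : v = w⁻¹ * (w * v * w⁻¹) * w := by group
    rw [e, h1]
    group
  · -- `V^w = V`
    have hnorm : w ∈ normalizer (V : Set G) := by
      have h1 : V ≤ V.map (MulAut.conj w).toMonoidHom := h0.symm.le.trans inf_le_right
      have h2 : V = V.map (MulAut.conj w).toMonoidHom :=
        eq_of_le_of_card_ge h1 (card_map_of_injective (MulAut.conj w).injective).le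
      exact mem_normalizer_of_map_le h2.symm.le
    rcases hirr _ inf_le_left (Half.cent_invariant hLV hw hW0c) with h1 | h1
    · by_cases hVb : V = ⊥
      · intro v hv
        rw [hVb, mem_bot] at hv
        rw [hv, mul_one, one_mul]
      obtain ⟨v, hv, hv1, hvw⟩ := Half.exists_fixed hV2 hVb
        ((o2_isPGroup H).to_le (zpowers_le.mpr hwW)) (zpowers_le.mpr hnorm)
      exfalso
      have h2 : v ∈ V ⊓ centralizer ({w} : Set G) := by
        refine ⟨hv, mem_centralizer_iff.mpr ?_⟩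
        intro y hy
        rw [Set.mem_singleton_iff.mp hy]
        have := hvw w (mem_zpowers w)
        calc w * v = (w * v * w⁻¹) * w := by group
          _ = v * w := by rw [this]
      rw [h1, mem_bot] at h2
      exact hv1 h2
    · intro v hv
      have h2 : v ∈ V ⊓ centralizer ({w} : Set G) := by rw [h1]; exact hv
      exact mem_centralizer_iff.mp h2.2 w rfl

/-! ### The norm of an element of order three -/

/-- `f · f^x · f^(x²)` -/
def nx (x f : G) : G := f * (x * f * x⁻¹) * (x * (x * f * x⁻¹) * x⁻¹)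

theorem nx_one (x : G) : nx x 1 = 1 := by
  rw [nx]
  group

/-- conjugation -/
theorem nx_conj (s x f : G) : s * nx x f * s⁻¹ = nx (s * x * s⁻¹) (s * f * s⁻¹) := by
  rw [nx, nx]
  group

/-- an element which commutes with `x` -/
theorem nx_of_comm {x f : G} (h : x * f = f * x) (h2 : f * f = 1) : nx x f = f := by
  have e : x * f * x⁻¹ = f := by rw [h]; group
  rw [nx, e, e, h2, one_mul]

section ab

variable {A : Subgroup G} (hA : ∀ a ∈ A, ∀ b ∈ A, a * b = b * a)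

theorem nx_mem {x f : G} (hx : x ∈ normalizer (A : Set G)) (hf : f ∈ A) : nx x f ∈ A := by
  have h1 : x * f * x⁻¹ ∈ A := (mem_normalizer_iff.1 hx f).1 hf
  exact mul_mem (mul_mem hf h1) ((mem_normalizer_iff.1 hx _).1 h1)

include hA in
theorem nx_mul {x f g : G} (hx : x ∈ normalizer (A : Set G)) (hf : f ∈ A) (hg : g ∈ A) :
    nx x (f * g) = nx x f * nx x g := by
  have h1 : x * f * x⁻¹ ∈ A := (mem_normalizer_iff.1 hx f).1 hf
  have h2 : x * g * x⁻¹ ∈ A := (mem_normalizer_iff.1 hx g).1 hg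
  have h3 : x * (x * f * x⁻¹) * x⁻¹ ∈ A := (mem_normalizer_iff.1 hx _).1 h1
  have h4 : x * (x * g * x⁻¹) * x⁻¹ ∈ A := (mem_normalizer_iff.1 hx _).1 h2
  have e1 : x * (f * g) * x⁻¹ = (x * f * x⁻¹) * (x * g * x⁻¹) := by group
  have e2 : x * (x * f * x⁻¹ * (x * g * x⁻¹)) * x⁻¹ =
      (x * (x * f * x⁻¹) * x⁻¹) * (x * (x * g * x⁻¹) * x⁻¹) := by group
  rw [nx, nx, nx, e1, e2]
  generalize x * (x * f * x⁻¹) * x⁻¹ = f2 at *
  generalize x * (x * g * x⁻¹) * x⁻¹ = g2 at *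
  generalize x * f * x⁻¹ = f1 at *
  generalize x * g * x⁻¹ = g1 at *
  calc f * g * (f1 * g1) * (f2 * g2) = f * (g * f1) * (g1 * f2) * g2 := by group
    _ = f * (f1 * g) * (f2 * g1) * g2 := by rw [hA g hg f1 h1, hA g1 h2 f2 h3]
    _ = f * f1 * (g * f2) * g1 * g2 := by group
    _ = f * f1 * (f2 * g) * g1 * g2 := by rw [hA g hg f2 h3]
    _ = f * f1 * f2 * (g * g1 * g2) := by group

/-- a homomorphism commuting with `x` -/
theorem nx_map {x : G} (φ : G → G) {B : Subgroup G} (hφ : ∀ a ∈ B, ∀ b ∈ B, φ (a * b) = φ a * φ b)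
    (hx : x ∈ normalizer (B : Set G)) (hc : ∀ a ∈ B, x * φ a * x⁻¹ = φ (x * a * x⁻¹)) {f : G} (hf : f ∈ B) :
    nx x (φ f) = φ (nx x f) := by
  have h1 : x * f * x⁻¹ ∈ B := (mem_normalizer_iff.1 hx f).1 hf
  have h3 : x * (x * f * x⁻¹) * x⁻¹ ∈ B := (mem_normalizer_iff.1 hx _).1 h1
  rw [nx, nx, hc f hf, hc _ h1, hφ _ (mul_mem hf h1) _ h3, hφ _ hf _ h1]

/-- the norms of `x` and `y` commute if `x` and `y` commute on `A` -/
theorem nx_nx {x y : G} (hA : ∀ a ∈ A, ∀ b ∈ A, a * b = b * a) (hx : x ∈ normalizer (A : Set G))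
    (hy : y ∈ normalizer (A : Set G))
    (hxy : ∀ a ∈ A, x * (y * a * y⁻¹) * x⁻¹ = y * (x * a * x⁻¹) * y⁻¹) {f : G} (hf : f ∈ A) :
    nx x (nx y f) = nx y (nx x f) := by
  -- `φ = conjugation by x` commutes with the norm of `y`
  have key : ∀ a ∈ A, x * nx y a * x⁻¹ = nx y (x * a * x⁻¹) := by
    intro a ha
    have h1 : y * a * y⁻¹ ∈ A := (mem_normalizer_iff.1 hy a).1 ha
    rw [nx, nx]
    have e : x * (a * (y * a * y⁻¹) * (y * (y * a * y⁻¹) * y⁻¹)) * x⁻¹ =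
        (x * a * x⁻¹) * (x * (y * a * y⁻¹) * x⁻¹) * (x * (y * (y * a * y⁻¹) * y⁻¹) * x⁻¹) := by group
    rw [e, hxy _ h1, hxy _ ha]
  have h1 : x * f * x⁻¹ ∈ A := (mem_normalizer_iff.1 hx f).1 hf
  have h3 : x * (x * f * x⁻¹) * x⁻¹ ∈ A := (mem_normalizer_iff.1 hx _).1 h1
  conv_lhs => rw [nx]
  rw [key f hf, key _ h1]
  conv_rhs => rw [show nx x f = f * (x * f * x⁻¹) * (x * (x * f * x⁻¹) * x⁻¹) from rfl]
  rw [nx_mul hA hy (mul_mem hf h1) h3, nx_mul hA hy hf h1]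

end ab

end Cfsg.Agent.Omega.IId.NV

end

section


/-!
# The norm `∏_{x ∈ E/U} f^x` and the decomposition of `C_A(So)`

`A` an elementary abelian 2-group with an action `ρ` of the finite group `Γ`; `U ≤ E ≤ Γ`;
`nrm ρ E U : A →* A`, `f ↦ ∏_{x ∈ E/U} ρ x f`.  If `|E : U|` is odd, then `nrm` is a projection of `C_A(U)` onto
`C_A(E)`.

`decomp` : `S = So ∪ s So`, `s` swaps `(E₁, U₁)` and `(E₂, U₂)`, `E₁` and `E₂` commute on `A`, every `S`-fixed
element of `A` is in `V₁V₂D`, `E₁` centralises `V₂D` and has no fixed element in `V₁`, the same for `E₂`.  Then every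
`f ∈ C_A(So U₁U₂)` is `a b d` with `a ∈ V₁`, `b ∈ V₂`, `d ∈ C_A(E₁E₂)`.
-/

set_option autoImplicit false
set_option linter.unusedSectionVars false
set_option linter.style.haveILetI false

namespace Cfsg.Agent.Omega.IId.Cv.XNorm

open Subgroup

universe u v

section norm

variable {Γ : Type u} [Group Γ] [Finite Γ] {A : Type v} [CommGroup A] (ρ : Γ →* MulAut A)

open Classical in
/-- `f ↦ ∏_{x ∈ E/U} ρ x f` -/
noncomputable def nrm (E U : Subgroup Γ) : A →* A :=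
  letI : Fintype (E ⧸ U.subgroupOf E) := Fintype.ofFinite _
  ∏ x : E ⧸ U.subgroupOf E, (ρ ((Quotient.out x : E) : Γ)).toMonoidHom

variable {ρ}

open Classical in
theorem nrm_apply (E U : Subgroup Γ) (f : A) :
    letI : Fintype (E ⧸ U.subgroupOf E) := Fintype.ofFinite _
    nrm ρ E U f = ∏ x : E ⧸ U.subgroupOf E, ρ ((Quotient.out x : E) : Γ) f := by
  rw [nrm, MonoidHom.finsetProd_apply]
  rfl

/-- the value of `ρ x f` depends only on the coset `xU` -/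
theorem out_eq {E U : Subgroup Γ} {f : A} (hf : ∀ u ∈ U, ρ u f = f) (x : E) :
    ρ ((Quotient.out (QuotientGroup.mk x : E ⧸ U.subgroupOf E) : E) : Γ) f = ρ (x : Γ) f := by
  obtain ⟨u, hu⟩ := QuotientGroup.mk_out_eq_mul (U.subgroupOf E) x
  rw [show (Quotient.out (QuotientGroup.mk x : E ⧸ U.subgroupOf E) : E) = x * u from hu, coe_mul, map_mul,
    MulAut.mul_apply, hf _ (mem_subgroupOf.1 u.2)]

open Classical in
/-- the norm of a `U`-fixed element is `E`-fixed -/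
theorem nrm_fixed {E U : Subgroup Γ} {f : A} (hf : ∀ u ∈ U, ρ u f = f) {g : Γ} (hg : g ∈ E) :
    ρ g (nrm ρ E U f) = nrm ρ E U f := by
  letI : Fintype (E ⧸ U.subgroupOf E) := Fintype.ofFinite _
  rw [nrm_apply, map_prod]
  refine Fintype.prod_equiv (MulAction.toPerm (⟨g, hg⟩ : E)) _ _ fun x => ?_
  rw [MulAction.toPerm_apply]
  induction x using QuotientGroup.induction_on with | _ x =>
  rw [out_eq hf x]
  change _ = ρ ((Quotient.out (QuotientGroup.mk ((⟨g, hg⟩ : E) * x) : E ⧸ U.subgroupOf E) : E) : Γ) f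
  rw [out_eq hf, coe_mul, map_mul, MulAut.mul_apply]

open Classical in
/-- the norm of an `E`-fixed element -/
theorem nrm_of_fixed {E U : Subgroup Γ} (hodd : Odd (U.relIndex E)) {f : A} (h2 : f * f = 1)
    (hf : ∀ u ∈ E, ρ u f = f) : nrm ρ E U f = f := by
  letI : Fintype (E ⧸ U.subgroupOf E) := Fintype.ofFinite _
  have h1 : nrm ρ E U f = ∏ _x : E ⧸ U.subgroupOf E, f := by
    rw [nrm_apply]
    exact Finset.prod_congr rfl fun x _ => hf _ (Quotient.out x : E).2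
  rw [h1, Finset.prod_const, Finset.card_univ, ← Nat.card_eq_fintype_card]
  obtain ⟨m, hm⟩ := hodd
  have e : Nat.card (E ⧸ U.subgroupOf E) = 2 * m + 1 := hm
  rw [e, pow_succ, pow_mul, pow_two, h2, one_pow, one_mul]

open Classical in
/-- the norm of an element of an `E`-invariant subgroup -/
theorem nrm_mem {E U : Subgroup Γ} {V : Subgroup A} (hV : ∀ x ∈ E, ∀ a ∈ V, ρ x a ∈ V) {f : A} (hf : f ∈ V) :
    nrm ρ E U f ∈ V := by
  letI : Fintype (E ⧸ U.subgroupOf E) := Fintype.ofFinite _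
  rw [nrm_apply]
  exact prod_mem fun x _ => hV _ (Quotient.out x : E).2 _ hf

open Classical in
/-- an element which commutes with `E` on `A` commutes with the norm -/
theorem nrm_comm {E U : Subgroup Γ} {y : Γ} (hy : ∀ x ∈ E, ∀ a : A, ρ x (ρ y a) = ρ y (ρ x a)) (f : A) :
    ρ y (nrm ρ E U f) = nrm ρ E U (ρ y f) := by
  letI : Fintype (E ⧸ U.subgroupOf E) := Fintype.ofFinite _
  rw [nrm_apply, nrm_apply, map_prod]
  exact Finset.prod_congr rfl fun x _ => (hy _ (Quotient.out x : E).2 f).symm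

open Classical in
/-- the norms of two groups which commute on `A` commute -/
theorem nrm_nrm {E U E' U' : Subgroup Γ} (hc : ∀ x ∈ E, ∀ y ∈ E', ∀ a : A, ρ x (ρ y a) = ρ y (ρ x a)) (f : A) :
    nrm ρ E U (nrm ρ E' U' f) = nrm ρ E' U' (nrm ρ E U f) := by
  letI : Fintype (E ⧸ U.subgroupOf E) := Fintype.ofFinite _
  letI : Fintype (E' ⧸ U'.subgroupOf E') := Fintype.ofFinite _
  rw [nrm_apply E' U' f, map_prod, nrm_apply E' U']
  exact Finset.prod_congr rfl fun y _ => (nrm_comm (fun x hx a => hc x hx _ (Quotient.out y : E').2 a) f).symm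

open Classical in
/-- conjugation -/
theorem nrm_conj {E U E' U' : Subgroup Γ} {s : Γ} (hE : ∀ x, x ∈ E → s * x * s⁻¹ ∈ E')
    (hE' : ∀ x, x ∈ E' → s⁻¹ * x * s ∈ E) (hU : ∀ x, x ∈ U → s * x * s⁻¹ ∈ U')
    (hU' : ∀ x, x ∈ U' → s⁻¹ * x * s ∈ U) {f : A} (hf : ∀ u ∈ U, ρ u f = f) :
    ρ s (nrm ρ E U f) = nrm ρ E' U' (ρ s f) := by
  letI : Fintype (E ⧸ U.subgroupOf E) := Fintype.ofFinite _
  letI : Fintype (E' ⧸ U'.subgroupOf E') := Fintype.ofFinite _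
  have hf' : ∀ u ∈ U', ρ u (ρ s f) = ρ s f := by
    intro u hu
    have h1 := hf _ (hU' u hu)
    rw [← MulAut.mul_apply, ← map_mul, show u * s = s * (s⁻¹ * u * s) by group, map_mul, MulAut.mul_apply, h1]
  rw [nrm_apply, nrm_apply, map_prod]
  refine Fintype.prod_bijective
    (fun x => (QuotientGroup.mk (⟨s * (Quotient.out x : E) * s⁻¹, hE _ (Quotient.out x : E).2⟩ : E') :
      E' ⧸ U'.subgroupOf E')) ⟨?_, ?_⟩ _ _ fun x => ?_
  · intro x y hxy
    have h1 := QuotientGroup.eq.1 hxy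
    rw [mem_subgroupOf] at h1
    have h2 := hU' _ h1
    have e : s⁻¹ * (((⟨s * (Quotient.out x : E) * s⁻¹, hE _ (Quotient.out x : E).2⟩ : E')⁻¹ *
        (⟨s * (Quotient.out y : E) * s⁻¹, hE _ (Quotient.out y : E).2⟩ : E') : E') : Γ) * s =
        (((Quotient.out x : E)⁻¹ * (Quotient.out y : E) : E) : Γ) := by
      push_cast
      group
    rw [e] at h2
    have h3 : (QuotientGroup.mk (Quotient.out x : E) : E ⧸ U.subgroupOf E) = QuotientGroup.mk (Quotient.out y : E) :=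
      QuotientGroup.eq.2 (mem_subgroupOf.2 h2)
    rwa [QuotientGroup.out_eq', QuotientGroup.out_eq'] at h3
  · intro y
    induction y using QuotientGroup.induction_on with | _ y =>
    refine ⟨QuotientGroup.mk (⟨s⁻¹ * y * s, hE' _ y.2⟩ : E), ?_⟩
    obtain ⟨u, hu⟩ := QuotientGroup.mk_out_eq_mul (U.subgroupOf E) (⟨s⁻¹ * y * s, hE' _ y.2⟩ : E)
    refine QuotientGroup.eq.2 (mem_subgroupOf.2 ?_)
    have h1 := hU _ (inv_mem (mem_subgroupOf.1 u.2))
    have e : (Quotient.out (QuotientGroup.mk (⟨s⁻¹ * y * s, hE' _ y.2⟩ : E) : E ⧸ U.subgroupOf E) : E) =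
      (⟨s⁻¹ * y * s, hE' _ y.2⟩ : E) * u := hu
    have e2 : (((⟨s * ((Quotient.out (QuotientGroup.mk (⟨s⁻¹ * y * s, hE' _ y.2⟩ : E) : E ⧸ U.subgroupOf E) : E) : Γ)
        * s⁻¹, hE _ (Quotient.out (QuotientGroup.mk (⟨s⁻¹ * y * s, hE' _ y.2⟩ : E) : E ⧸ U.subgroupOf E) : E).2⟩ :
          E')⁻¹ * y : E') : Γ) = s * ((u : E) : Γ)⁻¹ * s⁻¹ := by
      rw [coe_mul, coe_inv]
      change (s * ((Quotient.out (QuotientGroup.mk (⟨s⁻¹ * y * s, hE' _ y.2⟩ : E) : E ⧸ U.subgroupOf E) : E) : Γ)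
        * s⁻¹)⁻¹ * (y : Γ) = _
      rw [e, coe_mul]
      group
    rw [e2]
    exact h1
  · rw [out_eq hf']
    change ρ s (ρ (Quotient.out x : E) f) = ρ (s * (Quotient.out x : E) * s⁻¹) (ρ s f)
    rw [← MulAut.mul_apply, ← MulAut.mul_apply, ← map_mul, ← map_mul, inv_mul_cancel_right]

end norm

/-! ### The decomposition -/

section main

variable {Γ : Type u} [Group Γ] [Finite Γ] {A : Type v} [CommGroup A] {ρ : Γ →* MulAut A}

/-- **The decomposition of `C_A(So)`.** -/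
theorem decomp (hA : ∀ a : A, a * a = 1) {So E U E' U' : Subgroup Γ} {s : Γ}
    (hso' : ∀ t ∈ So, s⁻¹ * t * s ∈ So) (hss : s * s ∈ So)
    (hE : ∀ t ∈ So, ∀ x ∈ E, t * x * t⁻¹ ∈ E) (hU : ∀ t ∈ So, ∀ x ∈ U, t * x * t⁻¹ ∈ U)
    (hE' : ∀ t ∈ So, ∀ x ∈ E', t * x * t⁻¹ ∈ E') (hU' : ∀ t ∈ So, ∀ x ∈ U', t * x * t⁻¹ ∈ U')
    (sE : ∀ x ∈ E, s * x * s⁻¹ ∈ E') (sE' : ∀ x ∈ E', s * x * s⁻¹ ∈ E)
    (sU : ∀ x ∈ U, s * x * s⁻¹ ∈ U') (sU' : ∀ x ∈ U', s * x * s⁻¹ ∈ U)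
    (sEi : ∀ x ∈ E, s⁻¹ * x * s ∈ E') (sEi' : ∀ x ∈ E', s⁻¹ * x * s ∈ E)
    (sUi : ∀ x ∈ U, s⁻¹ * x * s ∈ U') (sUi' : ∀ x ∈ U', s⁻¹ * x * s ∈ U)
    (hUE : U ≤ E) (hUE' : U' ≤ E') (hUS : U ≤ So) (hUS' : U' ≤ So)
    (odd : Odd (U.relIndex E)) (odd' : Odd (U'.relIndex E'))
    (hc : ∀ x ∈ E, ∀ y ∈ E', ∀ a : A, ρ x (ρ y a) = ρ y (ρ x a))
    {V V' D : Subgroup A} (hV : ∀ x ∈ E, ∀ a ∈ V, ρ x a ∈ V) (hV' : ∀ x ∈ E', ∀ a ∈ V', ρ x a ∈ V')
    (hf : ∀ a ∈ V, (∀ x ∈ E, ρ x a = a) → a = 1) (hf' : ∀ a ∈ V', (∀ x ∈ E', ρ x a = a) → a = 1)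
    (h12 : ∀ x ∈ E, ∀ a ∈ V', ρ x a = a) (h21 : ∀ x ∈ E', ∀ a ∈ V, ρ x a = a)
    (hD : ∀ x ∈ E, ∀ a ∈ D, ρ x a = a) (hD' : ∀ x ∈ E', ∀ a ∈ D, ρ x a = a)
    (hZ : ∀ z : A, (∀ t ∈ So, ρ t z = z) → ρ s z = z → ∃ a ∈ V, ∃ b ∈ V', ∃ d ∈ D, z = a * b * d)
    {f : A} (hfo : ∀ t ∈ So, ρ t f = f) :
    ∃ a ∈ V, ∃ b ∈ V', ∃ d : A, (∀ x ∈ E, ρ x d = d) ∧ (∀ x ∈ E', ρ x d = d) ∧ f = a * b * d := by
  set N := nrm ρ E U with hN
  set N' := nrm ρ E' U' with hN'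
  -- `N` and `N'` commute with `So`
  have nSo : ∀ g : A, (∀ u ∈ So, ρ u g = g) → ∀ t ∈ So, ρ t (N g) = N g := by
    intro g hg t ht
    have hi : ∀ {X : Subgroup Γ}, (∀ t ∈ So, ∀ x ∈ X, t * x * t⁻¹ ∈ X) → ∀ x, x ∈ X → t⁻¹ * x * t ∈ X := by
      intro X hX x hx
      have := hX t⁻¹ (inv_mem ht) x hx
      rwa [inv_inv] at this
    rw [hN, nrm_conj (hE t ht) (hi hE) (hU t ht) (hi hU) (fun u hu => hg u (hUS hu)), hg t ht]
  have nSo' : ∀ g : A, (∀ u ∈ So, ρ u g = g) → ∀ t ∈ So, ρ t (N' g) = N' g := by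
    intro g hg t ht
    have hi : ∀ {X : Subgroup Γ}, (∀ t ∈ So, ∀ x ∈ X, t * x * t⁻¹ ∈ X) → ∀ x, x ∈ X → t⁻¹ * x * t ∈ X := by
      intro X hX x hx
      have := hX t⁻¹ (inv_mem ht) x hx
      rwa [inv_inv] at this
    rw [hN', nrm_conj (hE' t ht) (hi hE') (hU' t ht) (hi hU') (fun u hu => hg u (hUS' hu)), hg t ht]
  -- `s` swaps `N` and `N'`
  have ns : ∀ g : A, (∀ u ∈ So, ρ u g = g) → ρ s (N g) = N' (ρ s g) := fun g hg =>
    nrm_conj sE sEi' sU sUi' fun u hu => hg u (hUS hu)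
  have ns' : ∀ g : A, (∀ u ∈ So, ρ u g = g) → ρ s (N' g) = N (ρ s g) := fun g hg =>
    nrm_conj sE' sEi sU' sUi fun u hu => hg u (hUS' hu)
  have sSo : ∀ g : A, (∀ u ∈ So, ρ u g = g) → ∀ t ∈ So, ρ t (ρ s g) = ρ s g := by
    intro g hg t ht
    rw [← MulAut.mul_apply, ← map_mul, show t * s = s * (s⁻¹ * t * s) by group, map_mul, MulAut.mul_apply,
      hg _ (hso' t ht)]
  -- fixed by `E`
  have nE : ∀ g : A, (∀ u ∈ So, ρ u g = g) → ∀ x ∈ E, ρ x (N g) = N g := fun g hg x hx =>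
    nrm_fixed (fun u hu => hg u (hUS hu)) hx
  have nE' : ∀ g : A, (∀ u ∈ So, ρ u g = g) → ∀ x ∈ E', ρ x (N' g) = N' g := fun g hg x hx =>
    nrm_fixed (fun u hu => hg u (hUS' hu)) hx
  have nf : ∀ g : A, (∀ x ∈ E, ρ x g = g) → N g = g := fun g hg => nrm_of_fixed odd (hA g) hg
  have nf' : ∀ g : A, (∀ x ∈ E', ρ x g = g) → N' g = g := fun g hg => nrm_of_fixed odd' (hA g) hg
  have nn : ∀ g : A, N (N' g) = N' (N g) := fun g => nrm_nrm hc g
  have nV : ∀ a ∈ V, (∀ u ∈ U, ρ u a = a) → N a = 1 := fun a ha haU =>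
    hf _ (nrm_mem hV ha) fun x hx => nrm_fixed haU hx
  have nV' : ∀ a ∈ V', (∀ u ∈ U', ρ u a = a) → N' a = 1 := fun a ha haU =>
    hf' _ (nrm_mem hV' ha) fun x hx => nrm_fixed haU hx
  clear_value N N'
  -- the norms of the `S`-fixed elements
  have key : ∀ z : A, (∀ t ∈ So, ρ t z = z) → ρ s z = z →
      ∃ a ∈ V, ∃ b ∈ V', ∃ d ∈ D, z = a * b * d ∧ N z = b * d ∧ N' z = a * d := by
    intro z h1 h2
    obtain ⟨a, ha, b, hb, d, hd, hz⟩ := hZ z h1 h2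
    have haU : ∀ u ∈ U, ρ u a = a := by
      intro u hu
      have h3 := h1 u (hUS hu)
      rw [hz, map_mul, map_mul, h12 u (hUE hu) b hb, hD u (hUE hu) d hd] at h3
      exact mul_right_cancel (mul_right_cancel h3)
    have hbU : ∀ u ∈ U', ρ u b = b := by
      intro u hu
      have h3 := h1 u (hUS' hu)
      rw [hz, map_mul, map_mul, h21 u (hUE' hu) a ha, hD' u (hUE' hu) d hd] at h3
      exact mul_left_cancel (mul_right_cancel h3)
    have e1 : N a = 1 := nV a ha haU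
    have e2 : N' b = 1 := nV' b hb hbU
    refine ⟨a, ha, b, hb, d, hd, hz, ?_, ?_⟩
    · rw [hz, map_mul, map_mul, e1, nf b fun x hx => h12 x hx b hb, nf d fun x hx => hD x hx d hd, one_mul]
    · rw [hz, map_mul, map_mul, e2, nf' a fun x hx => h21 x hx a ha, nf' d fun x hx => hD' x hx d hd, mul_one]
  -- `f f^s`
  have prod_fixed : ∀ g : A, (∀ t ∈ So, ρ t g = g) →
      (∀ t ∈ So, ρ t (g * ρ s g) = g * ρ s g) ∧ ρ s (g * ρ s g) = g * ρ s g := by
    intro g hg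
    refine ⟨fun t ht => by rw [map_mul, hg t ht, sSo g hg t ht], ?_⟩
    rw [map_mul, ← MulAut.mul_apply, ← map_mul, hg _ hss, mul_comm]
  -- swapping `g2`
  have swp : ∀ g : A, (∀ x ∈ E', ρ x g = g) → ∀ x ∈ E, ρ x (ρ s g) = ρ s g := by
    intro g g2 x hx
    rw [← MulAut.mul_apply, ← map_mul, show x * s = s * (s⁻¹ * x * s) by group, map_mul, MulAut.mul_apply,
      g2 _ (sEi x hx)]
  have swp' : ∀ g : A, (∀ x ∈ E, ρ x g = g) → ∀ x ∈ E', ρ x (ρ s g) = ρ s g := by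
    intro g g2 x hx
    rw [← MulAut.mul_apply, ← map_mul, show x * s = s * (s⁻¹ * x * s) by group, map_mul, MulAut.mul_apply,
      g2 _ (sEi' x hx)]
  have fN := nSo f hfo
  have fN' := nSo' f hfo
  have fNN' : ∀ t ∈ So, ρ t (N (N' f)) = N (N' f) := nSo _ fN'
  -- the joint part is trivial
  have h0 : f * N f * N' f * N (N' f) = 1 := by
    set z := f * N f * N' f * N (N' f) with hz
    have z1 : ∀ t ∈ So, ρ t z = z := by
      intro t ht
      rw [hz, map_mul, map_mul, map_mul, hfo t ht, fN t ht, fN' t ht, fNN' t ht]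
    have z2 : ρ s z = z := by
      obtain ⟨p1, p2⟩ := prod_fixed f hfo
      set p := f * ρ s f with hp
      have hsf : ρ s f = f * p := by
        rw [hp, ← mul_assoc, hA, one_mul]
      obtain ⟨a, ha, b, hb, d, hd, e0, e1, e2⟩ := key p p1 p2
      have e3 : N (N' p) = d := by
        have e4 : N' a = a := nf' a fun x hx => h21 x hx a ha
        have e5 : N' d = d := nf' d fun x hx => hD' x hx d hd
        have e6 : N d = d := nf d fun x hx => hD x hx d hd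
        have e7 : N a = 1 := by
          have h3 : N p = N a * N b * N d := by rw [e0, map_mul, map_mul]
          rw [e1, e6, nf b fun x hx => h12 x hx b hb] at h3
          have h4 := mul_right_cancel h3
          exact (mul_eq_right.1 h4.symm)
        rw [e2, map_mul, e7, e6, one_mul]
      have e8 : ρ s z = ρ s f * N' (ρ s f) * N (ρ s f) * N' (N (ρ s f)) := by
        rw [hz, map_mul, map_mul, map_mul, ns f hfo, ns' f hfo, ns _ fN', ns' f hfo]
      clear_value p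
      rw [e8, hsf, ← nn (f * p), map_mul N' f p, map_mul N f p, map_mul N (N' f) (N' p), e3, e1, e2, e0, hz]
      calc f * (a * b * d) * (N' f * (a * d)) * (N f * (b * d)) * (N (N' f) * d) =
          f * N f * N' f * N (N' f) * (a * a) * (b * b) * (d * d) * (d * d) := by
            simp only [mul_assoc, mul_comm, mul_left_comm]
        _ = f * N f * N' f * N (N' f) := by rw [hA, hA, hA, mul_one, mul_one, mul_one, mul_one]
    obtain ⟨a, ha, b, hb, d, hd, e0, e1, e2⟩ := key z z1 z2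
    have k1 : N z = 1 := by
      rw [hz, map_mul, map_mul, map_mul, nf _ (nE f hfo), nf _ (nE _ fN')]
      rw [hA, one_mul, hA]
    have k2 : N' z = 1 := by
      have h3 : N' (N (N' f)) = N (N' f) := by
        rw [← nn, nf' _ (nE' f hfo)]
      rw [hz, map_mul, map_mul, map_mul, nf' _ (nE' f hfo), h3, ← nn]
      calc N' f * N (N' f) * N' f * N (N' f) = (N' f * N' f) * (N (N' f) * N (N' f)) := by
            simp only [mul_assoc, mul_comm, mul_left_comm]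
        _ = 1 := by rw [hA, hA, one_mul]
    rw [k1] at e1
    rw [k2] at e2
    -- `d = 1`
    have hb1 : b = 1 := by
      refine hf' b hb fun x hx => ?_
      have : b = d⁻¹ := eq_inv_of_mul_eq_one_left e1.symm
      rw [this, map_inv, hD' x hx d hd]
    have hd1 : d = 1 := by
      rw [hb1, one_mul] at e1
      exact e1.symm
    rw [hd1, mul_one] at e2
    rw [e0, hb1, hd1, ← e2, one_mul, one_mul]
  -- the first part
  have h1 : N' f * N (N' f) ∈ V := by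
    set g := N' f * N (N' f) with hg
    have g1 : ∀ t ∈ So, ρ t g = g := by
      intro t ht
      rw [hg, map_mul, fN' t ht, fNN' t ht]
    have g2 : ∀ x ∈ E', ρ x g = g := by
      intro x hx
      rw [hg, nn, map_mul, nE' f hfo x hx, nE' _ fN x hx]
    have g3 : N g = 1 := by
      rw [hg, map_mul, nf _ (nE _ fN'), hA]
    have g4 : ∀ x ∈ E, ρ x (ρ s g) = ρ s g := swp g g2
    clear_value g
    obtain ⟨p1, p2⟩ := prod_fixed g g1
    obtain ⟨a, ha, b, hb, d, hd, e0, e1, -⟩ := key _ p1 p2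
    rw [map_mul, g3, one_mul, nf _ g4] at e1
    rw [e1, mul_assoc] at e0
    rw [mul_right_cancel e0]
    exact ha
  -- the second part
  have h2 : N f * N (N' f) ∈ V' := by
    set g := N f * N (N' f) with hg
    have g1 : ∀ t ∈ So, ρ t g = g := by
      intro t ht
      rw [hg, map_mul, fN t ht, fNN' t ht]
    have g2 : ∀ x ∈ E, ρ x g = g := by
      intro x hx
      rw [hg, map_mul, nE f hfo x hx, nE _ fN' x hx]
    have g3 : N' g = 1 := by
      have h3 : N' (N (N' f)) = N (N' f) := by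
        rw [← nn, nf' _ (nE' f hfo)]
      rw [hg, map_mul, h3, ← nn, hA]
    have g4 : ∀ x ∈ E', ρ x (ρ s g) = ρ s g := swp' g g2
    clear_value g
    obtain ⟨p1, p2⟩ := prod_fixed g g1
    obtain ⟨a, ha, b, hb, d, hd, e0, -, e2⟩ := key _ p1 p2
    rw [map_mul, g3, one_mul, nf' _ g4] at e2
    rw [e2] at e0
    have e3 : a * b * d = b * (a * d) := by rw [mul_comm a b, mul_assoc]
    rw [e3] at e0
    rw [mul_right_cancel e0]
    exact hb
  refine ⟨_, h1, _, h2, N (N' f), nE _ fN', fun x hx => by rw [nn]; exact nE' _ fN x hx, ?_⟩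
  calc f = f * (f * N f * N' f * N (N' f)) := by rw [h0, mul_one]
    _ = (f * f) * (N f * N' f * N (N' f)) := by simp only [mul_assoc]
    _ = N f * N' f * N (N' f) := by rw [hA, one_mul]
    _ = N' f * N (N' f) * (N f * N (N' f)) * N (N' f) * (N (N' f) * N (N' f))⁻¹ := by
        rw [hA, inv_one, mul_one]
        calc N f * N' f * N (N' f) = N f * N' f * N (N' f) * (N (N' f) * N (N' f)) := by rw [hA, mul_one]
          _ = _ := by simp only [mul_assoc, mul_comm, mul_left_comm]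
    _ = _ := by rw [hA, inv_one, mul_one]

end main

/-! ### The same for subgroups of `G` -/

section conc

variable {G : Type u} [Group G]

theorem relIndex_sup_eq [Finite G] {X E : Subgroup G} (h : X ≤ normalizer (E : Set G)) :
    X.relIndex (E ⊔ X) = X.relIndex E := by
  have hK : E ⊔ X ≤ normalizer (E : Set G) := sup_le le_normalizer h
  have hn : (E.subgroupOf (E ⊔ X)).Normal := normal_subgroupOf_iff_le_normalizer le_sup_left |>.2 hK
  have h1 := Lib.SylowNormalInf.relIndex_sup_of_normal (X.subgroupOf (E ⊔ X)) (E.subgroupOf (E ⊔ X))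
  have h2 : X.subgroupOf (E ⊔ X) ⊔ E.subgroupOf (E ⊔ X) = ⊤ := by
    rw [← subgroupOf_sup le_sup_right le_sup_left, sup_comm X E, subgroupOf_self]
  rw [h2, relIndex_top_right, relIndex_subgroupOf le_sup_left] at h1
  exact h1

/-- **The decomposition of `C_W(So)`**, for subgroups of `G`. -/
theorem decomp' [Finite G] {W So E U E' U' V V' D : Subgroup G} {s : G}
    (hW : ∀ a ∈ W, ∀ b ∈ W, a * b = b * a) (hA : ∀ a ∈ W, a * a = 1)
    (nE : E ≤ normalizer (W : Set G)) (nE' : E' ≤ normalizer (W : Set G)) (nSo : So ≤ normalizer (W : Set G))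
    (ns : s ∈ normalizer (W : Set G))
    (hso' : ∀ t ∈ So, s⁻¹ * t * s ∈ So) (hss : s * s ∈ So)
    (hE : ∀ t ∈ So, ∀ x ∈ E, t * x * t⁻¹ ∈ E) (hU : ∀ t ∈ So, ∀ x ∈ U, t * x * t⁻¹ ∈ U)
    (hE' : ∀ t ∈ So, ∀ x ∈ E', t * x * t⁻¹ ∈ E') (hU' : ∀ t ∈ So, ∀ x ∈ U', t * x * t⁻¹ ∈ U')
    (sE : ∀ x ∈ E, s * x * s⁻¹ ∈ E') (sE' : ∀ x ∈ E', s * x * s⁻¹ ∈ E)
    (sU : ∀ x ∈ U, s * x * s⁻¹ ∈ U') (sU' : ∀ x ∈ U', s * x * s⁻¹ ∈ U)
    (sEi : ∀ x ∈ E, s⁻¹ * x * s ∈ E') (sEi' : ∀ x ∈ E', s⁻¹ * x * s ∈ E)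
    (sUi : ∀ x ∈ U, s⁻¹ * x * s ∈ U') (sUi' : ∀ x ∈ U', s⁻¹ * x * s ∈ U)
    (hUE : U ≤ E) (hUE' : U' ≤ E') (hUS : U ≤ So) (hUS' : U' ≤ So)
    (odd : Odd (U.relIndex E)) (odd' : Odd (U'.relIndex E'))
    (hc : ∀ x ∈ E, ∀ y ∈ E', ∀ a ∈ W, x * (y * a * y⁻¹) * x⁻¹ = y * (x * a * x⁻¹) * y⁻¹)
    (hVW : V ≤ W) (hVW' : V' ≤ W) (hDW : D ≤ W)
    (hV : ∀ x ∈ E, ∀ a ∈ V, x * a * x⁻¹ ∈ V) (hV' : ∀ x ∈ E', ∀ a ∈ V', x * a * x⁻¹ ∈ V')
    (hf : ∀ a ∈ V, (∀ x ∈ E, x * a = a * x) → a = 1) (hf' : ∀ a ∈ V', (∀ x ∈ E', x * a = a * x) → a = 1)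
    (h12 : ∀ x ∈ E, ∀ a ∈ V', x * a = a * x) (h21 : ∀ x ∈ E', ∀ a ∈ V, x * a = a * x)
    (hD : ∀ x ∈ E, ∀ a ∈ D, x * a = a * x) (hD' : ∀ x ∈ E', ∀ a ∈ D, x * a = a * x)
    (hZ : ∀ z ∈ W, (∀ t ∈ So, t * z = z * t) → s * z = z * s → ∃ a ∈ V, ∃ b ∈ V', ∃ d ∈ D, z = a * b * d)
    {f : G} (hfW : f ∈ W) (hfo : ∀ t ∈ So, t * f = f * t) :
    ∃ a ∈ V, ∃ b ∈ V', ∃ d ∈ W, (∀ x ∈ E, x * d = d * x) ∧ (∀ x ∈ E', x * d = d * x) ∧ f = a * b * d := by
  set N := normalizer (W : Set G) with hN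
  letI : CommGroup W := { (inferInstance : Group W) with mul_comm := fun a b => Subtype.ext (hW a a.2 b b.2) }
  have hv : ∀ (x : N) (a : W), ((W.normalizerMonoidHom x a : W) : G) = (x : G) * a * (x : G)⁻¹ := fun x a => rfl
  have hfix : ∀ (x : N) (a : W), W.normalizerMonoidHom x a = a ↔ (x : G) * a = a * x := by
    intro x a
    rw [Subtype.ext_iff, hv]
    exact mul_inv_eq_iff_eq_mul
  have hor : ∀ {X Y : Subgroup G}, Y ≤ N → Odd (X.relIndex Y) → Odd ((X.subgroupOf N).relIndex (Y.subgroupOf N)) := by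
    intro X Y hY h
    rwa [relIndex_subgroupOf hY]
  obtain ⟨a, ha, b, hb, d, hd1, hd2, hfe⟩ := decomp (A := W) (ρ := W.normalizerMonoidHom)
    (fun a => Subtype.ext (hA a a.2)) (So := So.subgroupOf N) (E := E.subgroupOf N) (U := U.subgroupOf N)
    (E' := E'.subgroupOf N) (U' := U'.subgroupOf N) (s := (⟨s, ns⟩ : N))
    (fun t ht => hso' t ht) hss
    (fun t ht x hx => hE t ht x hx) (fun t ht x hx => hU t ht x hx)
    (fun t ht x hx => hE' t ht x hx) (fun t ht x hx => hU' t ht x hx)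
    (fun x hx => sE x hx) (fun x hx => sE' x hx) (fun x hx => sU x hx) (fun x hx => sU' x hx)
    (fun x hx => sEi x hx) (fun x hx => sEi' x hx) (fun x hx => sUi x hx) (fun x hx => sUi' x hx)
    (fun x hx => hUE hx) (fun x hx => hUE' hx) (fun x hx => hUS hx) (fun x hx => hUS' hx)
    (hor nE odd) (hor nE' odd')
    (fun x hx y hy a => Subtype.ext (hc x hx y hy a a.2))
    (V := V.subgroupOf W) (V' := V'.subgroupOf W) (D := D.subgroupOf W)
    (fun x hx a ha => hV x hx a ha) (fun x hx a ha => hV' x hx a ha)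
    (fun a ha h => Subtype.ext (hf a ha fun x hx => (hfix ⟨x, nE hx⟩ a).1 (h ⟨x, nE hx⟩ hx)))
    (fun a ha h => Subtype.ext (hf' a ha fun x hx => (hfix ⟨x, nE' hx⟩ a).1 (h ⟨x, nE' hx⟩ hx)))
    (fun x hx a ha => (hfix x a).2 (h12 x hx a ha)) (fun x hx a ha => (hfix x a).2 (h21 x hx a ha))
    (fun x hx a ha => (hfix x a).2 (hD x hx a ha)) (fun x hx a ha => (hfix x a).2 (hD' x hx a ha))
    (fun z h1 h2 => by
      obtain ⟨a, ha, b, hb, d, hd, he⟩ := hZ z z.2 (fun t ht => (hfix ⟨t, nSo ht⟩ z).1 (h1 ⟨t, nSo ht⟩ ht))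
        ((hfix ⟨s, ns⟩ z).1 h2)
      exact ⟨⟨a, hVW ha⟩, ha, ⟨b, hVW' hb⟩, hb, ⟨d, hDW hd⟩, hd, Subtype.ext he⟩)
    (f := ⟨f, hfW⟩) (fun t ht => (hfix t _).2 (hfo t ht))
  exact ⟨a, ha, b, hb, d, d.2, fun x hx => (hfix ⟨x, nE hx⟩ d).1 (hd1 ⟨x, nE hx⟩ hx),
    fun x hx => (hfix ⟨x, nE' hx⟩ d).1 (hd2 ⟨x, nE' hx⟩ hx), congrArg Subtype.val hfe⟩

end conc

end Cfsg.Agent.Omega.IId.Cv.XNorm

end
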