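import Cfsg.Agent.Mrg.Omega.IId.Fac
import Cfsg.Agent.Mrg.Omega.IId.Cv.Half
import Cfsg.Agent.Mrg.Omega.IId.Match
import Cfsg.Agent.Mrg.Omega.Half.Basic

section


/-!
# II.d, `C_V(O²(P)) ≠ 1` or `C_{V'}(O²(P')) ≠ 1` : the cut of `WrCv` (head: helper958)

`HypN K S` : `Hyp K S`, and (NF) no mutual pair with a member with `k ≥ 2` natural factors has both members `Free`
(`leafWrN` : the pair of `LeafWr` is chosen with both members `Free` if there is such a pair).
`WrCvN K` : `WrCv` with `HypN` for `Hyp`.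

For a pair in normal position, natural factors on both sides, `V_P = V × D`, `V_{P'} = V' × D'` (`NatD`):

* `CvSym` : `P'` of type `S_{2^m+1}`;
* `CvNonsplit` : `D ∩ [V, O²(P)] ≠ 1` on one side;
* `CvBig` : `k > 2` or `k' > 2`;
* `CvLine` : `k = 2`, `k' ≤ 2` : `LineD M M' i i'` (`|I| = 1`);
* `CvMix` : `LineD`, neither `V_i` nor `V'_{i'}` is unmixed;
* `UnM M i` : `V_i` is unmixed: `[V_i, V_i^g] ≠ 1` for some `g ∈ N_G(R)`; then, with `T = N_S(V_i)`, `D ≠ 1`:
  `CvOneA2`, `CvOneA4` : CASE 1 (`T` Sylow in `N_G(R)`), `q = 2`, `q ≥ 4`; `CvTwoA` : CASE 2a, `T` is Sylow in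
  `N_G(V_i)` and not in `N_G(R)`; `CvTwoB` : CASE 2b, `V_i` and `R` are normalised by a Sylow 2-subgroup of `G`;
* `CvOne` : `k' = 1`, `V'` is unmixed.
-/

set_option autoImplicit false
set_option linter.unusedSectionVars false

namespace Cfsg.Agent.Omega.IId.Cv

open Subgroup Pointwise Cfsg Cfsg.Agent.ZN Cfsg.Agent.ZN.ChoiceBase
open Cfsg.Agent.Omega.MinPar Cfsg.Agent.Omega.Frame Cfsg.Agent.Omega.FFThm Cfsg.Agent.Omega.FrameMulti
open Cfsg.Agent.Omega.FrameLE (AllIn)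
open Cfsg.Agent.Omega.FrameFF (cv Free)
open Cfsg.Agent.Omega.HOne.Main (vx SplitPar)
open Cfsg.Agent.Omega.IId.NV

universe u

/-- (NF): no mutual pair with a member with `k ≥ 2` natural factors has both members `Free`. -/
def NoFree {G : Type u} [Group G] (S : Subgroup G) : Prop :=
  ∀ (Q₁ Q₂ : Subgroup G) (x : G), Mutual S Q₁ Q₂ x → ∀ k, 2 ≤ k → IsNat S Q₁ k → ¬ (Free S Q₁ ∧ Free S Q₂)

/-- The standing hypotheses. -/
structure HypN (K : Cls.{u}) {G : Type u} [Group G] [Finite G] (S : Sylow 2 G) : Prop extends Hyp K S where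
  nf : NoFree (S : Subgroup G)

/-! ### The data -/

section data

variable {G : Type u} [Group G] [Finite G] {F F' : Type} [Field F] [Field F'] {S S' : Sylow 2 G}
  {P P' V V' D D' : Subgroup G} {k k' : ℕ}

/-- `V_i` is unmixed: it does not commute with all its conjugates under `N_G(R)`, `R` the line of `V_i`. -/
def UnM (M : NatD F S P V D k) (i : Fin k) : Prop :=
  ∃ g ∈ normalizer (NV.line M.toNatV i : Set G), ∃ v ∈ NV.fac M.toNatV i, ∃ w ∈ NV.fac M.toNatV i,
    v * (g * w * g⁻¹) ≠ g * w * g⁻¹ * v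

/-- `[V_P, V_{P'}] = R` is a line of `V_i` and of `V'_{i'}`. -/
structure LineD (M : NatD F S P V D k) (M' : NatD F' S' P' V' D' k') (i : Fin k) (i' : Fin k') : Prop where
  eq : ⁅zl (S : Subgroup G) P, zl (S' : Subgroup G) P'⁆ = NV.line M.toNatV i
  eq' : NV.line M.toNatV i = NV.line M'.toNatV i'
  card : Nat.card F' = Nat.card F
  le : NV.fac M.toNatV i ≤ o2 (normalizer (NV.line M.toNatV i : Set G))
  le' : NV.fac M'.toNatV i' ≤ o2 (normalizer (NV.line M.toNatV i : Set G))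
  ne : ∃ v ∈ NV.fac M.toNatV i, ∃ w ∈ NV.fac M'.toNatV i', v * w ≠ w * v

end data

/-! ### The sockets -/

section sockets

variable (K : Cls.{u})

/-- `WrCv` under (NF). -/
def WrCvN : Prop :=
  ∀ (G : Type u) [Group G] [Finite G] (S S' : Sylow 2 G), HypN K S → ∀ (P P' : Subgroup G), Pair S S' P P' →
    ∀ k, 2 ≤ k → IsNat (S : Subgroup G) P k →
      ¬ (Free (S : Subgroup G) P ∧ Free (S' : Subgroup G) P') → IsKnownSimple' G

/-- `P'` of type `S_{2^m+1}`. (helper994) -/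
def CvSym : Prop :=
  ∀ (G : Type u) [Group G] [Finite G] (S S' : Sylow 2 G), HypN K S → ∀ (P P' : Subgroup G), Pair S S' P P' →
    ∀ k, 2 ≤ k → IsNat (S : Subgroup G) P k →
      ¬ (Free (S : Subgroup G) P ∧ Free (S' : Subgroup G) P') →
      ∀ k' m', 1 ≤ k' → 2 ≤ m' → IsSym (S' : Subgroup G) P' k' m' → IsKnownSimple' G

/-- One side is not split (`q ≥ 4`). (helper882) -/
def CvNonsplit : Prop :=
  ∀ (G : Type u) [Group G] [Finite G] (S S' : Sylow 2 G), HypN K S → ∀ (P P' : Subgroup G), Pair S S' P P' →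
    ∀ k k', 2 ≤ k → 1 ≤ k' → IsNat (S : Subgroup G) P k → IsNat (S' : Subgroup G) P' k' →
      ¬ (SplitPar (S : Subgroup G) P ∧ SplitPar (S' : Subgroup G) P') → IsKnownSimple' G

/-- Both sides split, more than two factors on one side. (helper479) -/
def CvBig : Prop :=
  ∀ (G : Type u) [Group G] [Finite G] (S S' : Sylow 2 G), HypN K S → ∀ (P P' : Subgroup G), Pair S S' P P' →
    ∀ (F F' : Type) [Field F] [Finite F] [CharP F 2] [Field F'] [Finite F'] [CharP F' 2]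
      (V V' D D' : Subgroup G) (k k' : ℕ) (_ : NatD F S P V D k) (_ : NatD F' S' P' V' D' k'), 2 ≤ k → 1 ≤ k' →
      D ≠ ⊥ ∨ D' ≠ ⊥ → 2 < k ∨ 2 < k' → IsKnownSimple' G

/-- `|I| = 1` and the entry. (helper51) -/
def CvLine : Prop :=
  ∀ (G : Type u) [Group G] [Finite G] (S S' : Sylow 2 G), HypN K S → ∀ (P P' : Subgroup G), Pair S S' P P' →
    ∀ (F F' : Type) [Field F] [Finite F] [CharP F 2] [Field F'] [Finite F'] [CharP F' 2]
      (V V' D D' : Subgroup G) (k' : ℕ) (M : NatD F S P V D 2) (M' : NatD F' S' P' V' D' k'), 1 ≤ k' → k' ≤ 2 →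
      ∃ i i', LineD M M' i i'

/-- Neither `V_i` nor `V'_{i'}` is unmixed. (helper994) -/
def CvMix : Prop :=
  ∀ (G : Type u) [Group G] [Finite G] (S S' : Sylow 2 G), HypN K S → ∀ (P P' : Subgroup G), Pair S S' P P' →
    ∀ (F F' : Type) [Field F] [Finite F] [CharP F 2] [Field F'] [Finite F'] [CharP F' 2]
      (V V' D D' : Subgroup G) (k' : ℕ) (M : NatD F S P V D 2) (M' : NatD F' S' P' V' D' k'), 1 ≤ k' → k' ≤ 2 →
      D ≠ ⊥ ∨ D' ≠ ⊥ → ∀ i i', LineD M M' i i' → ¬ UnM M i → ¬ UnM M' i' → IsKnownSimple' G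

/-- CASE 1, `q = 2`. -/
def CvOneA2 : Prop :=
  ∀ (G : Type u) [Group G] [Finite G] (S : Sylow 2 G), HypN K S → ∀ (P : Subgroup G)
    (F : Type) [Field F] [Finite F] [CharP F 2] (V D : Subgroup G) (M : NatD F S P V D 2) (i : Fin 2),
      D ≠ ⊥ → UnM M i → ¬ 2 ∣ (NV.stab M.toNatV i).relIndex (normalizer (NV.line M.toNatV i : Set G)) →
        Nat.card F = 2 → False

/-- CASE 1, `q ≥ 4`. -/
def CvOneA4 : Prop :=
  ∀ (G : Type u) [Group G] [Finite G] (S : Sylow 2 G), HypN K S → ∀ (P : Subgroup G)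
    (F : Type) [Field F] [Finite F] [CharP F 2] (V D : Subgroup G) (M : NatD F S P V D 2) (i : Fin 2),
      D ≠ ⊥ → UnM M i → ¬ 2 ∣ (NV.stab M.toNatV i).relIndex (normalizer (NV.line M.toNatV i : Set G)) →
        4 ≤ Nat.card F → False

/-- CASE 2a: `T = N_S(V_i)` is Sylow in `N_G(V_i) ∩ N_G(R)`, but not in `N_G(R)`.
(`q = 2`: #17371 helper440, #17699 helper994) -/
def CvTwoA : Prop :=
  ∀ (G : Type u) [Group G] [Finite G] (S : Sylow 2 G), HypN K S → ∀ (P : Subgroup G)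
    (F : Type) [Field F] [Finite F] [CharP F 2] (V D : Subgroup G) (M : NatD F S P V D 2) (i : Fin 2),
      D ≠ ⊥ → UnM M i → 2 ∣ (NV.stab M.toNatV i).relIndex (normalizer (NV.line M.toNatV i : Set G)) →
        (¬ ∃ T₁ : Sylow 2 G, NV.stab M.toNatV i ≤ T₁ ∧
          (T₁ : Subgroup G) ≤ normalizer (NV.fac M.toNatV i : Set G) ⊓ normalizer (NV.line M.toNatV i : Set G)) → False

/-- CASE 2b: `V_i` and `R` are normalised by a Sylow 2-subgroup of `G`. -/
def CvTwoB : Prop :=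
  ∀ (G : Type u) [Group G] [Finite G] (S : Sylow 2 G), HypN K S → ∀ (P : Subgroup G)
    (F : Type) [Field F] [Finite F] [CharP F 2] (V D : Subgroup G) (M : NatD F S P V D 2) (i : Fin 2),
      D ≠ ⊥ → UnM M i → ∀ T₁ : Sylow 2 G, NV.stab M.toNatV i ≤ T₁ →
        (T₁ : Subgroup G) ≤ normalizer (NV.fac M.toNatV i : Set G) ⊓ normalizer (NV.line M.toNatV i : Set G) →
          IsKnownSimple' G

/-- `k' = 1`, `V'` is unmixed. -/
def CvOne : Prop :=
  ∀ (G : Type u) [Group G] [Finite G] (S S' : Sylow 2 G), HypN K S → ∀ (P P' : Subgroup G), Pair S S' P P' →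
    ∀ (F F' : Type) [Field F] [Finite F] [CharP F 2] [Field F'] [Finite F'] [CharP F' 2]
      (V V' D D' : Subgroup G) (M : NatD F S P V D 2) (M' : NatD F' S' P' V' D' 1),
      D ≠ ⊥ ∨ D' ≠ ⊥ → ∀ i i', LineD M M' i i' → UnM M' i' → IsKnownSimple' G

end sockets

/-! ### Conjugation -/

section conj

variable {G : Type u} [Group G]

theorem free_cj {S P : Subgroup G} (y : G) : Free (cj y S) (cj y P) ↔ Free S P := by
  unfold Free
  rw [cv_cj]
  constructor
  · intro h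
    have h1 := congrArg (cj y⁻¹) h
    rw [cj_inv_cj] at h1
    rw [h1]
    exact Subgroup.map_bot _
  · intro h
    rw [h]
    exact Subgroup.map_bot _

theorem NoFree.conj {S S' : Subgroup G} {y : G} (hS : cj y S = S') (h : NoFree S) : NoFree S' := by
  intro Q₁ Q₂ x hm k hk hN hf
  have e1 : cj y⁻¹ S' = S := by rw [← hS, cj_inv_cj]
  refine h _ _ _ (mutual_cj hS hm) k hk ?_ ⟨?_, ?_⟩
  · have := isNat_cj hN y⁻¹
    rwa [e1] at this
  · have := (free_cj (S := S') (P := Q₁) y⁻¹).2 hf.1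
    rwa [e1] at this
  · have := (free_cj (S := S') (P := Q₂) y⁻¹).2 hf.2
    rwa [e1] at this

theorem HypN.conj [Finite G] {K : Cls.{u}} {S : Sylow 2 G} (h : HypN K S) (S' : Sylow 2 G) : HypN K S' := by
  have : Fact (Nat.Prime 2) := ⟨Nat.prime_two⟩
  obtain ⟨y, hy⟩ := MulAction.exists_smul_eq G S S'
  have hS : cj y (S : Subgroup G) = (S' : Subgroup G) := by
    rw [← hy]; rfl
  exact { h.toHyp.conj S' with nf := h.nf.conj hS }

end conj

/-! ### `WrCvN` from the sockets -/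

section assembly

variable {G : Type u} [Group G] [Finite G] {F : Type} [Field F] [CharP F 2] {S : Sylow 2 G}
  {P V D : Subgroup G} (M : NatD F S P V D 2) {i : Fin 2}

/-- `V_P ≤ O₂(N_G(R))` -/
theorem zl_le_o2_line (hle : NV.fac M.toNatV i ≤ o2 (normalizer (NV.line M.toNatV i : Set G))) :
    zl (S : Subgroup G) P ≤ o2 (normalizer (NV.line M.toNatV i : Set G)) := by
  obtain ⟨j, hji⟩ := exists_ne i
  have hj := (fac_le_o2_line M hji.symm).1
  have hV : V ≤ o2 (normalizer (NV.line M.toNatV i : Set G)) :=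
    (NV.sup_fac M.toNatV hji.symm).ge.trans (sup_le hle hj)
  have hSP := SP M
  intro v hv
  obtain ⟨n, hn, d, hd, rfl⟩ := M.dec v hv
  refine mul_mem (hV hn) (zc_stab_le_o2_line M hji.symm ?_).1
  have hdP : ∀ p ∈ P, p * d = d * p := fun p hp => (mem_centralizer_iff.1 (M.cD hp) d hd).symm
  have hdS : d ∈ (S : Subgroup G) :=
    ((zl_le_zz M).trans ((MinSimple.VModule.zc_le _).trans (o2_le_S M))) (M.D_le hd)
  rw [MinSimple.VModule.mem_zc]
  refine ⟨mem_inf.2 ⟨hdS, ?_⟩, fun t ht => hdP t (hSP (NV.stab_le _ _ ht)), ?_⟩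
  · refine centralizer_le_normalizer _ (mem_centralizer_iff.2 fun v hv => ?_)
    exact hdP v (hSP ((V_le_S M) (NV.fac_le _ _ hv)))
  · rw [pow_two]
    exact mul_self_zc ((zl_le_zz M) (M.D_le hd))

/-- An unmixed `V_i` gives a mutual pair `(V_P, V_P^g)`. -/
theorem mutual_of_unM (hle : NV.fac M.toNatV i ≤ o2 (normalizer (NV.line M.toNatV i : Set G))) (hu : UnM M i) :
    ∃ g, Mutual (S : Subgroup G) P P g := by
  obtain ⟨g, hg, v, hv, w, hw, hne⟩ := hu
  obtain ⟨j, hji⟩ := exists_ne i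
  have hle' := zl_le_o2_line M hle
  have hQ := o2_line_le M hji.symm
  have hSP := SP M
  have hz : P ≤ normalizer (zl (S : Subgroup G) P : Set G) := MinSimple.VModule.le_normalizer_zl _ _
  have hQP : o2 (normalizer (NV.line M.toNatV i : Set G)) ≤ P := (hQ.trans (NV.stab_le _ _)).trans hSP
  have hgQ : cj g (o2 (normalizer (NV.line M.toNatV i : Set G))) = o2 (normalizer (NV.line M.toNatV i : Set G)) :=
    cj_eq_of_mem_normalizer (MinSimple.VModule.le_normalizer_o2 _ hg)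
  refine ⟨g, M.star, M.star, ?_, ?_, ?_⟩
  · change _ ≤ normalizer ((cj g (zl (S : Subgroup G) P) : Subgroup G) : Set G)
    rw [← cj_normalizer]
    refine hle'.trans ?_
    rw [← hgQ]
    exact cj_mono g (hQP.trans hz)
  · change cj g (zl (S : Subgroup G) P) ≤ _
    have := cj_mono g hle'
    rw [hgQ] at this
    exact this.trans (hQP.trans hz)
  · intro h0
    rw [commutator_eq_bot_iff_le_centralizer] at h0
    have h1 : g * w * g⁻¹ ∈ cj g (zl (S : Subgroup G) P) := by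
      rw [mem_cj_iff]
      have e : g⁻¹ * (g * w * g⁻¹) * g = w := by group
      rw [e]
      exact M.V_le (NV.fac_le _ _ hw)
    exact hne (mem_centralizer_iff.1 (h0 (M.V_le (NV.fac_le _ _ hv))) _ h1).symm

end assembly

/-- `V_i` unmixed implies `D ≠ 1`. -/
theorem cv_ne_bot {K : Cls.{u}} {G : Type u} [Group G] [Finite G] {F : Type} [Field F] [CharP F 2] {S : Sylow 2 G}
    {P V : Subgroup G} {i : Fin 2} (hH : HypN K S) (hN : IsNat (S : Subgroup G) P 2)
    (M : NatD F S P V (cv (S : Subgroup G) P) 2)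
    (hle : NV.fac M.toNatV i ≤ o2 (normalizer (NV.line M.toNatV i : Set G))) (hu : UnM M i) :
    cv (S : Subgroup G) P ≠ ⊥ := by
  obtain ⟨g, hg⟩ := mutual_of_unM M hle hu
  exact fun h0 => hH.nf P P g hg 2 le_rfl hN ⟨h0, h0⟩

/-- The unmixed case, two factors. -/
theorem unM_known {K : Cls.{u}} (h1 : CvOneA2 K) (h2 : CvOneA4 K) (h3 : CvTwoA K) (h4 : CvTwoB K) {G : Type u}
    [Group G] [Finite G] {S : Sylow 2 G} (hH : HypN K S) {P : Subgroup G} {F : Type} [Field F] [Finite F]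
    [CharP F 2] {V D : Subgroup G} (M : NatD F S P V D 2) (i : Fin 2) (hD : D ≠ ⊥) (hu : UnM M i) :
    IsKnownSimple' G := by
  by_cases hd : 2 ∣ (NV.stab M.toNatV i).relIndex (normalizer (NV.line M.toNatV i : Set G))
  · by_cases hT : ∃ T₁ : Sylow 2 G, NV.stab M.toNatV i ≤ T₁ ∧
        (T₁ : Subgroup G) ≤ normalizer (NV.fac M.toNatV i : Set G) ⊓ normalizer (NV.line M.toNatV i : Set G)
    · obtain ⟨T₁, h5, h6⟩ := hT
      exact h4 G S hH P F V D M i hD hu T₁ h5 h6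
    · exact (h3 G S hH P F V D M i hD hu hd hT).elim
  · rcases FrameFF.two_le_card (F := F) with hq | hq
    · exact (h1 G S hH P F V D M i hD hu hd hq).elim
    · exact (h2 G S hH P F V D M i hD hu hd hq).elim

/-- **`WrCvN` from its sockets.** -/
theorem wrCvN_of {K : Cls.{u}} (hS : CvSym K) (hN : CvNonsplit K) (hB : CvBig K) (hL : CvLine K) (hM : CvMix K)
    (h1 : CvOneA2 K) (h2 : CvOneA4 K) (h3 : CvTwoA K) (h4 : CvTwoB K) (hO : CvOne K) : WrCvN K := by
  intro G _ _ S S' hH P P' hp k hk hk2 hf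
  obtain ⟨t, t'⟩ := hH.toHyp.typed' hp
  rcases t'.cases with ⟨k', hk', hN'⟩ | ⟨k', m', hk', hm', hS'⟩
  · by_cases hs : SplitPar (S : Subgroup G) P ∧ SplitPar (S' : Subgroup G) P'
    · obtain ⟨F, _, _, _, ⟨M₀⟩⟩ := hk2
      obtain ⟨F', _, _, _, ⟨M₀'⟩⟩ := hN'
      have hc := hH.ctx.char2
      have M := NatD.ofSplit hc hp.star M₀ hs.1
      have M' := NatD.ofSplit hc hp.star' M₀' hs.2
      have hD : cv (S : Subgroup G) P ≠ ⊥ ∨ cv (S' : Subgroup G) P' ≠ ⊥ := by
        by_contra hcon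
        push Not at hcon
        exact hf hcon
      by_cases hb : 2 < k ∨ 2 < k'
      · exact hB G S S' hH P P' hp F F' _ _ _ _ k k' M M' hk hk' hD hb
      push Not at hb
      obtain rfl : k = 2 := le_antisymm hb.1 hk
      obtain ⟨i, i', L⟩ := hL G S S' hH P P' hp F F' _ _ _ _ k' M M' hk' hb.2
      by_cases hu : UnM M i
      · exact unM_known h1 h2 h3 h4 hH M i
          (cv_ne_bot hH ⟨F, inferInstance, inferInstance, inferInstance, ⟨M₀⟩⟩ M L.le hu) hu
      by_cases hu' : UnM M' i'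
      · rcases (show k' = 1 ∨ k' = 2 by omega) with rfl | rfl
        · exact hO G S S' hH P P' hp F F' _ _ _ _ M M' hD i i' L hu'
        · have hle' := L.le'
          rw [L.eq'] at hle'
          exact unM_known h1 h2 h3 h4 (hH.conj S') M' i'
            (cv_ne_bot (hH.conj S') ⟨F', inferInstance, inferInstance, inferInstance, ⟨M₀'⟩⟩ M' hle' hu') hu'
      exact hM G S S' hH P P' hp F F' _ _ _ _ k' M M' hk' hb.2 hD i i' L hu hu'
    · exact hN G S S' hH P P' hp k k' hk hk' hk2 hN' hs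
  · exact hS G S S' hH P P' hp k hk hk2 hf k' m' hk' hm' hS'

/-! ### `LeafWr` from `WrCvN` -/

section leaf

variable {K : Cls.{u}}

/-- **II.d, natural factors**, with `WrCvN` for `WrCv` (`WrMain4` must not use `MinWr`: `WrMain4N`). -/
def WrMain4N (K : Cls.{u}) : Prop :=
  ∀ (G : Type u) [Group G] [Finite G] (S S' : Sylow 2 G), Hyp K S → ∀ (P P' : Subgroup G), Pair S S' P P' →
    ∀ (F F' : Type) [Field F] [Finite F] [CharP F 2] [Field F'] [Finite F'] [CharP F' 2] (k' : ℕ)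
      (M : NatK F (S : Subgroup G) P (zl (S : Subgroup G) P) ⊥ 2)
      (_ : NatK F' (S' : Subgroup G) P' (zl (S' : Subgroup G) P') ⊥ k'), 1 ≤ k' → k' ≤ 2 →
      ∀ i, ⁅zl (S : Subgroup G) P, zl (S' : Subgroup G) P'⁆ = IId.line M i →
        ¬ 2 ∣ (IId.stab M i).relIndex (normalizer (IId.line M i : Set G)) → 4 ≤ Nat.card F → False

/-- The pair is chosen with both members `Free` if possible. -/
theorem leafWrN (h1 : WrCvN K) (h2 : WrSym K) (h3 : WrTwo K) (h4 : WrBig K) (h5 : WrTri K) (h6 : WrMain2 K)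
    (h7 : WrMain4N K) : LeafWr K := by
  intro G _ _ hG hcl S hF hLE hAT Q₁ Q₂ y₀ hm₀ k₀ hk₀ hN₀
  have hH : Hyp K S := ⟨hG, hcl, hF, hLE, hAT⟩
  by_cases hnf : NoFree (S : Subgroup G)
  · obtain ⟨y, hm', hp⟩ := exists_pair hG.char2 S hm₀
    refine h1 G S (sy y S) { hH with nf := hnf } Q₁ (cj y Q₂) hp k₀ hk₀ hN₀ fun hf => ?_
    refine hnf Q₁ Q₂ y₀ hm₀ k₀ hk₀ hN₀ ⟨hf.1, ?_⟩
    have h := hf.2
    rw [sy_coe] at h
    exact (free_cj y).1 h
  unfold NoFree at hnf
  push Not at hnf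
  obtain ⟨P₁, P₂, x, hm, k, hk, hN, f1, f2'⟩ := hnf
  obtain ⟨y, hm', hp⟩ := exists_pair hG.char2 S hm
  have f2 : Free ((sy y S : Sylow 2 G) : Subgroup G) (cj y P₂) := by
    rw [sy_coe]
    exact (free_cj y).2 f2'
  have hT2 : Typed (S : Subgroup G) P₂ := (hAT P₁ P₂ x hm).2
  have hT2' : Typed ((sy y S : Sylow 2 G) : Subgroup G) (cj y P₂) := by
    rw [sy_coe]
    exact typed_cj hT2 y
  rcases hT2'.cases with ⟨k', hk', hN'⟩ | ⟨k', m', hk', hm', hS'⟩
  · obtain ⟨F, i1, i2, i3, ⟨M⟩⟩ := hN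
    obtain ⟨F', i1', i2', i3', ⟨M'⟩⟩ := hN'
    rw [show cv (S : Subgroup G) P₁ = ⊥ from f1] at M
    rw [show cv ((sy y S : Sylow 2 G) : Subgroup G) (cj y P₂) = ⊥ from f2] at M'
    by_cases hc : Nat.card ↥⁅zl (S : Subgroup G) P₁, zl ((sy y S : Sylow 2 G) : Subgroup G) (cj y P₂)⁆ =
        Nat.card F
    · by_cases hb : 2 < k ∨ 2 < k'
      · exact h4 G S (sy y S) hH P₁ (cj y P₂) hp F F' k k' M M' hk hk' hb hc
      · push Not at hb
        obtain rfl : k = 2 := le_antisymm hb.1 hk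
        obtain ⟨I, hI⟩ := IId.exists_ind M hp.le (hp.off hG.char2 hT2'.noOver)
        obtain ⟨i, -, hi⟩ := hI.eq_line (hp.le.trans hm.star₁.le) hc
        by_cases hd : 2 ∣ (IId.stab M i).relIndex (normalizer (IId.line M i : Set G))
        · exact h5 G S (sy y S) hH P₁ (cj y P₂) hp F F' k' M M' hk' hb.2 i hi hd
        · rcases FrameFF.two_le_card (F := F) with hq | hq
          · exact (h6 G S (sy y S) hH P₁ (cj y P₂) hp F F' k' M M' hk' hb.2 i hi hd hq).elim
          · exact (h7 G S (sy y S) hH P₁ (cj y P₂) hp F F' k' M M' hk' hb.2 i hi hd hq).elim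
    · exact (h3 G S (sy y S) hH P₁ (cj y P₂) hp F F' k k' M M' hk hk' hc).elim
  · exact h2 G S (sy y S) hH P₁ (cj y P₂) hp k hk hN f1 f2 k' m' hk' hm' hS'

end leaf

end Cfsg.Agent.Omega.IId.Cv

end

section


/-!
# II.d, `V_P = V × D`: `Ω₁(Z(N_S(V₁)))` and the centralisers of the elements of `D`

* `zl_le_of_loc` : `V_P ≤ V_H ≤ Ω₁(Z(O₂(H)))` for `P ≤ H ∈ L(S)`; `comm_of_loc` : `[V_P, V_P^g] = 1` for `g ∈ H`;
* `comm_of_D` : the same for `H = C_G(d)`, `1 ≠ d ∈ D`; `inf_D_eq_bot` : `D ∩ D' = 1` for a noncommuting pair;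
* `q = 2`, `k = 2`: `DT M` := `C(grp M {0}, grp M {1}) ∩ Ω₁(Z(stab M i))`; `zc_stab_eq` : every element of
  `Ω₁(Z(stab M i))` is a product `a b c` with `a ∈ V₁ ∩ Z`, `b ∈ V₂ ∩ Z`, `c ∈ DT M`; `DT_inf_zc`;
* `cent_half` : `fac M i ≤ Z(O₂(C_G(e)))` for `e ∈ Ω₁(Z(stab M i))` centralised by `grp M {i}`.
-/

set_option autoImplicit false
set_option linter.unusedSectionVars false

namespace Cfsg.Agent.Omega.IId.NV

open Subgroup Cfsg Cfsg.Agent.ZN Cfsg.Agent.ZN.ChoiceBase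
open Cfsg.Agent.Omega.MinPar Cfsg.Agent.Omega.FFThm
open Cfsg.Agent.Lib.SL2Mat
open Cfsg.Agent.MinSimple
open Cfsg.Agent.MinSimple.VModule (zc_le zc_comm zc_sq zc_le_zl le_normalizer_o2 o2_isPGroup o2_le
  normalizer_le_normalizer_zc le_normalizer_zl)
open Cfsg.Agent.Omega.NatPair (ap ap_mul ap_one ap_inv_ap ap_ap_inv exists_ap ap_add ext2)

universe u

/-! ### Locals over `P` -/

section loc

variable {G : Type u} [Group G] [Finite G] (hG : IsCharacteristicTwoType G) (S : Sylow 2 G) {P H : Subgroup G}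

theorem zl_mono {T A B : Subgroup G} (h : A ≤ B) : zl T A ≤ zl T B :=
  MinSimple.VModule.zl_le (zc_le_zl T B) (h.trans (le_normalizer_zl T B))

include hG in
/-- `V_P ≤ V_H ≤ Ω₁(Z(O₂(H)))` -/
theorem zl_le_of_loc (hH : IsLoc (S : Subgroup G) H) (hPH : P ≤ H) :
    zl (S : Subgroup G) P ≤ zc (o2 H) := (zl_mono hPH).trans (hH.zl_le S hG)

include hG in
/-- `[V_P, V_P^g] = 1` for `g ∈ H ≥ P` -/
theorem comm_of_loc (hH : IsLoc (S : Subgroup G) H) (hPH : P ≤ H) {g v w : G} (hg : g ∈ H)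
    (hv : v ∈ zl (S : Subgroup G) P) (hw : w ∈ zl (S : Subgroup G) P) : v * (g * w * g⁻¹) = g * w * g⁻¹ * v := by
  have h1 := zl_le_of_loc hG S hH hPH hv
  have h2 := zl_le_of_loc hG S hH hPH hw
  have h3 : g * w * g⁻¹ ∈ zc (o2 H) := zz_mem hg h2
  exact zc_comm _ _ h1 _ h3

/-- the modules `V_H` for two Sylow 2-subgroups of `G` in `H` -/
theorem zl_eq_of_sylow (S' : Sylow 2 G) (h : (S : Subgroup G) ≤ H) (h' : (S' : Subgroup G) ≤ H) :
    zl (S : Subgroup G) H = zl (S' : Subgroup G) H := by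
  have key : ∀ (A B : Sylow 2 G), (A : Subgroup G) ≤ H → (B : Subgroup G) ≤ H →
      zl (A : Subgroup G) H ≤ zl (B : Subgroup G) H := by
    intro A B hA hB
    obtain ⟨g, hg⟩ := MulAction.exists_smul_eq H (A.subtype hA) (B.subtype hB)
    refine MinSimple.VModule.zl_le ?_ (le_normalizer_zl _ _)
    intro z hz
    have h1 : (g : G) * z * (g : G)⁻¹ ∈ zc (B : Subgroup G) := by
      obtain ⟨z1, z2, z3⟩ := VModule.mem_zc.1 hz
      have hmem : ∀ x : G, x ∈ (A : Subgroup G) → (g : G) * x * (g : G)⁻¹ ∈ (B : Subgroup G) := by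
        intro x hx
        have h2 : g * (⟨x, hA hx⟩ : H) * g⁻¹ ∈ ((g • A.subtype hA : Sylow 2 H) : Subgroup H) := by
          rw [Sylow.coe_subgroup_smul, Subgroup.mem_pointwise_smul_iff_inv_smul_mem]
          have e : (MulAut.conj g)⁻¹ • (g * (⟨x, hA hx⟩ : H) * g⁻¹) = ⟨x, hA hx⟩ := by
            rw [← map_inv, MulAut.smul_def, MulAut.conj_apply]
            group
          rw [e]
          exact hx
        rw [hg] at h2
        exact h2
      have hmem' : ∀ x : G, x ∈ (B : Subgroup G) → (g : G)⁻¹ * x * (g : G) ∈ (A : Subgroup G) := by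
        intro x hx
        have h2 : (⟨x, hB hx⟩ : H) ∈ ((g • A.subtype hA : Sylow 2 H) : Subgroup H) := by
          rw [hg]
          exact hx
        rw [Sylow.coe_subgroup_smul, Subgroup.mem_pointwise_smul_iff_inv_smul_mem] at h2
        have e : (MulAut.conj g)⁻¹ • (⟨x, hB hx⟩ : H) = g⁻¹ * ⟨x, hB hx⟩ * g := by
          rw [← map_inv, MulAut.smul_def, MulAut.conj_apply, inv_inv]
        rw [e] at h2
        exact h2
      refine VModule.mem_zc.2 ⟨hmem z z1, fun y hy => ?_, ?_⟩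
      · have h2 := z2 _ (hmem' y hy)
        calc y * ((g : G) * z * (g : G)⁻¹) = g * (((g : G)⁻¹ * y * g) * z) * (g : G)⁻¹ := by group
          _ = g * (z * ((g : G)⁻¹ * y * g)) * (g : G)⁻¹ := by rw [h2]
          _ = (g : G) * z * (g : G)⁻¹ * y := by group
      · rw [pow_two] at z3 ⊢
        calc (g : G) * z * (g : G)⁻¹ * ((g : G) * z * (g : G)⁻¹) = g * (z * z) * (g : G)⁻¹ := by group
          _ = 1 := by rw [z3]; group
    have h2 := zc_le_zl _ H h1
    have h3 := (mem_normalizer_iff.1 (le_normalizer_zl (B : Subgroup G) H (inv_mem g.2)) _).1 h2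
    have e : (g : G)⁻¹ * ((g : G) * z * (g : G)⁻¹) * (g : G)⁻¹⁻¹ = z := by group
    rwa [e] at h3
  exact le_antisymm (key S S' h h') (key S' S h' h)

end loc

section D

variable {G : Type u} [Group G] [Finite G] {F F' : Type} [Field F] [Field F'] {S S' : Sylow 2 G}
  {P V D P' V' D' : Subgroup G} {k k' : ℕ} (M : NatD F S P V D k) (M' : NatD F' S' P' V' D' k')

include M in
/-- `P ≤ C_G(d)` -/
theorem P_le_cent {d : G} (hd : d ∈ D) : P ≤ centralizer ({d} : Set G) := by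
  intro p hp
  rw [mem_centralizer_singleton_iff]
  exact (mem_centralizer_iff.1 (M.cD hp) d hd).symm

include M in
theorem D_sq {d : G} (hd : d ∈ D) : d ^ 2 = 1 := by
  rw [pow_two]
  exact mul_self_zc (zl_le_zz M (M.D_le hd))

include M in
/-- `C_G(d) ∈ L(S)` for `1 ≠ d ∈ D` -/
theorem isLoc_cent {d : G} (hd : d ∈ D) (hd1 : d ≠ 1) :
    IsLoc (S : Subgroup G) (centralizer ({d} : Set G)) :=
  isLoc_centralizer S (D_sq M hd) hd1 ((SP M).trans (P_le_cent M hd))

include M in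
/-- `[V_P, V_P^g] = 1` for `g ∈ C_G(d)`, `1 ≠ d ∈ D` -/
theorem comm_of_D {d g v w : G} (hd : d ∈ D) (hd1 : d ≠ 1) (hg : g * d = d * g)
    (hv : v ∈ zl (S : Subgroup G) P) (hw : w ∈ zl (S : Subgroup G) P) :
    v * (g * w * g⁻¹) = g * w * g⁻¹ * v :=
  comm_of_loc M.hG S (isLoc_cent M hd hd1) (P_le_cent M hd) (mem_centralizer_singleton_iff.2 hg) hv hw

include M in
/-- `V_P ≤ Ω₁(Z(O₂(C_G(d))))`, `1 ≠ d ∈ D` -/
theorem zl_le_cent_D {d : G} (hd : d ∈ D) (hd1 : d ≠ 1) :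
    zl (S : Subgroup G) P ≤ zc (o2 (centralizer ({d} : Set G))) :=
  zl_le_of_loc M.hG S (isLoc_cent M hd hd1) (P_le_cent M hd)

include M M' in
/-- `D ∩ D' = 1` for a noncommuting pair -/
theorem inf_D_eq_bot {v w : G} (hv : v ∈ zl (S : Subgroup G) P) (hw : w ∈ zl (S' : Subgroup G) P')
    (hne : v * w ≠ w * v) : D ⊓ D' = ⊥ := by
  rw [eq_bot_iff]
  rintro d ⟨hd, hd'⟩
  rw [mem_bot]
  by_contra hd1
  apply hne
  have h1 := isLoc_cent M hd hd1
  have h2 := isLoc_cent M' hd' hd1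
  have h3 := zl_eq_of_sylow S S' h1.le h2.le
  have h4 := zl_mono (P_le_cent M hd) hv
  have h5 := zl_mono (P_le_cent M' hd') hw
  rw [h3] at h4
  exact zc_comm _ _ (h2.zl_le S' M.hG h4) _ (h2.zl_le S' M.hG h5)

include M in
/-- no 2-local contains `P` and an element `c` with `[V_P, V_P^c] ≠ 1` -/
theorem not_local_P {T₀ : Subgroup G} (hT : IsPGroup 2 T₀) (hT1 : T₀ ≠ ⊥) (hP : P ≤ normalizer (T₀ : Set G)) {c v w : G}
    (hc : c ∈ normalizer (T₀ : Set G)) (hv : v ∈ zl (S : Subgroup G) P) (hw : w ∈ zl (S : Subgroup G) P) :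
    v * (c * w * c⁻¹) = c * w * c⁻¹ * v :=
  comm_of_loc M.hG S (isLoc_normalizer S hT hT1 ((SP M).trans hP)) hP hc hv hw

end D

/-! ### `Ω₁(Z(stab M i))`, `k = 2` -/

section two

variable {G : Type u} [Group G] [Finite G] {F : Type} [Field F] [CharP F 2] {S : Sylow 2 G}
  {P V D : Subgroup G} (M : NatD F S P V D 2) {i j : Fin 2} (hij : i ≠ j)

/-- `C(⟨grp M {0}, grp M {1}⟩) ∩ Ω₁(Z(stab M 0))` -/
def DT : Subgroup G := zc (stab M.toNatV 0) ⊓ (centralizer (grp M.toNatV {0} : Set G) ⊓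
  centralizer (grp M.toNatV {1} : Set G))

theorem stab_zero (i : Fin 2) : stab M.toNatV i = stab M.toNatV 0 := by
  by_cases h : i = 0
  · rw [h]
  · exact stab_eq M.toNatV (SP M) h

theorem mem_DT {x : G} : x ∈ DT M ↔ x ∈ zc (stab M.toNatV i) ∧ ∀ l : Fin 2, ∀ g ∈ grp M.toNatV {l}, g * x = x * g := by
  rw [DT, mem_inf, mem_inf, mem_centralizer_iff, mem_centralizer_iff, stab_zero M i]
  constructor
  · rintro ⟨h1, h2, h3⟩
    refine ⟨h1, fun l g hg => ?_⟩
    fin_cases l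
    · exact h2 g hg
    · exact h3 g hg
  · rintro ⟨h1, h2⟩
    exact ⟨h1, fun g hg => h2 0 g hg, fun g hg => h2 1 g hg⟩

/-- `D ≤ DT M` -/
theorem D_le_DT : D ≤ DT M := by
  intro d hd
  rw [mem_DT M (i := 0)]
  refine ⟨VModule.mem_zc.2 ⟨?_, fun y hy => ?_, ?_⟩, fun l g hg => ?_⟩
  · refine o2_le_stb M (B := {0}) (zc_le _ (zl_le_zz M (M.D_le hd)))
  · exact (mem_centralizer_iff.1 (M.cD (SP M (stab_le _ _ hy))) d hd).symm
  · exact (VModule.mem_zc.1 (zl_le_zz M (M.D_le hd))).2.2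
  · exact (mem_centralizer_iff.1 (M.cD (grp_le _ _ hg)) d hd).symm

include hij

/-- **`fac M i ≤ Z(O₂(C_G(e)))`** for `e` centralised by `stab M i` and `grp M {i}` -/
theorem cent_half {e : G} (he : e ^ 2 = 1) (he1 : e ≠ 1) (hS : ∀ t ∈ stab M.toNatV i, t * e = e * t)
    (hL : ∀ g ∈ grp M.toNatV {i}, g * e = e * g) :
    fac M.toNatV i ≤ o2 (centralizer ({e} : Set G)) ∧
      o2 (centralizer ({e} : Set G)) ≤ centralizer (fac M.toNatV i : Set G) := by
  refine half_two M hij.symm (MinSimple.Basic.char2_centralizer M.hG he he1) ?_ ?_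
  · rw [← stab_eq M.toNatV (SP M) hij]
    exact fun t ht => mem_centralizer_singleton_iff.2 (hS t ht)
  · exact fun g hg => mem_centralizer_singleton_iff.2 (hL g hg)

end two

/-! ### `q = 2` -/

section q2

variable {G : Type u} [Group G] [Finite G] {F : Type} [Field F] [Finite F] [CharP F 2] {S : Sylow 2 G}
  {P V D : Subgroup G} (M : NatD F S P V D 2) (hF : Nat.card F = 2)

omit [CharP F 2] in
include hF in
theorem zero_or_one (c : F) : c = 0 ∨ c = 1 := by
  obtain ⟨y, hy, hu⟩ := (Nat.card_eq_two_iff' (0 : F)).1 hF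
  by_cases h : c = 0
  · exact Or.inl h
  · right
    rw [hu c h, hu 1 one_ne_zero]

/-- the elements of `fac M i`, `q = 2`: `a`, `b = a^x`, `c = b^x` -/
structure Abc (i : Fin 2) (x a b c : G) : Prop where
  x_mem : x ∈ grp M.toNatV {i}
  nx1 : ∀ v ∈ fac M.toNatV i, nx x v = 1
  a_mem : a ∈ line M.toNatV i
  a1 : a ≠ 1
  b_mem : b ∈ fac M.toNatV i
  b1 : b ≠ 1
  c_mem : c ∈ fac M.toNatV i
  xa : x * a * x⁻¹ = b
  xb : x * b * x⁻¹ = c
  xc : x * c * x⁻¹ = a
  ab : a ≠ b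
  ac : a ≠ c
  bc : b ≠ c
  mul : a * b = c
  all : ∀ v ∈ fac M.toNatV i, v = 1 ∨ v = a ∨ v = b ∨ v = c

include hF in
theorem exists_abc (i : Fin 2) : ∃ x a b c, Abc M i x a b c := by
  classical
  obtain ⟨A, hA3, hA1⟩ : ∃ A : Fin 2 → Matrix.SpecialLinearGroup (Fin 2) F,
      (∀ l ∈ ({i} : Set (Fin 2)), A l = HOne.three F) ∧ ∀ l, l ∉ ({i} : Set (Fin 2)) → A l = 1 :=
    ⟨fun l => if l = i then HOne.three F else 1, fun l hl => if_pos hl, fun l hl => if_neg hl⟩
  obtain ⟨x, hx, hA⟩ := M.lift A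
  have hxg : x ∈ grp M.toNatV {i} := ⟨hx, A, hA, hA1⟩
  obtain ⟨a, ha, hea⟩ := exists_fac M.toNatV i ![1, 0]
  have hT : ∀ v ∈ fac M.toNatV i, x * v * x⁻¹ ∈ fac M.toNatV i ∧
      M.e (x * v * x⁻¹) i = ![M.e v i 1, M.e v i 0 + M.e v i 1] := by
    intro v hv
    refine ⟨(mem_normalizer_iff.1 (grp_normalizes _ {i} {i} hxg) v).1 hv, ?_⟩
    rw [hA.1 v hv.1 i, hA3 i rfl]
    refine ext2 ?_ ?_
    · simp [ap, HOne.three]
    · simp [ap, HOne.three]
  obtain ⟨hb, heb⟩ := hT a ha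
  obtain ⟨hc, hec⟩ := hT _ hb
  obtain ⟨hd, hed⟩ := hT _ hc
  have h3 : (1 : F) + 1 = 0 := CharTwo.add_self_eq_zero 1
  have heb' : M.e (x * a * x⁻¹) i = ![0, 1] := by
    rw [heb, hea]
    refine ext2 ?_ ?_ <;> simp
  have hec' : M.e (x * (x * a * x⁻¹) * x⁻¹) i = ![1, 1] := by
    rw [hec, heb']
    refine ext2 ?_ ?_ <;> simp
  have hed' : M.e (x * (x * (x * a * x⁻¹) * x⁻¹) * x⁻¹) i = ![1, 0] := by
    rw [hed, hec']
    refine ext2 ?_ ?_
    · simp
    · simp [h3]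
  have hne : ∀ {v w : G}, M.e v i ≠ M.e w i → v ≠ w := fun h h1 => h (by rw [h1])
  refine ⟨x, a, x * a * x⁻¹, x * (x * a * x⁻¹) * x⁻¹,
    { x_mem := hxg
      nx1 := fun v hv => ?_
      a_mem := (mem_line _).2 ⟨ha, by rw [hea]; rfl⟩
      a1 := fun h => ?_
      b_mem := hb
      b1 := fun h => ?_
      c_mem := hc
      xa := rfl
      xb := rfl
      xc := ext_fac _ hd ha (by rw [hed', hea])
      ab := hne fun h => ?_
      ac := hne fun h => ?_
      bc := hne fun h => ?_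
      mul := ?_
      all := fun v hv => ?_ }⟩
  · obtain ⟨h1, h2⟩ := hT v hv
    obtain ⟨h4, h5⟩ := hT _ h1
    have h6 : v * (x * v * x⁻¹) * (x * (x * v * x⁻¹) * x⁻¹) ∈ fac M.toNatV i := mul_mem (mul_mem hv h1) h4
    refine (fac_eq_one _ h6).1 ?_
    rw [M.mul _ (mul_mem hv h1).1 _ h4.1, M.mul _ hv.1 _ h1.1, Pi.add_apply, Pi.add_apply, h5, h2]
    refine ext2 ?_ ?_
    · simp only [Pi.add_apply, Pi.zero_apply, Matrix.cons_val_zero, Matrix.cons_val_one]
      linear_combination (M.e v i 0 + M.e v i 1) * h3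
    · simp only [Pi.add_apply, Pi.zero_apply, Matrix.cons_val_zero, Matrix.cons_val_one]
      linear_combination (M.e v i 0 + 2 * M.e v i 1) * h3
  · rw [h, e_one] at hea
    have := congrFun hea 0
    simp at this
  · rw [h, e_one] at heb'
    have := congrFun heb' 1
    simp at this
  · rw [hea, heb'] at h
    have := congrFun h 0
    simp at this
  · rw [hea, hec'] at h
    have := congrFun h 1
    simp at this
  · rw [heb', hec'] at h
    have := congrFun h 0
    simp at this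
  · refine ext_fac _ (mul_mem ha hb) hc ?_
    rw [M.mul _ ha.1 _ hb.1, Pi.add_apply, hea, heb', hec']
    refine ext2 ?_ ?_ <;> simp
  · rcases zero_or_one hF (M.e v i 0) with h0 | h0 <;> rcases zero_or_one hF (M.e v i 1) with h1 | h1
    · left
      exact (fac_eq_one _ hv).1 (ext2 h0 h1)
    · right; right; left
      refine ext_fac _ hv hb ?_
      rw [heb']
      exact ext2 h0 h1
    · right; left
      refine ext_fac _ hv ha ?_
      rw [hea]
      exact ext2 h0 h1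
    · right; right; right
      refine ext_fac _ hv hc ?_
      rw [hec']
      exact ext2 h0 h1

variable {M} {i j : Fin 2} (hij : i ≠ j) {x a b c : G} (h : Abc M i x a b c)

include h

/-- `stab M i` centralises `a` -/
theorem Abc.stab_a {t : G} (ht : t ∈ stab M.toNatV i) : t * a * t⁻¹ = a := by
  have h1 := (mem_normalizer_iff.1 (stab_normalizes_line M.toNatV (SP M) i ht) a).1 h.a_mem
  rw [mem_line] at h1
  have ha := h.a_mem
  rw [mem_line] at ha
  rcases h.all _ h1.1 with h2 | h2 | h2 | h2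
  · exfalso
    apply h.a1
    have e : a = t⁻¹ * (t * a * t⁻¹) * t := by group
    rw [e, h2]
    group
  · exact h2
  · exfalso
    have h3 : b ∈ line M.toNatV i := (mem_line _).2 ⟨h.b_mem, h2 ▸ h1.2⟩
    -- `line` is stable under `x`?  `a`, `b` generate `fac M i`
    have h4 : ∀ v ∈ fac M.toNatV i, M.e v i 1 = 0 := by
      intro v hv
      rcases h.all v hv with h5 | h5 | h5 | h5
      · rw [h5, e_one]; rfl
      · rw [h5]; exact ha.2
      · rw [h5]; exact ((mem_line _).1 h3).2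
      · rw [h5, ← h.mul, M.mul _ ha.1.1 _ h.b_mem.1, Pi.add_apply, Pi.add_apply, ha.2, ((mem_line _).1 h3).2,
          add_zero]
    obtain ⟨v, hv, hve⟩ := exists_fac M.toNatV i ![0, 1]
    have := h4 v hv
    rw [hve] at this
    simp at this
  · exfalso
    have h3 : c ∈ line M.toNatV i := (mem_line _).2 ⟨h.c_mem, h2 ▸ h1.2⟩
    have hbl : b ∈ line M.toNatV i := by
      have e : b = a⁻¹ * c := by rw [← h.mul]; group
      rw [e]
      exact mul_mem (inv_mem h.a_mem) h3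
    have h4 : ∀ v ∈ fac M.toNatV i, M.e v i 1 = 0 := by
      intro v hv
      rcases h.all v hv with h5 | h5 | h5 | h5
      · rw [h5, e_one]; rfl
      · rw [h5]; exact ha.2
      · rw [h5]; exact ((mem_line _).1 hbl).2
      · rw [h5]; exact ((mem_line _).1 h3).2
    obtain ⟨v, hv, hve⟩ := exists_fac M.toNatV i ![0, 1]
    have := h4 v hv
    rw [hve] at this
    simp at this

theorem Abc.a_fac : a ∈ fac M.toNatV i := ((mem_line _).1 h.a_mem).1

theorem Abc.c1 : c ≠ 1 := by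
  intro h1
  apply h.b1
  have e : b = x⁻¹ * c * x := by rw [← h.xb]; group
  rw [e, h1]
  group

/-- a conjugate in `fac M i` of `b` by an element which fixes `a` is `b` or `c` -/
theorem Abc.conj_b {l : G} (hl : l ∈ normalizer (fac M.toNatV i : Set G)) (ha : l * a * l⁻¹ = a) :
    (l * b * l⁻¹ = b ∧ l * c * l⁻¹ = c) ∨ (l * b * l⁻¹ = c ∧ l * c * l⁻¹ = b) := by
  have hq : a * a = 1 := NV.sq M.toNatV h.a_fac.1
  have hlc : l * c * l⁻¹ = a * (l * b * l⁻¹) := by
    rw [← h.mul]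
    calc l * (a * b) * l⁻¹ = (l * a * l⁻¹) * (l * b * l⁻¹) := by group
      _ = _ := by rw [ha]
  have h1 := h.all _ ((mem_normalizer_iff.1 hl b).1 h.b_mem)
  rcases h1 with h1 | h1 | h1 | h1
  · exfalso
    apply h.b1
    have e : b = l⁻¹ * (l * b * l⁻¹) * l := by group
    rw [e, h1]
    group
  · exfalso
    apply h.ab
    calc a = l⁻¹ * (l * a * l⁻¹) * l := by group
      _ = l⁻¹ * (l * b * l⁻¹) * l := by rw [ha, h1]
      _ = b := by group
  · left
    exact ⟨h1, by rw [hlc, h1, h.mul]⟩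
  · right
    refine ⟨h1, ?_⟩
    rw [hlc, h1, ← h.mul, ← mul_assoc, hq, one_mul]

include hij

/-- an element of `grp M {i}` which centralises `a` and `b` centralises `V` -/
theorem Abc.comm_V {l : G} (hl : l ∈ grp M.toNatV {i}) (ha : l * a * l⁻¹ = a) (hb : l * b * l⁻¹ = b) :
    ∀ v ∈ V, l * v = v * l := by
  intro v hv
  obtain ⟨p, hp, q, hq, rfl⟩ := exists_comp2 M.toNatV hij hv
  have h1 : l * q = q * l := grp_comm M.toNatV (by simpa using hij) hl hq
  have h2 : l * p * l⁻¹ = p := by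
    rcases h.all p hp with h3 | h3 | h3 | h3
    · rw [h3]; group
    · rw [h3, ha]
    · rw [h3, hb]
    · rw [h3, ← h.mul]
      calc l * (a * b) * l⁻¹ = (l * a * l⁻¹) * (l * b * l⁻¹) := by group
        _ = a * b := by rw [ha, hb]
  calc l * (p * q) = l * p * l⁻¹ * (l * q) := by group
    _ = p * q * l := by rw [h2, h1, mul_assoc]

/-- the stabiliser of `a` in `grp M {i}` centralises `Ω₁(Z(stab M i))` -/
theorem Abc.fix {l f : G} (hl : l ∈ grp M.toNatV {i}) (ha : l * a * l⁻¹ = a) (hf : f ∈ zc (stab M.toNatV i)) :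
    l * f * l⁻¹ = f := by
  have hfz : f ∈ zc (o2 P) := zc_stb_le M (B := {i}) hf
  have hln : l ∈ normalizer (fac M.toNatV i : Set G) := grp_normalizes _ {i} {i} hl
  rcases h.conj_b hln ha with ⟨h1, -⟩ | ⟨h1, -⟩
  · exact mul_inv_eq_iff_eq_mul.2 (comm_zz M (grp_le _ _ hl) (h.comm_V hij hl ha h1) hfz)
  · obtain ⟨t, ht, htg, hta⟩ := exists_root M.toNatV (SP M) i 1
    have hta' : t * a * t⁻¹ = a := h.stab_a ht
    have htb : t * b * t⁻¹ = c := by
      rcases h.conj_b (stab_normalizes _ i ht) hta' with ⟨h2, -⟩ | ⟨h2, -⟩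
      · exfalso
        obtain ⟨v, hv, hve⟩ := exists_fac M.toNatV i ![0, 1]
        have h3 := h.comm_V hij htg hta' h2 v hv.1
        have h4 := hta.1 v hv.1 i
        have e : t * v * t⁻¹ = v := by rw [h3]; group
        rw [e, hve] at h4
        have h5 := congrFun h4 0
        rw [NatPair.ap_zero'] at h5
        simp at h5
      · exact h2
    have hg : t⁻¹ * l ∈ grp M.toNatV {i} := mul_mem (inv_mem htg) hl
    have e1 : t⁻¹ * l * a * (t⁻¹ * l)⁻¹ = a := by
      calc t⁻¹ * l * a * (t⁻¹ * l)⁻¹ = t⁻¹ * (l * a * l⁻¹) * t := by group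
        _ = t⁻¹ * (t * a * t⁻¹) * t := by rw [ha, hta']
        _ = a := by group
    have e2 : t⁻¹ * l * b * (t⁻¹ * l)⁻¹ = b := by
      calc t⁻¹ * l * b * (t⁻¹ * l)⁻¹ = t⁻¹ * (l * b * l⁻¹) * t := by group
        _ = t⁻¹ * (t * b * t⁻¹) * t := by rw [h1, htb]
        _ = b := by group
    have h3 := comm_zz M (grp_le _ _ hg) (h.comm_V hij hg e1 e2) hfz
    have h4 := (VModule.mem_zc.1 hf).2.1 t ht
    calc l * f * l⁻¹ = t * (t⁻¹ * l * f) * l⁻¹ := by group
      _ = t * (f * (t⁻¹ * l)) * l⁻¹ := by rw [h3]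
      _ = t * f * t⁻¹ := by group
      _ = f := by rw [h4]; group

theorem Abc.fix' {l l' f : G} (hl : l ∈ grp M.toNatV {i}) (hl' : l' ∈ grp M.toNatV {i})
    (ha : l * a * l⁻¹ = l' * a * l'⁻¹) (hf : f ∈ zc (stab M.toNatV i)) : l * f * l⁻¹ = l' * f * l'⁻¹ := by
  have h1 := h.fix hij (mul_mem (inv_mem hl') hl) (by
    calc l'⁻¹ * l * a * (l'⁻¹ * l)⁻¹ = l'⁻¹ * (l * a * l⁻¹) * l' := by group
      _ = a := by rw [ha]; group) hf
  calc l * f * l⁻¹ = l' * (l'⁻¹ * l * f * (l'⁻¹ * l)⁻¹) * l'⁻¹ := by group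
    _ = l' * f * l'⁻¹ := by rw [h1]

/-- `x³` is trivial on `Ω₁(Z(O₂(P)))` -/
theorem Abc.cube {z : G} (hz : z ∈ zc (o2 P)) : x * (x * (x * z * x⁻¹) * x⁻¹) * x⁻¹ = z := by
  have hx3 : x * x * x ∈ grp M.toNatV {i} := mul_mem (mul_mem h.x_mem h.x_mem) h.x_mem
  have e : ∀ y, x * x * x * y * (x * x * x)⁻¹ = x * (x * (x * y * x⁻¹) * x⁻¹) * x⁻¹ := fun y => by group
  have h1 := comm_zz M (grp_le _ _ hx3) (h.comm_V hij hx3 (by rw [e, h.xa, h.xb, h.xc])
    (by rw [e, h.xb, h.xc, h.xa])) hz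
  rw [← e, h1]
  group

/-- `x` commutes with `f f^x f^(x²)` -/
theorem Abc.x_nx {f : G} (hf : f ∈ zc (o2 P)) : x * nx x f = nx x f * x := by
  have hcomm := zc_comm (o2 P)
  have hxP := grp_le _ _ h.x_mem
  have h1 := zz_mem hxP hf
  have h2 := zz_mem hxP h1
  have h3 := h.cube hij hf
  have e : x * nx x f * x⁻¹ = nx x f := by
    rw [nx]
    calc x * (f * (x * f * x⁻¹) * (x * (x * f * x⁻¹) * x⁻¹)) * x⁻¹ =
        (x * f * x⁻¹) * (x * (x * f * x⁻¹) * x⁻¹) * (x * (x * (x * f * x⁻¹) * x⁻¹) * x⁻¹) := by group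
      _ = (x * f * x⁻¹) * (x * (x * f * x⁻¹) * x⁻¹) * f := by rw [h3]
      _ = f * (x * f * x⁻¹) * (x * (x * f * x⁻¹) * x⁻¹) := by
        rw [hcomm _ (mul_mem h1 h2) f hf, ← mul_assoc]
  exact mul_inv_eq_iff_eq_mul.1 e

/-- the norm of an element of `Ω₁(Z(stab M i))` lies in `Ω₁(Z(stab M i))` -/
theorem Abc.nx_mem {f : G} (hf : f ∈ zc (stab M.toNatV i)) : nx x f ∈ zc (stab M.toNatV i) := by
  have hcomm := zc_comm (o2 P)
  have hfz : f ∈ zc (o2 P) := zc_stb_le M (B := {i}) hf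
  have hxP := grp_le _ _ h.x_mem
  have h1 := zz_mem hxP hfz
  have h2 := zz_mem hxP h1
  have hn : nx x f ∈ zc (o2 P) := mul_mem (mul_mem hfz h1) h2
  refine VModule.mem_zc.2 ⟨o2_le_stb M (B := {i}) (zc_le _ hn), fun t ht => ?_, zc_sq _ _ hn⟩
  have htn := stab_normalizes_grp M.toNatV (SP M) i ht
  have hxg : t * x * t⁻¹ ∈ grp M.toNatV {i} := (mem_normalizer_iff.1 htn x).1 h.x_mem
  have hxxg : t * (x * x) * t⁻¹ ∈ grp M.toNatV {i} :=
    (mem_normalizer_iff.1 htn _).1 (mul_mem h.x_mem h.x_mem)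
  have hta := h.stab_a ht
  have htf : t * f * t⁻¹ = f := by rw [(VModule.mem_zc.1 hf).2.1 t ht]; group
  have ea : ∀ l, t * l * t⁻¹ * a * (t * l * t⁻¹)⁻¹ = t * (l * a * l⁻¹) * t⁻¹ := by
    intro l
    nth_rewrite 1 [← hta]
    group
  have ef : ∀ l, t * l * t⁻¹ * f * (t * l * t⁻¹)⁻¹ = t * (l * f * l⁻¹) * t⁻¹ := by
    intro l
    nth_rewrite 1 [← htf]
    group
  have exx : ∀ y, x * x * y * (x * x)⁻¹ = x * (x * y * x⁻¹) * x⁻¹ := fun y => by group
  have key : t * nx x f * t⁻¹ = nx x f := by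
    have e0 : t * nx x f * t⁻¹ = f * (t * (x * f * x⁻¹) * t⁻¹) * (t * (x * (x * f * x⁻¹) * x⁻¹) * t⁻¹) := by
      calc t * nx x f * t⁻¹ = (t * f * t⁻¹) * (t * (x * f * x⁻¹) * t⁻¹) *
          (t * (x * (x * f * x⁻¹) * x⁻¹) * t⁻¹) := by rw [nx]; group
        _ = _ := by rw [htf]
    rcases h.conj_b (stab_normalizes _ i ht) hta with ⟨k1, k2⟩ | ⟨k1, k2⟩
    · have p1 : t * (x * f * x⁻¹) * t⁻¹ = x * f * x⁻¹ := by
        rw [← ef]
        exact h.fix' hij hxg h.x_mem (by rw [ea, h.xa, k1]) hf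
      have p2 : t * (x * (x * f * x⁻¹) * x⁻¹) * t⁻¹ = x * (x * f * x⁻¹) * x⁻¹ := by
        rw [← exx, ← ef]
        exact h.fix' hij hxxg (mul_mem h.x_mem h.x_mem) (by rw [ea, exx, h.xa, h.xb, k2]) hf
      rw [e0, p1, p2, nx]
    · have p1 : t * (x * f * x⁻¹) * t⁻¹ = x * (x * f * x⁻¹) * x⁻¹ := by
        rw [← ef, ← exx]
        exact h.fix' hij hxg (mul_mem h.x_mem h.x_mem) (by rw [ea, exx, h.xa, h.xb, k1]) hf
      have p2 : t * (x * (x * f * x⁻¹) * x⁻¹) * t⁻¹ = x * f * x⁻¹ := by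
        rw [← exx, ← ef]
        exact h.fix' hij hxxg h.x_mem (by rw [ea, exx, h.xa, h.xb, k2]) hf
      rw [e0, p1, p2, nx, mul_assoc, hcomm _ h2 _ h1, ← mul_assoc]
  exact mul_inv_eq_iff_eq_mul.1 key

/-- **The decomposition with respect to one factor.** -/
theorem Abc.decomp {f : G} (hf : f ∈ zc (stab M.toNatV i)) :
    ∃ u ∈ fac M.toNatV i, u ∈ zc (stab M.toNatV i) ∧ f = u * nx x f := by
  have hn := h.nx_mem hij hf
  have hcomm := zc_comm (o2 P)
  have hfz : f ∈ zc (o2 P) := zc_stb_le M (B := {i}) hf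
  have hnz : nx x f ∈ zc (o2 P) := zc_stb_le M (B := {i}) hn
  have hnn : nx x f * nx x f = 1 := mul_self_zc hnz
  have hf' : f * nx x f ∈ zc (stab M.toNatV i) := mul_mem hf hn
  refine ⟨f * nx x f, ?_, hf', ?_⟩
  · refine mem_part_of_norm (blk_two M i) h.x_mem (fun v hv => h.nx1 v hv) hf' ?_
    rw [nx_mul hcomm (zz_nor P (grp_le _ _ h.x_mem)) hfz hnz, nx_of_comm (h.x_nx hij hfz) hnn, hnn]
  · rw [mul_assoc, hnn, mul_one]

/-- an element of `Ω₁(Z(stab M i))` which commutes with `x` is centralised by `grp M {i}` -/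
theorem Abc.comm_grp {m l : G} (hm : m ∈ zc (stab M.toNatV i)) (hx : x * m = m * x) (hl : l ∈ grp M.toNatV {i}) :
    l * m = m * l := by
  have hxm : x * m * x⁻¹ = m := by rw [hx]; group
  have hxx : x * x * m * (x * x)⁻¹ = m := by
    calc x * x * m * (x * x)⁻¹ = x * (x * m * x⁻¹) * x⁻¹ := by group
      _ = m := by rw [hxm, hxm]
  have exx : ∀ y, x * x * y * (x * x)⁻¹ = x * (x * y * x⁻¹) * x⁻¹ := fun y => by group
  have hln : l ∈ normalizer (fac M.toNatV i : Set G) := grp_normalizes _ {i} {i} hl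
  rcases h.all _ ((mem_normalizer_iff.1 hln a).1 h.a_fac) with h1 | h1 | h1 | h1
  · exfalso
    apply h.a1
    have e : a = l⁻¹ * (l * a * l⁻¹) * l := by group
    rw [e, h1]
    group
  · exact mul_inv_eq_iff_eq_mul.1 (h.fix hij hl h1 hm)
  · have h2 := h.fix' hij hl h.x_mem (by rw [h1, h.xa]) hm
    rw [hxm] at h2
    exact mul_inv_eq_iff_eq_mul.1 h2
  · have h2 := h.fix' hij hl (mul_mem h.x_mem h.x_mem) (by rw [exx, h.xa, h.xb, h1]) hm
    rw [hxx] at h2
    exact mul_inv_eq_iff_eq_mul.1 h2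

omit h [Finite F] in
/-- `grp M {i}` and `grp M {j}` commute on `Ω₁(Z(O₂(P)))` -/
theorem grp_grp {x y z : G} (hx : x ∈ grp M.toNatV {i}) (hy : y ∈ grp M.toNatV {j}) (hz : z ∈ zc (o2 P)) :
    x * (y * z * y⁻¹) * x⁻¹ = y * (x * z * x⁻¹) * y⁻¹ := by
  have hxP := grp_le _ _ hx
  have hyP := grp_le _ _ hy
  have hdj : Disjoint ({i} : Set (Fin 2)) {j} := by simpa using hij
  have hxb : ∀ b ∈ fac M.toNatV j, x * b = b * x := fun b hb => grp_comm M.toNatV hdj hx hb
  have hya : ∀ a ∈ fac M.toNatV i, y * a = a * y := fun a ha => grp_comm M.toNatV hdj.symm hy ha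
  have hc : (y * x)⁻¹ * (x * y) ∈ P := mul_mem (inv_mem (mul_mem hyP hxP)) (mul_mem hxP hyP)
  have hcV : ∀ v ∈ V, (y * x)⁻¹ * (x * y) * v = v * ((y * x)⁻¹ * (x * y)) := by
    intro v hv
    obtain ⟨a, ha, b, hb, rfl⟩ := exists_comp2 M.toNatV hij hv
    have hxa : x * a * x⁻¹ ∈ fac M.toNatV i := (mem_normalizer_iff.1 (grp_normalizes _ {i} {i} hx) a).1 ha
    have hyb' : y * b * y⁻¹ ∈ fac M.toNatV j := (mem_normalizer_iff.1 (grp_normalizes _ {j} {j} hy) b).1 hb
    have e1 : x * y * (a * b) * (x * y)⁻¹ = (x * a * x⁻¹) * (y * b * y⁻¹) := by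
      calc x * y * (a * b) * (x * y)⁻¹ = x * ((y * a) * b) * y⁻¹ * x⁻¹ := by group
        _ = (x * a * x⁻¹) * (x * (y * b * y⁻¹)) * x⁻¹ := by rw [hya a ha]; group
        _ = (x * a * x⁻¹) * (y * b * y⁻¹) := by rw [hxb _ hyb']; group
    have e2 : y * x * (a * b) * (y * x)⁻¹ = (x * a * x⁻¹) * (y * b * y⁻¹) := by
      calc y * x * (a * b) * (y * x)⁻¹ = y * (x * a * x⁻¹) * (x * b) * x⁻¹ * y⁻¹ := by group
        _ = (y * (x * a * x⁻¹)) * b * y⁻¹ := by rw [hxb b hb]; group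
        _ = (x * a * x⁻¹) * (y * b * y⁻¹) := by rw [hya _ hxa]; group
    have e3 : x * y * (a * b) * (x * y)⁻¹ = y * x * (a * b) * (y * x)⁻¹ := e1.trans e2.symm
    calc (y * x)⁻¹ * (x * y) * (a * b) = (y * x)⁻¹ * (x * y * (a * b) * (x * y)⁻¹) * (x * y) := by group
      _ = (y * x)⁻¹ * (y * x * (a * b) * (y * x)⁻¹) * (x * y) := by rw [e3]
      _ = a * b * ((y * x)⁻¹ * (x * y)) := by group
  have h1 := comm_zz M hc hcV hz
  calc x * (y * z * y⁻¹) * x⁻¹ = (y * x) * ((y * x)⁻¹ * (x * y) * z) * (x * y)⁻¹ := by group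
    _ = (y * x) * (z * ((y * x)⁻¹ * (x * y))) * (x * y)⁻¹ := by rw [h1]
    _ = y * (x * z * x⁻¹) * y⁻¹ := by group

omit h in
include hF in
/-- **`Ω₁(Z(stab M i)) = (V_i ∩ Z)(V_j ∩ Z) DT M`**, `q = 2` -/
theorem zc_stab_eq {f : G} (hf : f ∈ zc (stab M.toNatV i)) :
    ∃ u ∈ fac M.toNatV i, ∃ w ∈ fac M.toNatV j, ∃ m ∈ DT M, u ∈ zc (stab M.toNatV i) ∧
      w ∈ zc (stab M.toNatV i) ∧ f = u * w * m := by
  obtain ⟨x, a, b, c, hx⟩ := exists_abc M hF i
  obtain ⟨y, a', b', c', hy⟩ := exists_abc M hF j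
  have hst : stab M.toNatV j = stab M.toNatV i := stab_eq M.toNatV (SP M) hij.symm
  obtain ⟨u, hu, huz, h1⟩ := hx.decomp hij hf
  have hn := hx.nx_mem hij hf
  have hn' : nx x f ∈ zc (stab M.toNatV j) := by rw [hst]; exact hn
  obtain ⟨w, hw, hwz, h2⟩ := hy.decomp hij.symm hn'
  have hm := hy.nx_mem hij.symm hn'
  have hnz : nx x f ∈ zc (o2 P) := zc_stb_le M (B := {i}) hn
  refine ⟨u, hu, w, hw, nx y (nx x f), ?_, huz, hst ▸ hwz, ?_⟩
  · rw [mem_DT M (i := i)]
    have hm' : nx y (nx x f) ∈ zc (stab M.toNatV i) := by rw [← hst]; exact hm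
    refine ⟨hm', fun l g hg => ?_⟩
    -- `x` commutes with `nx y (nx x f)`
    have hxn : x * nx x f * x⁻¹ = nx x f := by
      rw [hx.x_nx hij (zc_stb_le M (B := {i}) hf)]; group
    have hyP := grp_le _ _ hy.x_mem
    have k1 : x * (y * nx x f * y⁻¹) * x⁻¹ = y * nx x f * y⁻¹ := by
      rw [grp_grp hij hx.x_mem hy.x_mem hnz, hxn]
    have k2 : x * (y * (y * nx x f * y⁻¹) * y⁻¹) * x⁻¹ = y * (y * nx x f * y⁻¹) * y⁻¹ := by
      rw [grp_grp hij hx.x_mem hy.x_mem (zz_mem hyP hnz), k1]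
    have hxm : x * nx y (nx x f) = nx y (nx x f) * x := by
      refine mul_inv_eq_iff_eq_mul.1 ?_
      have e : x * nx y (nx x f) * x⁻¹ = (x * nx x f * x⁻¹) * (x * (y * nx x f * y⁻¹) * x⁻¹) *
          (x * (y * (y * nx x f * y⁻¹) * y⁻¹) * x⁻¹) := by
        rw [show nx y (nx x f) = nx x f * (y * nx x f * y⁻¹) * (y * (y * nx x f * y⁻¹) * y⁻¹) from rfl]
        group
      rw [e, hxn, k1, k2]
      rfl
    by_cases hl : l = i
    · subst hl
      exact hx.comm_grp hij hm' hxm hg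
    · have hlj : l = j := by omega
      subst hlj
      exact hy.comm_grp hij.symm hm (hy.x_nx hij.symm hnz) hg
  · rw [mul_assoc, ← h2]
    exact h1

end q2

/-! ### Consequences -/

section conseq

variable {G : Type u} [Group G] [Finite G] {F : Type} [Field F] [CharP F 2] {S : Sylow 2 G}
  {P V D : Subgroup G} (M : NatD F S P V D 2) {i j : Fin 2} (hij : i ≠ j)

/-- an element of `V_P` centralised by `grp M {0}` and `grp M {1}` lies in `D` -/
theorem mem_D_of_comm {m : G} (hm : m ∈ zl (S : Subgroup G) P) (hc : ∀ l : Fin 2, ∀ g ∈ grp M.toNatV {l}, g * m = m * g) :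
    m ∈ D := by
  obtain ⟨n, hn, d, hd, rfl⟩ := M.dec m hm
  have hij : (0 : Fin 2) ≠ 1 := by decide
  obtain ⟨a, ha, b, hb, rfl⟩ := exists_comp2 M.toNatV hij hn
  have hgd : ∀ l : Fin 2, ∀ g ∈ grp M.toNatV {l}, g * d = d * g := fun l g hg =>
    (mem_centralizer_iff.1 (M.cD (grp_le _ _ hg)) d hd).symm
  have ha1 : a = 1 := by
    have h1 : a ∈ fac M.toNatV 0 ⊓ centralizer (grp M.toNatV {0} : Set G) := by
      refine mem_inf.2 ⟨ha, mem_centralizer_iff.2 fun g hg => ?_⟩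
      have h2 : g * b = b * g := grp_comm M.toNatV (by simp) hg hb
      have h3 := hc 0 g hg
      have h4 := hgd 0 g hg
      have h5 : g * a * (b * d) = a * g * (b * d) := by
        calc g * a * (b * d) = g * (a * b * d) := by group
          _ = a * b * d * g := h3
          _ = a * (b * (d * g)) := by group
          _ = a * (b * g * d) := by rw [← h4]; group
          _ = a * g * (b * d) := by rw [← h2]; group
      exact mul_right_cancel h5
    rwa [fac_inf_centralizer, mem_bot] at h1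
  have hb1 : b = 1 := by
    have h1 : b ∈ fac M.toNatV 1 ⊓ centralizer (grp M.toNatV {1} : Set G) := by
      refine mem_inf.2 ⟨hb, mem_centralizer_iff.2 fun g hg => ?_⟩
      have h3 := hc 1 g hg
      have h4 := hgd 1 g hg
      rw [ha1, one_mul] at h3
      have h5 : g * b * d = b * g * d := by
        calc g * b * d = g * (b * d) := by group
          _ = b * d * g := h3
          _ = b * (g * d) := by rw [h4]; group
          _ = b * g * d := by group
      exact mul_right_cancel h5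
    rwa [fac_inf_centralizer, mem_bot] at h1
  rw [ha1, hb1, one_mul, one_mul]
  exact hd

/-- `C_{DT M}(s) = D` -/
theorem mem_D_of_DT {m s : G} (hm : m ∈ DT M) (hs : s ∈ (S : Subgroup G)) (hs1 : s ∉ stab M.toNatV i)
    (hsm : s * m = m * s) : m ∈ D := by
  obtain ⟨h1, h2⟩ := (mem_DT M (i := i)).1 hm
  refine mem_D_of_comm M (zc_le_zl _ P ?_) h2
  exact mem_zc_of_comm (blk_two M i) hs hs1 h1 (by rw [hsm]; group)

include hij

theorem DT_comm_grp {m g : G} (hm : m ∈ DT M) (hg : g ∈ grp M.toNatV {i}) : g * m = m * g :=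
  ((mem_DT M (i := i)).1 hm).2 i g hg

/-- **`fac M i ≤ Z(O₂(C_G(e)))`** for `1 ≠ e ∈ (fac M j ∩ Z(stab M i)) DT M` -/
theorem cent_half_DT {w m : G} (hw : w ∈ fac M.toNatV j) (hwz : w ∈ zc (stab M.toNatV i)) (hm : m ∈ DT M)
    (h1 : w * m ≠ 1) : fac M.toNatV i ≤ o2 (centralizer ({w * m} : Set G)) ∧
      o2 (centralizer ({w * m} : Set G)) ≤ centralizer (fac M.toNatV i : Set G) := by
  obtain ⟨hm1, hm2⟩ := (mem_DT M (i := i)).1 hm
  have he : w * m ∈ zc (stab M.toNatV i) := mul_mem hwz hm1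
  refine cent_half M hij (zc_sq _ _ he) h1 (fun t ht => (VModule.mem_zc.1 he).2.1 t ht) fun g hg => ?_
  have h2 : g * w = w * g := grp_comm M.toNatV (by simpa using hij) hg hw
  rw [← mul_assoc, h2, mul_assoc, hm2 i g hg, mul_assoc]

/-- `fac M j` contains a nontrivial element of `Z(stab M i)` -/
theorem exists_fac_zc : ∃ z ∈ fac M.toNatV j, z ≠ 1 ∧ z ∈ zc (stab M.toNatV i) := by
  obtain ⟨z, hz, hz1, hc⟩ := exists_fixed_part (blk_two M j)
  refine ⟨z, hz, hz1, ?_⟩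
  have hst : stab M.toNatV j = stab M.toNatV i := stab_eq M.toNatV (SP M) hij.symm
  rw [← hst]
  exact VModule.mem_zc.2 ⟨part_le_stb (blk_two M j) hz.1, fun y hy => hc y hy,
    (VModule.mem_zc.1 (V_le_zz M hz.1)).2.2⟩

/-- **`fac M i ≤ Z(O₂(C_G(e)))`** for every `1 ≠ e ∈ (fac M j)(DT M)` -/
theorem cent_half_all {w m : G} (hw : w ∈ fac M.toNatV j) (hm : m ∈ DT M)
    (h1 : w * m ≠ 1) : fac M.toNatV i ≤ o2 (centralizer ({w * m} : Set G)) ∧
      o2 (centralizer ({w * m} : Set G)) ≤ centralizer (fac M.toNatV i : Set G) := by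
  by_cases hw1 : w = 1
  · subst hw1
    exact cent_half_DT M hij (one_mem _) (one_mem _) hm h1
  obtain ⟨z, hz, hz1, hzc⟩ := exists_fac_zc M hij
  obtain ⟨g, hg, hgz⟩ := exists_grp M.toNatV hz hw hz1 hw1
  have hgm : g * m = m * g := DT_comm_grp M hij.symm hm hg
  refine Half.NatA.concl_cj (z := z * m) (g := g) ?_ ?_ (cent_half_DT M hij hz hzc hm ?_)
  · calc g * (z * m) * g⁻¹ = g * z * (m * g⁻¹) := by group
      _ = g * z * (g⁻¹ * (g * m) * g⁻¹) := by group
      _ = g * z * g⁻¹ * m := by rw [hgm]; group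
      _ = w * m := by rw [hgz]
  · have h3 : grp M.toNatV {j} ≤ centralizer (fac M.toNatV i : Set G) :=
      grp_le_centralizer M.toNatV (by simpa using hij.symm)
    exact centralizer_le_normalizer _ (h3 hg)
  · intro h4
    apply h1
    have h5 : w * m = g * (z * m) * g⁻¹ := by
      symm
      calc g * (z * m) * g⁻¹ = g * z * (g⁻¹ * (g * m) * g⁻¹) := by group
        _ = g * z * g⁻¹ * m := by rw [hgm]; group
        _ = w * m := by rw [hgz]
    rw [h5, h4]
    group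

/-- `O₂(N_G(R'))`, `R'` a `grp M {i}`-conjugate of `line M i`, centralises `fac M j` and `DT M` -/
theorem o2_comm {g y z : G} (hg : g ∈ grp M.toNatV {i}) (hy : y ∈ o2 (normalizer (line M.toNatV i : Set G)))
    (hz : z ∈ fac M.toNatV j ∨ z ∈ DT M) : g * y * g⁻¹ * z = z * (g * y * g⁻¹) := by
  have hgz : g * z = z * g := by
    rcases hz with h | h
    · exact grp_comm M.toNatV (by simpa using hij) hg h
    · exact DT_comm_grp M hij h hg
  have hyz : y * z = z * y := by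
    rcases hz with h | h
    · exact (mem_centralizer_iff.1 ((fac_le_o2_line M hij).2 hy) z h).symm
    · exact (zc_stab_le_o2_line M hij ((mem_DT M (i := i)).1 h).1).2 y hy
  have hgz' : g⁻¹ * z = z * g⁻¹ := by
    calc g⁻¹ * z = g⁻¹ * (z * g) * g⁻¹ := by group
      _ = g⁻¹ * (g * z) * g⁻¹ := by rw [hgz]
      _ = z * g⁻¹ := by group
  calc g * y * g⁻¹ * z = g * (y * (g⁻¹ * z)) := by group
    _ = g * (y * z) * g⁻¹ := by rw [hgz']; group
    _ = (g * z) * y * g⁻¹ := by rw [hyz]; group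
    _ = z * (g * y * g⁻¹) := by rw [hgz]; group

/-! #### CASE 1 -/

/-- **CASE 1**: `O₂(H) ≤ stab M i` for `⟨grp M {j}, stab M i⟩ ≤ H`, if `stab M i` is a Sylow 2-subgroup of
`N_G(line M j)`. -/
theorem o2_le_of_case1 (hC : ¬ 2 ∣ (stab M.toNatV i).relIndex (normalizer (line M.toNatV j : Set G)))
    {H : Subgroup G} (hH : H ⊓ centralizer (o2 H : Set G) ≤ o2 H) (hS : stab M.toNatV i ≤ H)
    (hL : grp M.toNatV {j} ≤ H) : o2 H ≤ stab M.toNatV i := by
  have hfact : Fact (Nat.Prime 2) := ⟨Nat.prime_two⟩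
  obtain ⟨-, h2⟩ := half_two M hij hH hS hL
  have hst : stab M.toNatV j = stab M.toNatV i := stab_eq M.toNatV (SP M) hij.symm
  have hSo2 : IsPGroup 2 (stab M.toNatV i) := S.isPGroup'.to_le (stab_le _ _)
  have hU2 : IsPGroup 2 (o2 H ⊔ stab M.toNatV i : Subgroup G) :=
    (o2_isPGroup H).to_sup_of_normal_left' hSo2 (hS.trans (le_normalizer_o2 H))
  have hUN : o2 H ⊔ stab M.toNatV i ≤ normalizer (line M.toNatV j : Set G) := by
    refine sup_le ?_ ?_
    · exact (h2.trans (centralizer_le (line_le _ _))).trans (centralizer_le_normalizer _)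
    · rw [← hst]
      exact stab_normalizes_line M.toNatV (SP M) j
  have h3 := Subgroup.relIndex_mul_relIndex _ _ _ (le_sup_right : stab M.toNatV i ≤ o2 H ⊔ stab M.toNatV i) hUN
  obtain ⟨n, hn⟩ := IsPGroup.iff_card.1 hU2
  have h4 : (stab M.toNatV i).relIndex (o2 H ⊔ stab M.toNatV i) ∣ 2 ^ n := by
    rw [← hn]
    exact relIndex_dvd_card _ _
  obtain ⟨m, -, hm⟩ := (Nat.dvd_prime_pow Nat.prime_two).1 h4
  rcases Nat.eq_zero_or_pos m with h0 | h0
  · rw [h0, pow_zero, relIndex_eq_one] at hm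
    exact le_sup_left.trans hm
  · exfalso
    apply hC
    rw [← h3, hm]
    exact Dvd.dvd.mul_right (dvd_pow_self 2 h0.ne') _

/-- **CASE 1**, (F2): `Ω₁(Z(stab M i)) ≤ Z(O₂(C_G(r e)))` for `r ∈ fac M i ∩ Z(stab M i)`, `e ∈ DT M`, `r e ≠ 1` -/
theorem case1_F2 (hC : ¬ 2 ∣ (stab M.toNatV i).relIndex (normalizer (line M.toNatV j : Set G))) {r m : G}
    (hr : r ∈ fac M.toNatV i) (hrz : r ∈ zc (stab M.toNatV i)) (hm : m ∈ DT M) (h1 : r * m ≠ 1) :
    o2 (centralizer ({r * m} : Set G)) ≤ stab M.toNatV i ∧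
      zc (stab M.toNatV i) ≤ zc (o2 (centralizer ({r * m} : Set G))) := by
  obtain ⟨hm1, hm2⟩ := (mem_DT M (i := i)).1 hm
  have he : r * m ∈ zc (stab M.toNatV i) := mul_mem hrz hm1
  have hS : stab M.toNatV i ≤ centralizer ({r * m} : Set G) := fun t ht =>
    mem_centralizer_singleton_iff.2 ((VModule.mem_zc.1 he).2.1 t ht)
  have hH := MinSimple.Basic.char2_centralizer M.hG (zc_sq _ _ he) h1
  have h2 := o2_le_of_case1 M hij hC hH hS fun g hg => mem_centralizer_singleton_iff.2 (by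
    have h2 : g * r = r * g := grp_comm M.toNatV (by simpa using hij.symm) hg hr
    rw [← mul_assoc, h2, mul_assoc, hm2 j g hg, mul_assoc])
  refine ⟨h2, fun f hf => ?_⟩
  obtain ⟨f1, f2, f3⟩ := VModule.mem_zc.1 hf
  have h5 : f ∈ o2 (centralizer ({r * m} : Set G)) :=
    hH (mem_inf.2 ⟨hS f1, mem_centralizer_iff.2 fun y hy => f2 y (h2 hy)⟩)
  exact VModule.mem_zc.2 ⟨h5, fun y hy => f2 y (h2 hy), f3⟩

end conseq

end Cfsg.Agent.Omega.IId.NV

end

section


/-!
# II.d, `V_P = V × D`: the entry theorem for a mutual pair (`k = 2`, `k' = 1, 2`)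

* `comm_line` : a 2-element of `stab M i` which centralises `line M i` centralises `fac M i / line M i`;
* `KX R`, `KX_le` : `{g ∈ C_G(R) | [O₂(N_G(R)), g] ≤ R} ≤ O₂(N_G(R))`;
* `off_V`, `exists_match` : the offender `V_{P'}` on `V`; matching of the lines;
* `Ent`, `exists_entry` : `[V_P, V_{P'}] = line M i = line M' i'`, `fac M i, fac M' i' ≤ O₂(N_G(line M i))`.
-/

set_option autoImplicit false
set_option linter.unusedSectionVars false

namespace Cfsg.Agent.Omega.IId.NV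

open Subgroup Pointwise Cfsg Cfsg.Agent.ZN Cfsg.Agent.ZN.ChoiceBase
open Cfsg.Agent.Omega.MinPar Cfsg.Agent.Omega.FFThm
open Cfsg.Agent.Lib.SL2Mat
open Cfsg.Agent.MinSimple
open Cfsg.Agent.Omega.NatPair (ap ap_mul ap_one ap_inv_ap ap_ap_inv exists_ap ap_add)
open Cfsg.Agent.MinSimple.VModule (zc_le zc_comm zc_sq zc_le_zl le_normalizer_o2 o2_isPGroup o2_le
  normalizer_le_normalizer_zc le_normalizer_zl)
open scoped commutatorElement

universe u

/-! ### The action of a 2-element of the stabiliser on a factor -/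

section commline

variable {G : Type u} [Group G] {F : Type} [Field F] {S P V : Subgroup G} {k : ℕ} (M : NatV F S P V k)

/-- an element of `stab M i` which centralises the line acts on `fac M i / line M i` as a scalar -/
theorem exists_scalar (hSP : S ≤ P) {i : Fin k} {y : G} (hy : y ∈ stab M i)
    (hc : ∀ r ∈ line M i, y * r = r * y) :
    ∃ c : F, ∀ v ∈ fac M i, M.e (y * v * y⁻¹) i 1 = c * M.e v i 1 := by
  classical
  have hyP : y ∈ P := hSP hy.1
  obtain ⟨t, ht, htg, hta⟩ := exists_root M hSP i 1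
  have htP : t ∈ P := grp_le _ _ htg
  obtain ⟨B, hB⟩ := M.norm y hyP t htP _ hta.1
  have hfy : ∀ v ∈ fac M i, y * v * y⁻¹ ∈ fac M i := fun v hv => (mem_normalizer_iff.1 hy.2 v).1 hv
  have hft : ∀ v ∈ fac M i, t * v * t⁻¹ ∈ fac M i := fun v hv => (mem_normalizer_iff.1 ht.2 v).1 hv
  -- the commutator with `t`
  have hr : ∀ v ∈ fac M i, ∃ r ∈ line M i, t * v * t⁻¹ = v * r ∧ M.e r i 0 = M.e v i 1 := by
    intro v hv
    have h1 := hta.1 v hv.1 i
    have h2 : M.e (v⁻¹ * (t * v * t⁻¹)) i = - M.e v i + M.e (t * v * t⁻¹) i := by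
      rw [M.mul _ (inv_mem hv.1) _ (hft v hv).1, e_inv M hv.1]
      rfl
    refine ⟨v⁻¹ * (t * v * t⁻¹), ?_, by group, ?_⟩
    · rw [mem_line]
      refine ⟨mul_mem (inv_mem hv) (hft v hv), ?_⟩
      rw [h2, h1, Pi.add_apply, NatPair.ap_one']
      simp
    · rw [h2, h1, Pi.add_apply, NatPair.ap_zero']
      simp
  -- `y t y⁻¹`
  have key : ∀ v ∈ fac M i, ∀ r ∈ line M i, t * v * t⁻¹ = v * r →
      ap (B i) (M.e (y * v * y⁻¹) i) = M.e (y * v * y⁻¹) i + M.e r i := by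
    intro v hv r hrl h1
    have h2 := hB _ (hfy v hv).1 i
    rw [← h2]
    have e : y * t * y⁻¹ * (y * v * y⁻¹) * (y * t * y⁻¹)⁻¹ = y * v * y⁻¹ * r := by
      calc y * t * y⁻¹ * (y * v * y⁻¹) * (y * t * y⁻¹)⁻¹ = y * (t * v * t⁻¹) * y⁻¹ := by group
        _ = y * v * (r * y⁻¹) := by rw [h1]; group
        _ = y * v * y⁻¹ * r := by
          have : r * y⁻¹ = y⁻¹ * r := by
            have h3 := hc r hrl
            calc r * y⁻¹ = y⁻¹ * (y * r) * y⁻¹ := by group
              _ = y⁻¹ * (r * y) * y⁻¹ := by rw [h3]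
              _ = y⁻¹ * r := by group
          rw [this]; group
    rw [e, M.mul _ (hfy v hv).1 _ ((mem_line M).1 hrl).1.1]
    rfl
  -- `B i` is upper unitriangular
  obtain ⟨w, hw, hwe⟩ := exists_fac M i ![1, 0]
  have hwl : w ∈ line M i := (mem_line M).2 ⟨hw, by rw [hwe]; rfl⟩
  have hyw : y * w * y⁻¹ = w := by rw [hc w hwl]; group
  have h1 : ap (B i) ![1, 0] = ![1, 0] := by
    obtain ⟨r, hrl, h2, h3⟩ := hr w hw
    have h4 := key w hw r hrl h2
    have hr1 : M.e r i = 0 := by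
      apply NatPair.ext2
      · rw [h3, hwe]; rfl
      · exact ((mem_line M).1 hrl).2
    rw [hyw, hr1, add_zero, hwe] at h4
    exact h4
  have b00 : ent (B i) 0 0 = 1 := by
    have := congrFun h1 0
    rw [NatPair.ap_zero'] at this
    simpa using this
  have h5 : ∀ v ∈ fac M i, ent (B i) 0 1 * M.e (y * v * y⁻¹) i 1 = M.e v i 1 := by
    intro v hv
    obtain ⟨r, hrl, h2, h3⟩ := hr v hv
    have h4 := congrFun (key v hv r hrl h2) 0
    rw [NatPair.ap_zero', Pi.add_apply, b00, one_mul, h3] at h4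
    exact add_left_cancel h4
  have b01 : ent (B i) 0 1 ≠ 0 := by
    intro h0
    obtain ⟨v, hv, hve⟩ := exists_fac M i ![0, 1]
    have h6 := h5 v hv
    rw [h0, zero_mul, hve] at h6
    simp at h6
  refine ⟨(ent (B i) 0 1)⁻¹, fun v hv => ?_⟩
  rw [← h5 v hv, ← mul_assoc, inv_mul_cancel₀ b01, one_mul]

/-- **a 2-element of `stab M i` which centralises `line M i` centralises `fac M i / line M i`** -/
theorem comm_line [CharP F 2] (hSP : S ≤ P) {i : Fin k} {y : G} (hy : y ∈ stab M i)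
    (hy2 : ∃ n : ℕ, y ^ 2 ^ n = 1) (hc : ∀ r ∈ line M i, y * r = r * y) {v : G} (hv : v ∈ fac M i) :
    y * v * y⁻¹ * v⁻¹ ∈ line M i := by
  obtain ⟨c, hcc⟩ := exists_scalar M hSP hy hc
  obtain ⟨n, hn⟩ := hy2
  have hfy : ∀ v ∈ fac M i, y * v * y⁻¹ ∈ fac M i := fun v hv => (mem_normalizer_iff.1 hy.2 v).1 hv
  have key : ∀ m : ℕ, ∀ v ∈ fac M i, y ^ m * v * (y ^ m)⁻¹ ∈ fac M i ∧
      M.e (y ^ m * v * (y ^ m)⁻¹) i 1 = c ^ m * M.e v i 1 := by
    intro m
    induction m with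
    | zero => intro v hv; simpa using hv
    | succ m ih =>
      intro v hv
      obtain ⟨h1, h2⟩ := ih v hv
      have e : y ^ (m + 1) * v * (y ^ (m + 1))⁻¹ = y * (y ^ m * v * (y ^ m)⁻¹) * y⁻¹ := by
        rw [pow_succ']; group
      rw [e]
      exact ⟨hfy _ h1, by rw [hcc _ h1, h2, pow_succ']; ring⟩
  have hc1 : c = 1 := by
    obtain ⟨w, hw, hwe⟩ := exists_fac M i ![0, 1]
    have h1 := (key (2 ^ n) w hw).2
    have e : (1 : G) * w * 1⁻¹ = w := by group
    rw [hn, e, hwe] at h1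
    have h2 : c ^ 2 ^ n = 1 := by simpa using h1.symm
    have h3 : (c - 1) ^ 2 ^ n = 0 := by
      rw [sub_pow_char_pow, h2, one_pow, sub_self]
    exact sub_eq_zero.1 ((pow_eq_zero_iff (by positivity)).1 h3)
  have h1 := hfy v hv
  rw [mem_line]
  refine ⟨mul_mem h1 (inv_mem hv), ?_⟩
  rw [M.mul _ h1.1 _ (inv_mem hv.1), Pi.add_apply, Pi.add_apply, hcc v hv, e_inv M hv.1, hc1, one_mul]
  simp

end commline

/-! ### `{g ∈ C_G(R) | [O₂(N_G(R)), g] ≤ R} ≤ O₂(N_G(R))` -/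

section kx

variable {G : Type u} [Group G]

/-- `{g ∈ C_G(R) | [O₂(N_G(R)), g] ≤ R}` -/
def KX (R : Subgroup G) : Subgroup G where
  carrier := {a | (∀ y ∈ R, a * y = y * a) ∧ ∀ q ∈ o2 (normalizer (R : Set G)), a * q * a⁻¹ * q⁻¹ ∈ R}
  mul_mem' := by
    rintro a b ⟨ha1, ha2⟩ ⟨hb1, hb2⟩
    refine ⟨fun y hy => ?_, fun q hq => ?_⟩
    · rw [mul_assoc, hb1 y hy, ← mul_assoc, ha1 y hy, mul_assoc]
    · have e : a * b * q * (a * b)⁻¹ * q⁻¹ = a * (b * q * b⁻¹ * q⁻¹) * a⁻¹ * (a * q * a⁻¹ * q⁻¹) := by group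
      rw [e, ha1 _ (hb2 q hq), mul_inv_cancel_right]
      exact mul_mem (hb2 q hq) (ha2 q hq)
  one_mem' := ⟨fun y _ => by simp, fun q _ => by simp⟩
  inv_mem' := by
    rintro a ⟨ha1, ha2⟩
    refine ⟨fun y hy => ?_, fun q hq => ?_⟩
    · exact (show Commute a y from ha1 y hy).inv_left
    · have h1 := ha2 q hq
      have h2 := inv_mem h1
      have e : a⁻¹ * q * a⁻¹⁻¹ * q⁻¹ = a⁻¹ * (a * q * a⁻¹ * q⁻¹)⁻¹ * a := by group
      have h3 := ha1 _ h2
      have h4 : a⁻¹ * (a * q * a⁻¹ * q⁻¹)⁻¹ * a = (a * q * a⁻¹ * q⁻¹)⁻¹ := by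
        calc a⁻¹ * (a * q * a⁻¹ * q⁻¹)⁻¹ * a = a⁻¹ * ((a * q * a⁻¹ * q⁻¹)⁻¹ * a) := by rw [mul_assoc]
          _ = a⁻¹ * (a * (a * q * a⁻¹ * q⁻¹)⁻¹) := by rw [← h3]
          _ = (a * q * a⁻¹ * q⁻¹)⁻¹ := by rw [inv_mul_cancel_left]
      rw [e, h4]
      exact h2

theorem mem_KX {R : Subgroup G} {a : G} : a ∈ KX R ↔ (∀ y ∈ R, a * y = y * a) ∧
    ∀ q ∈ o2 (normalizer (R : Set G)), a * q * a⁻¹ * q⁻¹ ∈ R := Iff.rfl

theorem KX_le_centralizer (R : Subgroup G) : KX R ≤ centralizer (R : Set G) := fun _ ha =>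
  mem_centralizer_iff.2 fun y hy => ((mem_KX.1 ha).1 y hy).symm

theorem normalizer_le_normalizer_KX (R : Subgroup G) : normalizer (R : Set G) ≤ normalizer (KX R : Set G) := by
  have key : ∀ c ∈ normalizer (R : Set G), ∀ a ∈ KX R, c * a * c⁻¹ ∈ KX R := by
    rintro c hc a ⟨ha1, ha2⟩
    refine ⟨fun y hy => ?_, fun q hq => ?_⟩
    · have h1 := ha1 (c⁻¹ * y * c) (by
        have := (mem_normalizer_iff.1 (inv_mem hc) y).1 hy
        rwa [inv_inv] at this)
      calc c * a * c⁻¹ * y = c * (a * (c⁻¹ * y * c)) * c⁻¹ := by group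
        _ = c * ((c⁻¹ * y * c) * a) * c⁻¹ := by rw [h1]
        _ = y * (c * a * c⁻¹) := by group
    · have h1 := ha2 (c⁻¹ * q * c) (by
        have := (mem_normalizer_iff.1 (le_normalizer_o2 _ (inv_mem hc)) q).1 hq
        rwa [inv_inv] at this)
      have h2 := (mem_normalizer_iff.1 hc _).1 h1
      have e : c * a * c⁻¹ * q * (c * a * c⁻¹)⁻¹ * q⁻¹ =
          c * (a * (c⁻¹ * q * c) * a⁻¹ * (c⁻¹ * q * c)⁻¹) * c⁻¹ := by group
      rw [e]
      exact h2
  intro c hc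
  rw [mem_normalizer_iff]
  intro a
  refine ⟨key c hc a, fun h => ?_⟩
  have h1 := key c⁻¹ (inv_mem hc) _ h
  have e : c⁻¹ * (c * a * c⁻¹) * c⁻¹⁻¹ = a := by group
  rwa [e] at h1

theorem KX_le_normalizer (R : Subgroup G) : KX R ≤ normalizer (R : Set G) :=
  (KX_le_centralizer R).trans (centralizer_le_normalizer _)

variable [Finite G]

/-- **`{g ∈ C_G(R) | [O₂(N_G(R)), g] ≤ R} ≤ O₂(N_G(R))`**, `R` elementary abelian, `N_G(R)` of characteristic 2 -/
theorem KX_le {R : Subgroup G}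
    (hc : normalizer (R : Set G) ⊓ centralizer (o2 (normalizer (R : Set G)) : Set G) ≤ o2 (normalizer (R : Set G)))
    (hR : ∀ y ∈ R, y * y = 1) : KX R ≤ o2 (normalizer (R : Set G)) := by
  refine VModule.le_o2 (KX_le_normalizer R) ?_ (normalizer_le_normalizer_KX R)
  rintro ⟨a, ha⟩
  obtain ⟨ha1, ha2⟩ := mem_KX.1 ha
  have h3 : a * a ∈ o2 (normalizer (R : Set G)) := by
    refine hc (mem_inf.2 ⟨mul_mem (KX_le_normalizer R ha) (KX_le_normalizer R ha), mem_centralizer_iff.2 fun q hq => ?_⟩)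
    have h4 := ha2 q hq
    have h6 : (a * a) * q * (a * a)⁻¹ = q := by
      calc (a * a) * q * (a * a)⁻¹ = (a * (a * q * a⁻¹ * q⁻¹)) * q * a⁻¹ := by group
        _ = (a * q * a⁻¹ * q⁻¹) * (a * q * a⁻¹) := by rw [ha1 _ h4]; group
        _ = ((a * q * a⁻¹ * q⁻¹) * (a * q * a⁻¹ * q⁻¹)) * q := by group
        _ = q := by rw [hR _ h4, one_mul]
    exact (mul_inv_eq_iff_eq_mul.mp h6).symm
  obtain ⟨n, hn⟩ := o2_isPGroup (normalizer (R : Set G)) ⟨_, h3⟩
  refine ⟨n + 1, ?_⟩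
  have hn' : (a * a) ^ 2 ^ n = 1 := congrArg Subtype.val hn
  ext
  change a ^ 2 ^ (n + 1) = 1
  rw [pow_succ, mul_comm (2 ^ n), pow_mul, pow_two]
  exact hn'

end kx

/-! ### The factor `i` lies in `O₂(N_G(line M i))` -/

section fac_le

variable {G : Type u} [Group G] [Finite G] {F : Type} [Field F] [CharP F 2] {S P V : Subgroup G} {k : ℕ}
  (M : NatV F S P V k)

/-- `fac M i ≤ KX (line M i)` if `O₂(N_G(line M i)) ≤ stab M i` centralises `line M i`. -/
theorem fac_le_KX (hSP : S ≤ P) {i : Fin k}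
    (h1 : o2 (normalizer (line M i : Set G)) ≤ stab M i)
    (h2 : o2 (normalizer (line M i : Set G)) ≤ centralizer (line M i : Set G)) :
    fac M i ≤ KX (line M i) := by
  intro v hv
  refine mem_KX.2 ⟨fun y hy => NV.comm M hv.1 ((mem_line M).1 hy).1.1, fun q hq => ?_⟩
  obtain ⟨n, hn⟩ := o2_isPGroup (normalizer (line M i : Set G)) ⟨q, hq⟩
  have h3 := comm_line M hSP (h1 hq) ⟨n, congrArg Subtype.val hn⟩
    (fun r hr => (mem_centralizer_iff.1 (h2 hq) r hr).symm) (inv_mem hv)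
  rw [inv_inv] at h3
  have h4 := NV.comm M hv.1 ((mem_line M).1 h3).1.1
  have e : v * q * v⁻¹ * q⁻¹ = v * (q * v⁻¹ * q⁻¹ * v) * v⁻¹ := by group
  rw [e, h4, mul_inv_cancel_right]
  exact h3

end fac_le

/-! ### The offender -/

section off

variable {G : Type u} [Group G] [Finite G] {F : Type} [Field F] {S : Sylow 2 G}
  {P V D : Subgroup G} {k : ℕ} (M : NatD F S P V D k)

include M in
theorem D_comm {a d : G} (ha : a ∈ P) (hd : d ∈ D) : a * d = d * a :=
  (mem_centralizer_iff.1 (M.cD ha) d hd).symm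

include M in
/-- an offender on `V_P` is an offender on `V` -/
theorem off_V {A : Subgroup G} (hA : A ≤ P) (h : Off (zl (S : Subgroup G) P) A) : Off V A := by
  have hD : ∀ a ∈ A, ∀ d ∈ D, a * d = d * a := fun a ha d hd => D_comm M (hA ha) hd
  have e0 : ∀ a ∈ A, (∀ v ∈ V, a * v = v * a) → ∀ v ∈ zl (S : Subgroup G) P, a * v = v * a := by
    intro a ha hc v hv
    obtain ⟨n, hn, d, hd, rfl⟩ := M.dec v hv
    rw [← mul_assoc, hc n hn, mul_assoc, hD a ha d hd, mul_assoc]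
  refine ⟨h.elem, fun h1 => h.ne fun a ha => ?_, ?_⟩
  · exact mem_centralizer_iff.2 fun v hv =>
      (e0 a ha (fun w hw => (mem_centralizer_iff.1 (h1 ha) w hw).symm) v hv).symm
  have e1 : A ⊓ centralizer (V : Set G) = A ⊓ centralizer (zl (S : Subgroup G) P : Set G) := by
    apply le_antisymm
    · rintro a ⟨ha, hc⟩
      exact mem_inf.2 ⟨ha, mem_centralizer_iff.2 fun v hv =>
        (e0 a ha (fun w hw => (mem_centralizer_iff.1 hc w hw).symm) v hv).symm⟩
    · exact inf_le_inf_left _ (centralizer_le M.V_le)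
  have e2 : Nat.card (zl (S : Subgroup G) P) = Nat.card V * Nat.card D :=
    Cv.card_of_mul M.dec M.V_le M.D_le M.inf
  have e3 : Nat.card ↥(zl (S : Subgroup G) P ⊓ centralizer (A : Set G)) =
      Nat.card ↥(V ⊓ centralizer (A : Set G)) * Nat.card D := by
    refine Cv.card_of_mul ?_ (inf_le_inf_right _ M.V_le) (le_inf M.D_le ?_) ?_
    · rintro v ⟨hv, hc⟩
      obtain ⟨n, hn, d, hd, rfl⟩ := M.dec v hv
      refine ⟨n, mem_inf.2 ⟨hn, mem_centralizer_iff.2 fun a ha => ?_⟩, d, hd, rfl⟩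
      have h2 := mem_centralizer_iff.1 hc a ha
      rw [← mul_assoc] at h2
      have h3 : a * n * d = n * a * d := by rw [h2, mul_assoc, ← hD a ha d hd, ← mul_assoc]
      exact mul_right_cancel h3
    · intro d hd
      rw [mem_centralizer_iff]
      exact fun a ha => hD a ha d hd
    · rw [eq_bot_iff, ← M.inf]
      exact inf_le_inf_right _ inf_le_left
  have h4 := h.le
  rw [e2, e3] at h4
  rw [e1]
  refine Nat.le_of_mul_le_mul_right (c := Nat.card D) ?_ Nat.card_pos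
  calc Nat.card V * Nat.card ↥(A ⊓ centralizer (zl (S : Subgroup G) P : Set G)) * Nat.card D
      = Nat.card V * Nat.card D * Nat.card ↥(A ⊓ centralizer (zl (S : Subgroup G) P : Set G)) := by ring
    _ ≤ Nat.card A * (Nat.card ↥(V ⊓ centralizer (A : Set G)) * Nat.card D) := h4
    _ = _ := by ring

include M in
theorem commutator_V {A : Subgroup G} (hA : A ≤ P) : ⁅zl (S : Subgroup G) P, A⁆ = ⁅V, A⁆ := by
  apply le_antisymm
  · rw [commutator_le]
    intro v hv a ha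
    obtain ⟨n, hn, d, hd, rfl⟩ := M.dec v hv
    have h1 := D_comm M (hA ha) hd
    have e : ⁅n * d, a⁆ = ⁅n, a⁆ := by
      rw [commutatorElement_def, commutatorElement_def]
      calc n * d * a * (n * d)⁻¹ * a⁻¹ = n * (d * a) * d⁻¹ * n⁻¹ * a⁻¹ := by group
        _ = n * a * n⁻¹ * a⁻¹ := by rw [← h1]; group
    rw [e]
    exact commutator_mem_commutator hn ha
  · exact commutator_mono M.V_le le_rfl

end off

/-! ### Matching of the lines -/

section matching

section basic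

variable {G : Type u} [Group G] {F : Type} [Field F] {S P V : Subgroup G} {k : ℕ}
  {M : NatV F S P V k} {A : Subgroup G} {I : Set (Fin k)}

theorem lines_ne_bot' {I : Set (Fin k)} (h : lines M I ≠ ⊥) : I.Nonempty := by
  by_contra h0
  rw [Set.not_nonempty_iff_eq_empty] at h0
  apply h
  rw [h0, eq_bot_iff]
  intro v hv
  have := lines_le M ∅ hv
  rwa [part_empty] at this

theorem line_ne_bot' (i : Fin k) : line M i ≠ ⊥ := by
  obtain ⟨v, hv, h⟩ := exists_fac M i ![1, 0]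
  intro h0
  have h1 : v ∈ line M i := (mem_line M).2 ⟨hv, by rw [h]; rfl⟩
  rw [h0, mem_bot] at h1
  rw [h1, e_one] at h
  exact one_ne_zero (congrFun h 0).symm

theorem line_inj {i j : Fin k} (h : line M i ≤ line M j) : i = j := by
  by_contra hij
  apply line_ne_bot' (M := M) i
  rw [eq_bot_iff, ← fac_inf M hij]
  exact le_inf (line_le M i) (h.trans (line_le M j))

/-- `{[v, a] | a ∈ A}` for `v` in a factor. -/
theorem Ind.mem_line_iff (h : Ind M A I) (hA : A ≤ P) {i : Fin k} (hi : i ∈ I) {v : G} (hv : v ∈ fac M i)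
    (hv1 : M.e v i 1 ≠ 0) {w : G} : w ∈ line M i ↔ ∃ a ∈ A, ⁅v, a⁆ = w := by
  classical
  constructor
  · intro hw
    rw [mem_line] at hw
    obtain ⟨a, ha, hact⟩ := h.ex (fun j => if j = i then -(M.e w i 0 / M.e v i 1) else 0) fun j hj => by
      rw [if_neg]
      rintro rfl
      exact hj hi
    refine ⟨a, ha, ?_⟩
    refine e_inj M (e_comm hv.1 (hA ha) hact i).1 hw.1.1 (funext fun j => ?_)
    obtain ⟨-, h2, h3⟩ := e_comm hv.1 (hA ha) hact j
    by_cases hj : j = i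
    · subst hj
      apply NatPair.ext2
      · rw [h2, if_pos rfl]
        field_simp
      · rw [h3, hw.2]
    · apply NatPair.ext2
      · rw [h2, if_neg hj, hw.1.2 j hj]
        simp
      · rw [h3, hw.1.2 j hj]
        rfl
  · rintro ⟨a, ha, rfl⟩
    obtain ⟨b, hb, hact⟩ := h.act a ha
    rw [mem_line]
    refine ⟨⟨(e_comm hv.1 (hA ha) hact i).1, fun j hj => ?_⟩, (e_comm hv.1 (hA ha) hact i).2.2⟩
    obtain ⟨-, h2, h3⟩ := e_comm hv.1 (hA ha) hact j
    apply NatPair.ext2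
    · rw [h2, hv.2 j hj]
      simp
    · rw [h3]
      rfl

/-- `{[v, a] | a ∈ V}` for `v` acting as `up c`. -/
theorem mem_lines_iff {v : G} (hv : v ∈ P) {c : Fin k → F} (hc : ActsSL M.e V ⊥ v fun i => up (c i))
    (hk : 0 < k) {w : G} : w ∈ lines M {j | c j ≠ 0} ↔ ∃ a ∈ V, ⁅v, a⁆ = w := by
  classical
  have key : ∀ a ∈ V, ⁅v, a⁆ ∈ V ∧ ∀ j, M.e ⁅v, a⁆ j 0 = c j * M.e a j 1 ∧ M.e ⁅v, a⁆ j 1 = 0 := by
    intro a ha
    have e : ⁅v, a⁆ = ⁅a, v⁆⁻¹ := (commutatorElement_inv a v).symm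
    have h0 := (e_comm ha hv hc ⟨0, hk⟩).1
    rw [e]
    refine ⟨inv_mem h0, fun j => ?_⟩
    obtain ⟨-, h2, h3⟩ := e_comm ha hv hc j
    rw [e_inv M h0, Pi.neg_apply, Pi.neg_apply, Pi.neg_apply, h2, h3, neg_neg, neg_zero]
    exact ⟨rfl, rfl⟩
  constructor
  · intro hw
    obtain ⟨a, ha, hae⟩ := M.surj fun j => ![0, M.e w j 0 / c j]
    refine ⟨a, ha, ?_⟩
    refine e_inj M (key a ha).1 hw.1.1 (funext fun j => ?_)
    obtain ⟨h2, h3⟩ := (key a ha).2 j
    apply NatPair.ext2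
    · rw [h2, hae]
      by_cases hj : c j = 0
      · have : M.e w j = 0 := hw.1.2 j fun h => h hj
        rw [this, hj]
        simp
      · change c j * (M.e w j 0 / c j) = _
        field_simp
    · rw [h3, hw.2]
  · rintro ⟨a, ha, rfl⟩
    refine ⟨⟨(key a ha).1, fun j hj => ?_⟩, fun j => ((key a ha).2 j).2⟩
    have hj' : c j = 0 := by
      by_contra h
      exact hj h
    apply NatPair.ext2
    · rw [((key a ha).2 j).1, hj', zero_mul]
      rfl
    · rw [((key a ha).2 j).2]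
      rfl

end basic

section pair

variable {G : Type u} [Group G] {F F' : Type} [Field F] [Field F'] {S P V S' P' V' : Subgroup G} {k k' : ℕ}
  {M : NatV F S P V k} {M' : NatV F' S' P' V' k'} {I : Set (Fin k)} {I' : Set (Fin k')}

theorem exists_J (hI : Ind M V' I) (hI' : Ind M' V I') (hVP : V' ≤ P) (hVP' : V ≤ P')
    (hk' : 0 < k') {i : Fin k} (hi : i ∈ I) {v : G} (hv : v ∈ fac M i) (hv1 : M.e v i 1 ≠ 0) :
    ∃ c : Fin k' → F', (∀ j, j ∉ I' → c j = 0) ∧ ActsSL M'.e V' ⊥ v (fun j => up (c j)) ∧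
      line M i = lines M' {j | c j ≠ 0} := by
  obtain ⟨c, hc, hact⟩ := hI'.act v hv.1
  refine ⟨c, hc, hact, ?_⟩
  ext w
  rw [Ind.mem_line_iff hI hVP hi hv hv1, mem_lines_iff (hVP' hv.1) hact hk']

/-- **Matching of the lines.** -/
theorem exists_match (hI : Ind M V' I) (hI' : Ind M' V I') (hVP : V' ≤ P)
    (hVP' : V ≤ P') (hk' : 0 < k') {i : Fin k} (hi : i ∈ I) :
    ∃ j ∈ I', line M i = line M' j ∧ ∀ v ∈ fac M i, M.e v i 1 ≠ 0 →
      ∃ c : Fin k' → F', c j ≠ 0 ∧ (∀ l, l ≠ j → c l = 0) ∧ ActsSL M'.e V' ⊥ v fun l => up (c l) := by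
  have hk : 0 < k := Nat.pos_of_ne_zero fun h => by subst h; exact i.elim0
  obtain ⟨v, hv, hve⟩ := exists_fac M i ![0, 1]
  have hv1 : M.e v i 1 ≠ 0 := by rw [hve]; exact one_ne_zero
  obtain ⟨c, hc, hact, hline⟩ := exists_J hI hI' hVP hVP' hk' hi hv hv1
  obtain ⟨j, hj⟩ := lines_ne_bot' (M := M') (hline ▸ line_ne_bot' (M := M) i)
  have hjI : j ∈ I' := by
    by_contra h
    exact hj (hc j h)
  -- the other way round
  have hle : line M' j ≤ line M i := by
    rw [hline]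
    exact lines_mono M' (Set.singleton_subset_iff.2 hj)
  obtain ⟨v', hv', hve'⟩ := exists_fac M' j ![0, 1]
  have hv1' : M'.e v' j 1 ≠ 0 := by rw [hve']; exact one_ne_zero
  obtain ⟨c', hc', hact', hline'⟩ := exists_J hI' hI hVP' hVP hk hjI hv' hv1'
  obtain ⟨i', hi'⟩ := lines_ne_bot' (M := M) (hline' ▸ line_ne_bot' (M := M') j)
  have hle' : line M i' ≤ line M' j := by
    rw [hline']
    exact lines_mono M (Set.singleton_subset_iff.2 hi')
  have hii : i' = i := line_inj (hle'.trans hle)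
  rw [hii] at hle'
  have heq : line M i = line M' j := le_antisymm hle' hle
  refine ⟨j, hjI, heq, fun u hu hu1 => ?_⟩
  obtain ⟨d, hd, hdact, hdline⟩ := exists_J hI hI' hVP hVP' hk' hi hu hu1
  have h1 : ∀ l, l ≠ j → d l = 0 := by
    intro l hl
    by_contra h
    apply hl
    have h2 : line M' l ≤ line M i := by
      rw [hdline]
      exact lines_mono M' (Set.singleton_subset_iff.2 h)
    rw [heq] at h2
    exact line_inj h2
  refine ⟨d, ?_, h1, hdact⟩
  obtain ⟨l, hl⟩ := lines_ne_bot' (M := M') (hdline ▸ line_ne_bot' (M := M) i)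
  by_cases hlj : l = j
  · rw [← hlj]; exact hl
  · exact absurd (h1 l hlj) hl

end pair

end matching

/-! ### The entry theorem -/

section entry

variable {G : Type u} [Group G] [Finite G] {F F' : Type} [Field F] [Field F'] {S S' : Sylow 2 G}
  {P V D P' V' D' : Subgroup G} {k k' : ℕ}

/-- a pair in normal position, two `NatD`'s, and the offenders -/
structure PairD (M : NatD F S P V D k) (M' : NatD F' S' P' V' D' k') (I : Set (Fin k)) (I' : Set (Fin k')) :
    Prop where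
  pair : Pair S S' P P'
  ind : Ind M.toNatV V' I
  ind' : Ind M'.toNatV V I'

/-- `V'` induces the same group as `V_{P'}` -/
theorem ind_V {M : NatD F S P V D k} {M' : NatD F' S' P' V' D' k'} (h : Pair S S' P P') {I : Set (Fin k)}
    (hI : Ind M.toNatV (zl (S' : Subgroup G) P') I) : Ind M.toNatV V' I where
  act a ha := hI.act a (M'.V_le ha)
  ex b hb := by
    obtain ⟨a, ha, hA⟩ := hI.ex b hb
    obtain ⟨n, hn, d, hd, rfl⟩ := M'.dec a ha
    have hd' : ∀ v ∈ V, d * v = v * d := fun v hv =>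
      (D_comm M' (h.star'.le (h.le' (M.V_le hv))) hd).symm
    refine ⟨n, hn, fun v hv i => ?_, fun x hx => ?_⟩
    · have h1 := hA.1 v hv i
      have e : n * d * v * (n * d)⁻¹ = n * v * n⁻¹ := by
        calc n * d * v * (n * d)⁻¹ = n * (d * v) * d⁻¹ * n⁻¹ := by group
          _ = n * v * n⁻¹ := by rw [hd' v hv]; group
      rwa [e] at h1
    · rw [mem_bot] at hx
      rw [hx, mul_one, one_mul]

theorem exists_pairD (h : Pair S S' P P') (hT : NoOver (zl (S : Subgroup G) P) P)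
    (hT' : NoOver (zl (S' : Subgroup G) P') P') (M : NatD F S P V D k) (M' : NatD F' S' P' V' D' k') :
    ∃ I I', PairD M M' I I' := by
  obtain ⟨I, hI⟩ := exists_ind M.toNatV h.le (off_V M (h.le.trans h.star.le) (h.off M.hG hT'))
  obtain ⟨I', hI'⟩ := exists_ind M'.toNatV h.le' (off_V M' (h.le'.trans h.star'.le) (h.symm.off M.hG hT))
  exact ⟨I, I', h, ind_V (M' := M') h hI, ind_V (M' := M) h.symm hI'⟩

namespace PairD

variable {M : NatD F S P V D k} {M' : NatD F' S' P' V' D' k'} {I : Set (Fin k)} {I' : Set (Fin k')}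

theorem symm (h : PairD M M' I I') : PairD M' M I' I := ⟨h.pair.symm, h.ind', h.ind⟩

variable (h : PairD M M' I I')

include h

theorem zl_le' : zl (S : Subgroup G) P ≤ P' := h.pair.le'.trans h.pair.star'.le

theorem V_le' : V ≤ P' := M.V_le.trans h.zl_le'

/-- `D` centralises `V_{P'}` -/
theorem comm_D {d w : G} (hd : d ∈ D) (hw : w ∈ zl (S' : Subgroup G) P') : d * w = w * d :=
  (D_comm M (h.symm.zl_le' hw) hd).symm

theorem comm_D' {d w : G} (hd : d ∈ D') (hw : w ∈ zl (S : Subgroup G) P) : d * w = w * d :=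
  h.symm.comm_D hd hw

/-- `[V_P, V_{P'}] = [V, V'] = lines M I` -/
theorem commutator_eq : ⁅zl (S : Subgroup G) P, zl (S' : Subgroup G) P'⁆ = lines M.toNatV I := by
  rw [commutator_V M h.symm.zl_le', commutator_comm, commutator_V M' (h.V_le'), commutator_comm]
  exact h.ind.commutator_eq h.symm.V_le'

theorem nonempty : I.Nonempty := lines_ne_bot' (M := M.toNatV) (h.commutator_eq ▸ h.pair.ne)

theorem lines_eq : lines M.toNatV I = lines M'.toNatV I' := by
  rw [← h.commutator_eq, ← h.symm.commutator_eq, commutator_comm]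

/-- a noncommuting pair in matching factors -/
theorem exists_ne {i : Fin k} {j : Fin k'} (hact : ∀ v ∈ fac M.toNatV i, M.e v i 1 ≠ 0 →
      ∃ c : Fin k' → F', c j ≠ 0 ∧ (∀ l, l ≠ j → c l = 0) ∧ ActsSL M'.e V' ⊥ v fun l => up (c l)) :
    ∃ v ∈ fac M.toNatV i, ∃ a ∈ fac M'.toNatV j, v * a ≠ a * v := by
  obtain ⟨v, hv, hve⟩ := exists_fac M.toNatV i ![0, 1]
  obtain ⟨c, hcj, -, hca⟩ := hact v hv (by rw [hve]; exact one_ne_zero)
  obtain ⟨a, ha, hae⟩ := exists_fac M'.toNatV j ![0, 1]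
  refine ⟨v, hv, a, ha, fun h0 => ?_⟩
  have h1 := (e_comm (M := M'.toNatV) ha.1 (h.V_le' hv.1) hca j).2.1
  have h2 : ⁅a, v⁆ = 1 := commutatorElement_eq_one_iff_mul_comm.2 h0.symm
  rw [h2, e_one, hae] at h1
  apply hcj
  have h3 : (0 : F') = -(c j * 1) := h1
  rw [mul_one] at h3
  exact (neg_eq_zero.1 h3.symm)

end PairD

/-- **The entry data**: `[V_P, V_{P'}] = line M i = line M' i'`. -/
structure Ent (M : NatD F S P V D k) (M' : NatD F' S' P' V' D' k') (i : Fin k) (i' : Fin k') : Prop where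
  pair : Pair S S' P P'
  ind : Ind M.toNatV V' {i}
  ind' : Ind M'.toNatV V {i'}
  comm_eq : ⁅zl (S : Subgroup G) P, zl (S' : Subgroup G) P'⁆ = line M.toNatV i
  line_eq : line M.toNatV i = line M'.toNatV i'
  card_eq : Nat.card F' = Nat.card F
  le_KX : fac M.toNatV i ≤ KX (line M.toNatV i)
  le_KX' : fac M'.toNatV i' ≤ KX (line M.toNatV i)
  le_o2 : fac M.toNatV i ≤ o2 (normalizer (line M.toNatV i : Set G))
  le_o2' : fac M'.toNatV i' ≤ o2 (normalizer (line M.toNatV i : Set G))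
  ne : ∃ v ∈ fac M.toNatV i, ∃ w ∈ fac M'.toNatV i', v * w ≠ w * v

namespace Ent

variable {M : NatD F S P V D k} {M' : NatD F' S' P' V' D' k'} {i : Fin k} {i' : Fin k'}

theorem pairD (h : Ent M M' i i') : PairD M M' {i} {i'} := ⟨h.pair, h.ind, h.ind'⟩

theorem symm (h : Ent M M' i i') : Ent M' M i' i where
  pair := h.pair.symm
  ind := h.ind'
  ind' := h.ind
  comm_eq := by rw [commutator_comm, h.comm_eq, h.line_eq]
  line_eq := h.line_eq.symm
  card_eq := h.card_eq.symm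
  le_KX := by rw [← h.line_eq]; exact h.le_KX'
  le_KX' := by rw [← h.line_eq]; exact h.le_KX
  le_o2 := by rw [← h.line_eq]; exact h.le_o2'
  le_o2' := by rw [← h.line_eq]; exact h.le_o2
  ne := by
    obtain ⟨v, hv, w, hw, hne⟩ := h.ne
    exact ⟨w, hw, v, hv, fun h0 => hne h0.symm⟩

/-- the other factors centralise `V_{P'}` -/
theorem other (h : Ent M M' i i') {j : Fin k} (hj : j ≠ i) {v w : G} (hv : v ∈ fac M.toNatV j)
    (hw : w ∈ zl (S' : Subgroup G) P') : v * w = w * v := by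
  obtain ⟨n, hn, d, hd, rfl⟩ := M'.dec w hw
  have h1 : d * v = v * d := h.pairD.comm_D' hd (M.V_le hv.1)
  have h2 : n * v = v * n := by
    obtain ⟨b, hb, hact⟩ := h.ind.act n hn
    have hnP : n ∈ P := h.pairD.symm.V_le' hn
    have h3 : n * v * n⁻¹ = v := by
      refine e_inj M.toNatV (cj_mem M.toNatV hnP hv.1) hv.1 (funext fun l => ?_)
      rw [hact.1 v hv.1 l]
      by_cases hl : l = i
      · have h4 : M.e v l = 0 := hv.2 l (by rw [hl]; exact hj.symm)
        rw [h4]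
        apply NatPair.ext2
        · rw [NatPair.ap_zero']; simp
        · rw [NatPair.ap_one']; simp
      · change ap (up (b l)) (M.e v l) = _
        rw [hb l (by simpa using hl), up_zero, ap_one]
    rw [← mul_inv_eq_iff_eq_mul]
    exact h3
  rw [← mul_assoc, ← h2, mul_assoc, ← h1, mul_assoc]

end Ent

section side

variable [CharP F 2] (M : NatD F S P V D k)

/-- `O₂(N_G(line M i))` centralises `line M i` (any number of factors) -/
theorem o2_cent_line' (i : Fin k) :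
    o2 (normalizer (line M.toNatV i : Set G)) ≤ centralizer (line M.toNatV i : Set G) := by
  set Q := o2 (normalizer (line M.toNatV i : Set G)) with hQ
  have h2 : IsPGroup 2 (line M.toNatV i) :=
    (S.isPGroup'.to_le (V_le_S M)).to_le ((line_le _ _).trans (fac_le _ _))
  obtain ⟨a, ha, ha1, hac⟩ := Half.exists_fixed h2 (line_ne_bot' (M := M.toNatV) i) (o2_isPGroup _)
    (o2_le (normalizer (line M.toNatV i : Set G)))
  intro y hy
  rw [mem_centralizer_iff]
  intro r hr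
  by_cases hr1 : r = 1
  · rw [hr1, one_mul, mul_one]
  obtain ⟨g, -, hgn, hgr⟩ := exists_tor M.toNatV ha hr ha1 hr1
  have h3 : g⁻¹ * y * g ∈ Q := by
    have := (mem_normalizer_iff.1 (le_normalizer_o2 _ (inv_mem hgn)) y).1 hy
    rwa [inv_inv] at this
  have h4 : g⁻¹ * y * g * a = a * (g⁻¹ * y * g) := mul_inv_eq_iff_eq_mul.1 (hac _ h3)
  rw [← hgr]
  calc g * a * g⁻¹ * y = g * (a * (g⁻¹ * y * g)) * g⁻¹ := by group
    _ = g * (g⁻¹ * y * g * a) * g⁻¹ := by rw [h4]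
    _ = y * (g * a * g⁻¹) := by group

/-- `N_G(line M i)` has characteristic 2 (any number of factors). -/
theorem char2_line' (i : Fin k) :
    normalizer (line M.toNatV i : Set G) ⊓ centralizer (o2 (normalizer (line M.toNatV i : Set G)) : Set G) ≤
      o2 (normalizer (line M.toNatV i : Set G)) :=
  MinSimple.Basic.char2_normalizer M.hG
    ((S.isPGroup'.to_le (V_le_S M)).to_le ((line_le _ _).trans (fac_le _ _))) (line_ne_bot' (M := M.toNatV) i)

/-- `O₂(N_G(line M i)) ≤ stab M i`, `k = 1, 2` -/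
theorem o2_line_le' (hk : k = 1 ∨ k = 2) (i : Fin k) :
    o2 (normalizer (line M.toNatV i : Set G)) ≤ stab M.toNatV i := by
  rcases hk with rfl | rfl
  · have h1 : (S : Subgroup G) ≤ stab M.toNatV i := by
      refine le_inf le_rfl ?_
      have h2 : fac M.toNatV i = V := by
        have h3 : ({i} : Set (Fin 1)) = Set.univ := by
          ext x
          simp [Subsingleton.elim x i]
        rw [fac, h3, part_univ]
      rw [h2]
      exact (SP M).trans M.nV
    refine le_trans ?_ h1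
    have h2 : (S : Subgroup G) ≤ normalizer (line M.toNatV i : Set G) :=
      h1.trans (stab_normalizes_line M.toNatV (SP M) i)
    exact VModule.o2_le_of_sylow S.isPGroup' (MinSimple.Basic.not_dvd_relIndex S h2)
  · obtain ⟨j, hj⟩ := exists_ne i
    exact o2_line_le M hj.symm

theorem fac_le_KX' (hk : k = 1 ∨ k = 2) (i : Fin k) : fac M.toNatV i ≤ KX (line M.toNatV i) :=
  fac_le_KX M.toNatV (SP M) (o2_line_le' M hk i) (o2_cent_line' M i)

/-- **`fac M i ≤ O₂(N_G(line M i))`**, `k = 1, 2` -/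
theorem fac_le_o2 (hk : k = 1 ∨ k = 2) (i : Fin k) :
    fac M.toNatV i ≤ o2 (normalizer (line M.toNatV i : Set G)) :=
  (fac_le_KX' M hk i).trans (KX_le (char2_line' M i) fun _ hy => NV.sq M.toNatV ((mem_line _).1 hy).1.1)

end side

/-- **Entry theorem**: a mutual pair, `P` with 2, `P'` with at most 2 natural factors. -/
theorem exists_entry [CharP F 2] [CharP F' 2] [Finite F] [Finite F'] (h : Pair S S' P P')
    (hT : NoOver (zl (S : Subgroup G) P) P) (hT' : NoOver (zl (S' : Subgroup G) P') P')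
    (M : NatD F S P V D 2) (M' : NatD F' S' P' V' D' k') (hk' : k' = 1 ∨ k' = 2) :
    ∃ i i', Ent M M' i i' := by
  obtain ⟨I, I', hp⟩ := exists_pairD h hT hT' M M'
  have hk0 : 0 < k' := by omega
  obtain ⟨i, hi⟩ := hp.nonempty
  obtain ⟨i', hi', hl, hact⟩ := exists_match hp.ind hp.ind' hp.symm.V_le' hp.V_le' hk0 hi
  -- `I = {i}`
  have hI : I = {i} := by
    by_contra hcon
    obtain ⟨j, hj, hji⟩ : ∃ j ∈ I, j ≠ i := by
      by_contra h0
      push Not at h0
      apply hcon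
      ext x
      exact ⟨fun hx => h0 x hx, fun hx => by rw [show x = i from hx]; exact hi⟩
    obtain ⟨j', -, hl', hact'⟩ := exists_match hp.ind hp.ind' hp.symm.V_le' hp.V_le' hk0 hj
    have hne : i' ≠ j' := by
      rintro rfl
      exact hji (line_inj (M := M.toNatV) (hl'.trans hl.symm).le)
    obtain rfl : k' = 2 := by
      rcases hk' with rfl | rfl
      · exact absurd (Subsingleton.elim i' j') hne
      · rfl
    obtain ⟨v, hv, w, hw, hvw⟩ := hp.exists_ne hact'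
    have h1 := (fac_le_o2_line M hji.symm).2
    have h2 := (fac_le_o2_line M' hne).1
    rw [← hl] at h2
    exact hvw (mem_centralizer_iff.1 (h1 (h2 hw)) v hv)
  subst hI
  -- `I' = {i'}`
  have hI' : I' = {i'} := by
    ext x
    refine ⟨fun hx => ?_, fun hx => by rw [show x = i' from hx]; exact hi'⟩
    have h1 : line M'.toNatV x ≤ line M'.toNatV i' := by
      rw [← hl]
      change _ ≤ lines M.toNatV {i}
      rw [hp.lines_eq]
      exact lines_mono M'.toNatV (Set.singleton_subset_iff.2 hx)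
    exact line_inj (M := M'.toNatV) h1
  subst hI'
  have hc : Nat.card F' = Nat.card F := by
    rw [← card_line M.toNatV i, ← card_line M'.toNatV i', hl]
  refine ⟨i, i', hp.pair, hp.ind, hp.ind', hp.commutator_eq, hl, hc, fac_le_KX' M (Or.inr rfl) i, ?_,
    fac_le_o2 M (Or.inr rfl) i, ?_, hp.exists_ne hact⟩
  · rw [hl]; exact fac_le_KX' M' hk' i'
  · rw [hl]; exact fac_le_o2 M' hk' i'

end entry

end Cfsg.Agent.Omega.IId.NV

end

section


/-!
# `CvLine K` (the socket of `Cv/Cut.lean`) from the entry theorem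

* `exists_ent` : the entry data `Ent M M' i i'` for a pair of `HypN K S`;
* `lineD_of_ent`, `cvLine`.
-/

set_option autoImplicit false

namespace Cfsg.Agent.Omega.IId.Cv

open Subgroup Pointwise Cfsg Cfsg.Agent.ZN Cfsg.Agent.ZN.ChoiceBase
open Cfsg.Agent.Omega.MinPar Cfsg.Agent.Omega.Frame Cfsg.Agent.Omega.FFThm Cfsg.Agent.Omega.FrameMulti
open Cfsg.Agent.Omega.FrameLE (AllIn)
open Cfsg.Agent.Omega.IId.NV

universe u

theorem exists_ent {K : Cls.{u}} {G : Type u} [Group G] [Finite G] {S S' : Sylow 2 G} (hH : HypN K S)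
    {P P' : Subgroup G} (hp : Pair S S' P P') {F F' : Type} [Field F] [Finite F] [CharP F 2] [Field F'] [Finite F']
    [CharP F' 2] {V V' D D' : Subgroup G} {k' : ℕ} (M : NatD F S P V D 2) (M' : NatD F' S' P' V' D' k')
    (h1 : 1 ≤ k') (h2 : k' ≤ 2) : ∃ i i', Ent M M' i i' :=
  exists_entry hp (hH.toHyp.typed' hp).1.noOver (hH.toHyp.typed' hp).2.noOver M M' (by omega)

theorem lineD_of_ent {G : Type u} [Group G] [Finite G] {F F' : Type} [Field F] [Field F'] {S S' : Sylow 2 G}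
    {P P' V V' D D' : Subgroup G} {k k' : ℕ} {M : NatD F S P V D k} {M' : NatD F' S' P' V' D' k'} {i : Fin k}
    {i' : Fin k'} (h : Ent M M' i i') : LineD M M' i i' :=
  ⟨h.comm_eq, h.line_eq, h.card_eq, h.le_o2, h.le_o2', h.ne⟩

/-- **`CvLine`** -/
theorem cvLine (K : Cls.{u}) : CvLine K := by
  intro G _ _ S S' hH P P' hp F F' _ _ _ _ _ _ V V' D D' k' M M' h1 h2
  obtain ⟨i, i', h⟩ := exists_ent hH hp M M' h1 h2
  exact ⟨i, i', lineD_of_ent h⟩

end Cfsg.Agent.Omega.IId.Cv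

end
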