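import Cfsg.Agent.Mrg.Omega.IId.M4.Entry
import Cfsg.Agent.Mrg.Omega.IId.Cv.Cut


/-!
# `WrCv`, two factors on both sides, mixed pairs, CASE 1 (helper994 #17943 (2))

`M : NatD F S P V D 2`, `M' : NatD F' S' P' V' D' 2`, `line M i = line M' i' = R`, `stab M i`, `stab M' i'` Sylow
2-subgroups of `N_G(R)`, `⟨fac M i^{N(R)}⟩` and `⟨fac M' i'^{N(R)}⟩` abelian, `fac M i` and `fac M' i'` do not commute.

* `mixedT_of` : `M4.MixedT` for `fac M i` and a conjugate of `fac M' i'`;
* `mixed_false_four` : impossible for `|F| ≥ 4` (any `D`, `D'`);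
* `mixed_false_two`  : impossible for `|F| = 2` if `D ≠ 1`.
-/

set_option autoImplicit false
set_option linter.unusedSectionVars false

namespace Cfsg.Agent.Omega.IId.NV

open Subgroup Cfsg Cfsg.Agent.Lib.SL2Mat
open Cfsg.Agent.ZN (o2 zc zl)
open Cfsg.Agent.Omega.BTwo (cj mem_cj cj_mono cj_eq_self_iff conj_mem_cj QQ card_cj)
open Cfsg.Agent.Omega.Mix (RMod LL LL_conj V_le_LL char2_normalizer pt)
open Cfsg.Agent.Omega.IId.M4 (MixedT toRMod toRMod_line nmG exists_cj_eq LL_comm)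
open Cfsg.Agent.Omega.IId.FourSide (vec_ne)

universe u

variable {G : Type u} [Group G] [Finite G] {F F' : Type} [Field F] [Finite F] [CharP F 2] [Field F'] [Finite F']
  [CharP F' 2] {S S' : Sylow 2 G} {P V D P' V' D' : Subgroup G}

/-- The configuration: mixed pair, two factors on both sides, CASE 1. -/
structure Mx (M : NatD F S P V D 2) (M' : NatD F' S' P' V' D' 2) (i i' : Fin 2) : Prop where
  hl : line M.toNatV i = line M'.toNatV i'
  syl : ¬ 2 ∣ (stab M.toNatV i).relIndex (normalizer (line M.toNatV i : Set G))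
  syl' : ¬ 2 ∣ (stab M'.toNatV i').relIndex (normalizer (line M'.toNatV i' : Set G))
  ne : ∃ v ∈ fac M.toNatV i, ∃ w ∈ fac M'.toNatV i', v * w ≠ w * v
  comm : ∀ g ∈ normalizer (line M.toNatV i : Set G), ∀ v ∈ fac M.toNatV i, ∀ w ∈ fac M.toNatV i,
    v * (g * w * g⁻¹) = g * w * g⁻¹ * v
  comm' : ∀ g ∈ normalizer (line M'.toNatV i' : Set G), ∀ v ∈ fac M'.toNatV i', ∀ w ∈ fac M'.toNatV i',
    v * (g * w * g⁻¹) = g * w * g⁻¹ * v

theorem fac_le_center (M : NatD F S P V D 2) {i j : Fin 2} (hij : i ≠ j) {K : Subgroup G} (hK : IsPGroup 2 K)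
    (hK1 : K ≠ ⊥) (hN : nmG (pre M.toNatV i) ≤ normalizer (K : Set G)) :
    fac M.toNatV i ≤ o2 (normalizer (K : Set G)) ∧
      o2 (normalizer (K : Set G)) ≤ centralizer (fac M.toNatV i : Set G) := by
  refine half_two M hij.symm (MinSimple.Basic.char2_normalizer M.hG hK hK1) ?_ ?_
  · rw [← stab_eq M.toNatV (SP M) hij]
    exact (stab_le_nmG (SP M) M.toNatV i).trans hN
  · exact (grp_le_nmG M.toNatV i).trans hN

/-- `MixedT` for `fac M i` and a conjugate of `fac M' i'` -/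
theorem mixedT_of {M : NatD F S P V D 2} {M' : NatD F' S' P' V' D' 2} {i i' : Fin 2} (h : Mx M M' i i') :
    ∃ k ∈ normalizer (line M.toNatV i : Set G), cj k (stab M'.toNatV i') = stab M.toNatV i ∧
      MixedT (V₂ := cj k (fac M'.toNatV i')) (N₂ := cj k (nmG (pre M'.toNatV i'))) (toRMod (pre M.toNatV i))
        ((toRMod (pre M'.toNatV i')).conj k) (line M.toNatV i) (stab M.toNatV i) := by
  obtain ⟨j, hij⟩ : ∃ j : Fin 2, i ≠ j := ⟨i + 1, by omega⟩
  obtain ⟨j', hij'⟩ : ∃ j' : Fin 2, i' ≠ j' := ⟨i' + 1, by omega⟩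
  have hl := h.hl
  set R := line M.toNatV i with hRdef
  have hfact : Fact (Nat.Prime 2) := ⟨Nat.prime_two⟩
  have hT' : stab M'.toNatV i' ≤ normalizer (R : Set G) := by
    rw [hl]; exact stab_normalizes_line M'.toNatV (SP M') i'
  have hT : stab M.toNatV i ≤ normalizer (R : Set G) := stab_normalizes_line M.toNatV (SP M) i
  have hT2 : IsPGroup 2 (stab M.toNatV i) := S.isPGroup'.to_le (stab_le _ _)
  have hT2' : IsPGroup 2 (stab M'.toNatV i') := S'.isPGroup'.to_le (stab_le _ _)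
  obtain ⟨k, hk, hkT⟩ : ∃ k ∈ normalizer (R : Set G), cj k (stab M'.toNatV i') = stab M.toNatV i := by
    refine exists_cj_eq hT hT' hT2 hT2' h.syl ?_
    rw [hl]; exact h.syl'
  have hkR : cj k R = R := cj_eq_self_iff.2 hk
  refine ⟨k, hk, hkT, ?_⟩
  have eLL : LL (cj k (fac M'.toNatV i')) R R = LL (fac M'.toNatV i') R R := by
    have e1 := LL_conj k (fac M'.toNatV i') R R
    rwa [hkR] at e1
  have hline : ∀ w, ((toRMod (pre M'.toNatV i')).conj k).line w = cj k ((toRMod (pre M'.toNatV i')).line w) :=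
    fun w => (toRMod (pre M'.toNatV i')).conj_line k w
  refine ⟨⟨![1, 0], vec_ne, ?_⟩, ⟨![1, 0], vec_ne, ?_⟩, hT2, stab_le_nmG (SP M) _ i, ?_, hT, h.syl, ?_,
    LL_comm h.comm, ?_, ?_, ?_⟩
  · rw [toRMod_line, pre_line]
  · have h5 := hline ![1, 0]
    rw [toRMod_line, pre_line, ← hl, hkR] at h5
    exact h5.symm
  · rw [← hkT]
    exact cj_mono (stab_le_nmG (SP M') _ i')
  · exact fun K hK hK1 => char2_normalizer M.hG hK hK1
  · rw [eLL]
    apply LL_comm
    rw [hl]
    exact h.comm'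
  · rw [eLL]
    obtain ⟨v, hv, w, hw, hvw⟩ := h.ne
    exact ⟨v, V_le_LL _ _ hv, w, V_le_LL _ _ hw, hvw⟩
  · intro K hK k1 k2 k3
    by_contra hK1
    have hk' : k ∈ normalizer (K : Set G) := k3 hk
    have k4 : nmG (pre M'.toNatV i') ≤ normalizer (K : Set G) := by
      intro x hx
      have h3 := k2 (conj_mem_cj (g := k) hx)
      have h4 := mul_mem (mul_mem (inv_mem hk') h3) hk'
      have e : k⁻¹ * (k * x * k⁻¹) * k = x := by group
      rwa [e] at h4
    have h3 := fac_le_center M hij hK hK1 k1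
    have h4 := fac_le_center M' hij' hK hK1 k4
    obtain ⟨v, hv, w, hw, hvw⟩ := h.ne
    exact hvw (mem_centralizer_iff.1 (h4.2 (h3.1 hv)) w hw).symm

/-- **Mixed pairs, CASE 1, `q ≥ 4`.** -/
theorem mixed_false_four {M : NatD F S P V D 2} {M' : NatD F' S' P' V' D' 2} {i i' : Fin 2} (h : Mx M M' i i')
    (h4 : 4 ≤ Nat.card F) : False := by
  obtain ⟨j, hij⟩ : ∃ j : Fin 2, i ≠ j := ⟨i + 1, by omega⟩
  obtain ⟨k, -, -, m⟩ := mixedT_of h
  have h5 := m.cen_le h4
  have h6 : fac M.toNatV j ≤ line M.toNatV i := by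
    refine le_trans ?_ h5
    rw [Subgroup.le_centralizer_iff]
    exact (fac_le_o2_line M hij).2
  have h7 : fac M.toNatV j ≤ fac M.toNatV i ⊓ fac M.toNatV j := le_inf (h6.trans (line_le _ _)) le_rfl
  rw [fac_inf M.toNatV hij, le_bot_iff] at h7
  exact fac_ne_bot M.toNatV j h7

/-- **Mixed pairs, CASE 1, `q = 2`, `D ≠ 1`.** -/
theorem mixed_false_two {M : NatD F S P V D 2} {M' : NatD F' S' P' V' D' 2} {i i' : Fin 2} (h : Mx M M' i i')
    (hF : Nat.card F = 2) (hD : D ≠ ⊥) : False := by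
  obtain ⟨j, hij⟩ : ∃ j : Fin 2, i ≠ j := ⟨i + 1, by omega⟩
  obtain ⟨j', hij'⟩ : ∃ j' : Fin 2, i' ≠ j' := ⟨i' + 1, by omega⟩
  obtain ⟨k, hk, hkT, m⟩ := mixedT_of h
  have hF' : Nat.card F' = 2 := by rw [← m.card_eq]; exact hF
  have hl := h.hl
  -- the generator of the line
  have hR2 : Nat.card (line M.toNatV i) = 2 := by rw [card_line, hF]
  obtain ⟨⟨r, hr⟩, hr1, hru⟩ := (Nat.card_eq_two_iff' (1 : line M.toNatV i)).1 hR2
  have hr1' : r ≠ 1 := fun h => hr1 (Subtype.ext h)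
  have mem_R : ∀ g, g ∈ line M.toNatV i ↔ g = 1 ∨ g = r := by
    intro g
    constructor
    · intro hg
      by_cases h1 : g = 1
      · exact Or.inl h1
      · right
        exact congrArg Subtype.val (hru ⟨g, hg⟩ fun h2 => h1 (congrArg Subtype.val h2))
    · rintro (rfl | rfl)
      · exact one_mem _
      · exact hr
  -- every element of `Ω₁(Z(T))` is in `R M_1`
  have key : ∀ {F : Type} [Field F] [Finite F] [CharP F 2] {S : Sylow 2 G} {P V D : Subgroup G}
      (M : NatD F S P V D 2) {i j : Fin 2}, i ≠ j → Nat.card F = 2 → ∀ f ∈ zc (stab M.toNatV i),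
      ∃ u ∈ line M.toNatV i, ∃ z, f = u * z ∧ ∀ g ∈ grp M.toNatV {i}, g * z = z * g := by
    intro F _ _ _ S P V D M i j hij hF f hf
    obtain ⟨u, hu, w, hw, z, hz, huz, -, e⟩ := zc_stab_eq hF hij hf
    refine ⟨u, fix_le_line M.toNatV (SP M) hu fun t ht => ((MinSimple.VModule.mem_zc.1 huz).2.1 t ht), w * z,
      by rw [e, mul_assoc], fun g hg => ?_⟩
    have h1 : g * w = w * g := grp_comm M.toNatV (by simpa using hij) hg hw
    have h2 : g * z = z * g := DT_comm_grp M hij hz hg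
    calc g * (w * z) = (g * w) * z := by group
      _ = w * (g * z) := by rw [h1]; group
      _ = w * z * g := by rw [h2]; group
  set T := stab M.toNatV i with hTdef
  -- the action of the conjugate of `grp M' {i'}`
  have key' : ∀ f ∈ zc T, ∃ u ∈ line M.toNatV i, ∃ z, f = u * z ∧
      ∀ g ∈ cj k (grp M'.toNatV {i'}), g * z = z * g := by
    intro f hf
    have hf' : k⁻¹ * f * k ∈ zc (stab M'.toNatV i') := by
      obtain ⟨h1, h2, h3⟩ := MinSimple.VModule.mem_zc.1 hf
      refine MinSimple.VModule.mem_zc.2 ⟨?_, fun y hy => ?_, ?_⟩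
      · rw [← mem_cj, hkT]; exact h1
      · have h4 : k * y * k⁻¹ ∈ T := by rw [← hkT]; exact conj_mem_cj hy
        have h5 := h2 _ h4
        calc y * (k⁻¹ * f * k) = k⁻¹ * (k * y * k⁻¹ * f) * k := by group
          _ = k⁻¹ * (f * (k * y * k⁻¹)) * k := by rw [h5]
          _ = k⁻¹ * f * k * y := by group
      · calc (k⁻¹ * f * k) ^ 2 = k⁻¹ * (f ^ 2) * k := by rw [pow_two, pow_two]; group
          _ = 1 := by rw [h3]; group
    obtain ⟨u, hu, z, e, hz⟩ := key M' hij' hF' _ hf'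
    refine ⟨k * u * k⁻¹, ?_, k * z * k⁻¹, ?_, fun g hg => ?_⟩
    · rw [← hl] at hu
      exact (mem_normalizer_iff.1 hk u).1 hu
    · calc f = k * (k⁻¹ * f * k) * k⁻¹ := by group
        _ = k * (u * z) * k⁻¹ := by rw [e]
        _ = k * u * k⁻¹ * (k * z * k⁻¹) := by group
    · rw [mem_cj] at hg
      have h1 := hz _ hg
      calc g * (k * z * k⁻¹) = k * (k⁻¹ * g * k * z) * k⁻¹ := by group
        _ = k * (z * (k⁻¹ * g * k)) * k⁻¹ := by rw [h1]
        _ = k * z * k⁻¹ * g := by group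
  -- `z`
  obtain ⟨a, ha, ha1, haz⟩ := exists_fac_zc M hij
  obtain ⟨d, hd, hd1⟩ : ∃ d ∈ D, d ≠ 1 := by
    by_contra hcon
    push Not at hcon
    exact hD ((eq_bot_iff_forall D).2 hcon)
  have hdT := D_le_DT M hd
  obtain ⟨hdz, hdg⟩ := (mem_DT M (i := i)).1 hdT
  have hag : ∀ g ∈ grp M.toNatV {i}, g * a = a * g := fun g hg => grp_comm M.toNatV (by simpa using hij) hg ha
  have had : a * d ≠ 1 := by
    intro h1
    have h2 : a ∈ V ⊓ D := ⟨ha.1, by rw [eq_inv_of_mul_eq_one_left h1]; exact D.inv_mem hd⟩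
    rw [M.inf] at h2
    exact ha1 (mem_bot.1 h2)
  obtain ⟨z, hz1, hzz, hzg, hzg'⟩ : ∃ z, z ≠ 1 ∧ z ∈ zc T ∧ (∀ g ∈ grp M.toNatV {i}, g * z = z * g) ∧
      ∀ g ∈ cj k (grp M'.toNatV {i'}), g * z = z * g := by
    obtain ⟨u, hu, x, ex, hx⟩ := key' a haz
    obtain ⟨u', hu', x', ex', hx'⟩ := key' d hdz
    rcases (mem_R u).1 hu with hu2 | hu2
    · rw [hu2, one_mul] at ex
      subst ex
      exact ⟨a, ha1, haz, hag, hx⟩
    rcases (mem_R u').1 hu' with hu2' | hu2'
    · rw [hu2', one_mul] at ex'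
      subst ex'
      exact ⟨d, hd1, hdz, hdg i, hx'⟩
    rw [hu2] at ex
    rw [hu2'] at ex'
    refine ⟨a * d, had, mul_mem haz hdz, fun g hg => ?_, fun g hg => ?_⟩
    · have h1 := hag g hg
      have h2 := hdg i g hg
      calc g * (a * d) = (g * a) * d := by group
        _ = a * (g * d) := by rw [h1]; group
        _ = a * d * g := by rw [h2]; group
    · -- `a d = x x'`
      have hr2 : r * r = 1 := sq M.toNatV ((line_le _ _).trans (fac_le _ _) hr)
      have hrT : ∀ y ∈ zc T, r * y = y * r := fun y hy =>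
        (MinSimple.VModule.mem_zc.1 hy).2.1 r (by
          exact part_le_stb (blk_two M i) ((line_le _ _).trans (fac_le _ _) hr))
      have e1 : a * d = x * x' := by
        have hxr : x * r = r * x := by
          have h1 := hrT a haz
          rw [ex] at h1
          have h2 : r * (r * x) = r * (x * r) := by rw [h1]; group
          exact (mul_left_cancel h2).symm
        calc a * d = r * (x * r) * x' := by rw [ex, ex']; group
          _ = (r * r) * x * x' := by rw [hxr]; group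
          _ = x * x' := by rw [hr2, one_mul]
      have h1 := hx g hg
      have h2 := hx' g hg
      rw [e1]
      calc g * (x * x') = (g * x) * x' := by group
        _ = x * (g * x') := by rw [h1]; group
        _ = x * x' * g := by rw [h2]; group
  have hzT : ∀ t ∈ T, t * z = z * t := fun t ht => (MinSimple.VModule.mem_zc.1 hzz).2.1 t ht
  have hzsq : z ^ 2 = 1 := (MinSimple.VModule.mem_zc.1 hzz).2.2
  obtain ⟨hc1, hc2⟩ := cent_half M hij hzsq hz1 hzT hzg
  have hD1 := m.mem_iInf (L := grp M.toNatV {i}) (fun A => by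
    obtain ⟨g, hg, hgA⟩ := exists_lift M.toNatV i A
    refine ⟨g, hg, fun x => ?_⟩
    change g * (pre M.toNatV i).e x * g⁻¹ = (pre M.toNatV i).e (NatPair.ap A x)
    exact ext_fac M.toNatV (grp_conj_fac hg ((pre M.toNatV i).e_mem x)) ((pre M.toNatV i).e_mem _)
      ((hgA _ ((pre M.toNatV i).e_mem x).1).trans (by rw [pre_e, pre_e]))) hzT hzg
  have hD2 := m.symm.mem_iInf (L := cj k (grp M'.toNatV {i'})) (fun A => by
    obtain ⟨g, hg, hgA⟩ := exists_lift M'.toNatV i' A
    refine ⟨k * g * k⁻¹, conj_mem_cj hg, fun x => ?_⟩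
    have h1 : g * (pre M'.toNatV i').e x * g⁻¹ = (pre M'.toNatV i').e (NatPair.ap A x) :=
      ext_fac M'.toNatV (grp_conj_fac hg ((pre M'.toNatV i').e_mem x)) ((pre M'.toNatV i').e_mem _)
        ((hgA _ ((pre M'.toNatV i').e_mem x).1).trans (by rw [pre_e, pre_e]))
    change k * g * k⁻¹ * (k * (pre M'.toNatV i').e x * k⁻¹) * (k * g * k⁻¹)⁻¹ =
      k * (pre M'.toNatV i').e (NatPair.ap A x) * k⁻¹
    rw [← h1]
    group) hzT hzg'
  obtain ⟨p, p', hp, hp', t⟩ := m.two
  refine t.false_of_z hr1' (by rw [hp]; exact mem_R) (by rw [card_fac, hF]; norm_num)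
    (by rw [card_cj, card_fac, hF']; norm_num) hD1 hD2
    ⟨hc1 ((line_le _ _) hr), fun q hq => ?_⟩
  exact (mem_centralizer_iff.1 (hc2 hq) r ((line_le _ _) hr))

end Cfsg.Agent.Omega.IId.NV
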