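import Cfsg.Agent.Mrg.Omega.IId.Cv.Cut
import Cfsg.Agent.Mrg.Omega.IId.Cv.Half
import Cfsg.Agent.Mrg.Omega.BTwo.Conj
import Cfsg.Agent.Mrg.Omega.BTwo.Split

section


/-!
# II.d, `V_P = V × D`, `k = 2`: the Sylow 2-subgroups of `N_G(V₁)` and `N_G(R)` over `T = N_S(V₁)`

* `eq_line` : `line M i` is the only subgroup of order `q` of `fac M i` normalised by `stab M i`;
* `Over M i H T₁ w` : `T₁` is a Sylow 2-subgroup of `G` in `H` over `T`, `|T₁ : T| = 2`, `w ∈ T₁ - T`; `exists_over`;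
* `norm_line` : a 2-group over `T` with `|T' : T| = 2` in `N_G(V₁)` normalises `R`;
* `syl_fac_one` : CASE 1: `T` is a Sylow 2-subgroup of `N_G(V₁)`; `syl_fac_two` : the same in CASE 2a.
-/

set_option autoImplicit false
set_option linter.unusedSectionVars false

namespace Cfsg.Agent.Omega.IId.NV

open Subgroup Pointwise Cfsg Cfsg.Agent.ZN Cfsg.Agent.ZN.ChoiceBase
open Cfsg.Agent.Omega.MinPar Cfsg.Agent.Omega.FFThm
open Cfsg.Agent.Lib.SL2Mat
open Cfsg.Agent.MinSimple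
open Cfsg.Agent.Omega.NatPair (ap ap_mul ap_one ap_inv_ap ap_ap_inv exists_ap ap_add)

universe u

section line

variable {G : Type u} [Group G] {F : Type} [Field F] {S P V : Subgroup G} {k : ℕ} (M : NatV F S P V k)

/-- The line `line M i` is the only subgroup of order `q` of `fac M i` which is normalised by `stab M i`. -/
theorem eq_line [Finite G] [Finite F] (hSP : S ≤ P) {i : Fin k} {X : Subgroup G} (hX : X ≤ fac M i)
    (hc : Nat.card X = Nat.card F) (hn : stab M i ≤ normalizer (X : Set G)) : X = line M i := by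
  by_cases hle : X ≤ line M i
  · exact Subgroup.eq_of_le_of_card_ge hle (by rw [hc, card_line])
  obtain ⟨x, hx, hxl⟩ := Set.not_subset.1 hle
  have hx1 : M.e x i 1 ≠ 0 := fun h0 => hxl ((mem_line M).2 ⟨hX hx, h0⟩)
  refine (Subgroup.eq_of_le_of_card_ge (fun r hr => ?_) (by rw [hc, card_line])).symm
  obtain ⟨u, hu, hug, h1⟩ := exists_root M hSP i (M.e r i 0 / M.e x i 1)
  have h2 : u * x * u⁻¹ ∈ X := (mem_normalizer_iff.1 (hn hu) x).1 hx
  have h3 : r = u * x * u⁻¹ * x⁻¹ := by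
    refine ext_fac M (line_le M i hr) (mul_mem (hX h2) (inv_mem (hX hx))) ?_
    rw [M.mul _ (hX h2).1 _ (inv_mem (hX hx).1), Pi.add_apply, e_inv M (hX hx).1, Pi.neg_apply,
      h1.1 x (hX hx).1 i]
    apply NatPair.ext2
    · rw [Pi.add_apply, NatPair.ap_zero', up_00, up_01, Pi.neg_apply, Function.update_self]
      field_simp
      ring
    · rw [Pi.add_apply, NatPair.ap_one', up_10, up_11, Pi.neg_apply, ((mem_line M).1 hr).2]
      ring
  rw [h3]
  exact mul_mem h2 (inv_mem hx)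

/-- an element which normalises `fac M i` and `stab M i` normalises `line M i` -/
theorem norm_line_of [Finite G] [Finite F] (hSP : S ≤ P) {i : Fin k} {t : G} (h1 : t ∈ normalizer (fac M i : Set G))
    (h2 : t ∈ normalizer (stab M i : Set G)) : t ∈ normalizer (line M i : Set G) := by
  rw [mem_normalizer_iff_cj]
  refine eq_line M hSP ?_ (by rw [card_cj, card_line]) ?_
  · intro x hx
    rw [mem_cj_iff] at hx
    have h3 := (mem_normalizer_iff.1 h1 _).1 (line_le M i hx)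
    have e : t * (t⁻¹ * x * t) * t⁻¹ = x := by group
    rwa [e] at h3
  · have h3 := cj_mono t (stab_normalizes_line M hSP i)
    rw [cj_normalizer, cj_eq_of_mem_normalizer h2] at h3
    exact h3

end line

section ovr

variable {G : Type u} [Group G] [Finite G] {F : Type} [Field F] [Finite F] [CharP F 2] {S : Sylow 2 G}
  {P V D : Subgroup G} (M : NatD F S P V D 2) {i j : Fin 2}

include M in
/-- `|S| = 2 |T|` -/
theorem card_two (i : Fin 2) : Nat.card (S : Subgroup G) = 2 * Nat.card (stab M.toNatV i) :=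
  card_stab M.toNatV (SP M) i

/-- `T₁` is a Sylow 2-subgroup of `G` over `T = stab M i`, `w ∈ T₁ - T`. -/
structure Over (M : NatD F S P V D 2) (i : Fin 2) (T₁ : Sylow 2 G) (w : G) : Prop where
  le : stab M.toNatV i ≤ T₁
  card : Nat.card (T₁ : Subgroup G) = 2 * Nat.card (stab M.toNatV i)
  mem : w ∈ (T₁ : Subgroup G)
  not_mem : w ∉ stab M.toNatV i

namespace Over

variable {M} {T₁ : Sylow 2 G} {w : G} (h : Over M i T₁ w)

include h

theorem conj {t y : G} (ht : t ∈ (T₁ : Subgroup G)) (hy : y ∈ stab M.toNatV i) : t * y * t⁻¹ ∈ stab M.toNatV i :=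
  Two.conj_mem_of_two h.le (Two.two_cosets h.le h.card) ht hy

theorem norm : (T₁ : Subgroup G) ≤ normalizer (stab M.toNatV i : Set G) :=
  Two.le_normalizer_of fun _ ht _ hy => h.conj ht hy

/-- `T₁ = T ∪ w T` -/
theorem cov {t : G} (ht : t ∈ (T₁ : Subgroup G)) : t ∈ stab M.toNatV i ∨ w⁻¹ * t ∈ stab M.toNatV i := by
  by_cases h1 : t ∈ stab M.toNatV i
  · exact Or.inl h1
  · exact Or.inr (Two.two_cosets h.le h.card w h.mem t ht h.not_mem h1)

/-- `T₁ = T ∪ T w` -/
theorem cov' {t : G} (ht : t ∈ (T₁ : Subgroup G)) : t ∈ stab M.toNatV i ∨ t * w ∈ stab M.toNatV i := by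
  by_cases h1 : t ∈ stab M.toNatV i
  · exact Or.inl h1
  · right
    have := Two.two_cosets h.le h.card t⁻¹ (inv_mem ht) w h.mem (fun h => h1 (inv_mem_iff.1 h)) h.not_mem
    rwa [inv_inv] at this

theorem sq : w * w ∈ stab M.toNatV i := (h.cov' h.mem).resolve_left h.not_mem

theorem other : Over M j T₁ w := by
  have e : stab M.toNatV j = stab M.toNatV i := by rw [stab_zero M j, stab_zero M i]
  exact ⟨e ▸ h.le, e ▸ h.card, h.mem, e ▸ h.not_mem⟩

end Over

/-- a 2-subgroup over `T`, not equal to `T`, is a Sylow 2-subgroup of `G` -/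
theorem exists_over_of {T' : Subgroup G} (hT : IsPGroup 2 T') (hle : stab M.toNatV i ≤ T')
    (hne : ¬ T' ≤ stab M.toNatV i) : ∃ (T₁ : Sylow 2 G) (w : G), Over M i T₁ w ∧ (T₁ : Subgroup G) = T' := by
  have hfact : Fact (Nat.Prime 2) := ⟨Nat.prime_two⟩
  obtain ⟨w, hw, hwS⟩ := SetLike.not_le_iff_exists.1 hne
  obtain ⟨Q, hQ⟩ := hT.exists_le_sylow
  have hcQ : Nat.card (Q : Subgroup G) ≤ Nat.card (S : Subgroup G) := Half.card_le_sylow S Q.isPGroup'
  have hrel := Half.card_mul_relIndex hle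
  have hne1 : (stab M.toNatV i).relIndex T' ≠ 1 := fun h => hwS ((relIndex_eq_one.mp h) hw)
  have hne0 : (stab M.toNatV i).relIndex T' ≠ 0 := fun h => by
    rw [h, mul_zero] at hrel
    exact Nat.card_pos.ne hrel
  have hge : 2 * Nat.card (stab M.toNatV i) ≤ Nat.card T' := by
    rw [← hrel, mul_comm]
    exact Nat.mul_le_mul_left _ (by omega)
  have hTQ : T' = (Q : Subgroup G) := by
    refine eq_of_le_of_card_ge hQ (hcQ.trans ?_)
    rw [card_two M i]
    exact hge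
  refine ⟨Q, w, ⟨hTQ ▸ hle, ?_, hTQ ▸ hw, hwS⟩, hTQ.symm⟩
  refine le_antisymm ?_ (hTQ ▸ hge)
  rw [← card_two M i]
  exact hcQ

/-- **CASE 2**: if `T ≤ H` is not a Sylow 2-subgroup of `H`, then `H` contains a Sylow 2-subgroup `T₁ > T` of `G`. -/
theorem exists_over {H : Subgroup G} (hle : stab M.toNatV i ≤ H) (hd : 2 ∣ (stab M.toNatV i).relIndex H) :
    ∃ (T₁ : Sylow 2 G) (w : G), Over M i T₁ w ∧ (T₁ : Subgroup G) ≤ H := by
  have hfact : Fact (Nat.Prime 2) := ⟨Nat.prime_two⟩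
  have hT2 : IsPGroup 2 (stab M.toNatV i) := S.isPGroup'.to_le (stab_le _ _)
  obtain ⟨T', h1, h2, h3, h4⟩ := Half.exists_sylow_le hT2 hle
  obtain ⟨T₁, w, h5, h6⟩ := exists_over_of M h3 h1 (fun h => h4 (by rw [le_antisymm h h1]; exact hd))
  exact ⟨T₁, w, h5, h6 ▸ h2⟩

/-- a Sylow 2-subgroup of `G` over `T` in `N_G(V₁)` normalises `R` -/
theorem over_norm_line {T₁ : Sylow 2 G} {w : G} (h : Over M i T₁ w)
    (hV : (T₁ : Subgroup G) ≤ normalizer (fac M.toNatV i : Set G)) :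
    (T₁ : Subgroup G) ≤ normalizer (line M.toNatV i : Set G) :=
  fun _ ht => norm_line_of M.toNatV (SP M) (hV ht) (h.norm ht)

/-- **CASE 1, CASE 2a**: if no Sylow 2-subgroup of `G` over `T` normalises `V₁` and `R`, then `T` is a Sylow
2-subgroup of `N_G(V₁)`. -/
theorem syl_fac_of (hT : ¬ ∃ T₁ : Sylow 2 G, stab M.toNatV i ≤ T₁ ∧
      (T₁ : Subgroup G) ≤ normalizer (fac M.toNatV i : Set G) ⊓ normalizer (line M.toNatV i : Set G)) :
    ¬ 2 ∣ (stab M.toNatV i).relIndex (normalizer (fac M.toNatV i : Set G)) := by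
  intro hd
  obtain ⟨T₁, w, h, h1⟩ := exists_over M (stab_normalizes M.toNatV i) hd
  exact hT ⟨T₁, h.le, le_inf h1 (over_norm_line M h h1)⟩

/-- `T` is maximal among the 2-subgroups of `N_G(V₁)` -/
theorem max_fac_of (hT : ¬ ∃ T₁ : Sylow 2 G, stab M.toNatV i ≤ T₁ ∧
      (T₁ : Subgroup G) ≤ normalizer (fac M.toNatV i : Set G) ⊓ normalizer (line M.toNatV i : Set G))
    {T' : Subgroup G} (h2 : IsPGroup 2 T') (hle : stab M.toNatV i ≤ T')
    (hV : T' ≤ normalizer (fac M.toNatV i : Set G)) : T' ≤ stab M.toNatV i := by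
  by_contra hcon
  obtain ⟨T₁, w, h, h1⟩ := exists_over_of M h2 hle hcon
  rw [← h1] at hV
  exact hT ⟨T₁, h.le, le_inf hV (over_norm_line M h hV)⟩

/-- **CASE 1**: no Sylow 2-subgroup of `G` over `T` is in `N_G(R)` -/
theorem no_over_of (hd : ¬ 2 ∣ (stab M.toNatV i).relIndex (normalizer (line M.toNatV i : Set G))) :
    ¬ ∃ T₁ : Sylow 2 G, stab M.toNatV i ≤ T₁ ∧
      (T₁ : Subgroup G) ≤ normalizer (fac M.toNatV i : Set G) ⊓ normalizer (line M.toNatV i : Set G) := by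
  rintro ⟨T₁, h1, h2⟩
  apply hd
  have h3 : (T₁ : Subgroup G) ≤ normalizer (line M.toNatV i : Set G) := h2.trans inf_le_right
  have h4 := Subgroup.relIndex_mul_relIndex _ _ _ h1 h3
  have h5 := Half.card_mul_relIndex h1
  have hc : Nat.card (T₁ : Subgroup G) = 2 * Nat.card (stab M.toNatV i) := by
    rw [← card_two M i, T₁.card_eq_multiplicity, S.card_eq_multiplicity]
  have h6 : (stab M.toNatV i).relIndex (T₁ : Subgroup G) = 2 := by
    rw [hc, mul_comm 2] at h5
    exact Nat.eq_of_mul_eq_mul_left Nat.card_pos h5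
  rw [← h4, h6]
  exact dvd_mul_right _ _

/-- **CASE 1**: `T` is a Sylow 2-subgroup of `N_G(V₁)` -/
theorem syl_fac_one (hd : ¬ 2 ∣ (stab M.toNatV i).relIndex (normalizer (line M.toNatV i : Set G))) :
    ¬ 2 ∣ (stab M.toNatV i).relIndex (normalizer (fac M.toNatV i : Set G)) :=
  syl_fac_of M (no_over_of M hd)

end ovr

end Cfsg.Agent.Omega.IId.NV

end

section


/-!
# WrCv, `k = 2`, `D ≠ 1`: an element of `Ω₁(Z(T₁)) ∩ C(grp M {i})` for a Sylow 2-subgroup `T₁` over `T = stab M i`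

(helper330; any `q`.)
`Ω₁(Z(T)) = C_{V_i}(T) × M₀`, `M₀ = Ω₁(Z(T)) ∩ C(grp M {i})`, `|M₀| ≥ |C_{V_j}(T)| |D| > |C_{V_i}(T)|`, so
`M₀ ∩ M₀^w ≠ 1`.
-/

set_option autoImplicit false
set_option linter.unusedSectionVars false

namespace Cfsg.Agent.Omega.IId.NV

open Subgroup Cfsg Cfsg.Agent.Lib.SL2Mat Cfsg.Agent.MinSimple
open Cfsg.Agent.ZN (o2 zc zl)

universe u

variable {G : Type u} [Group G] [Finite G] {F : Type} [Field F] [Finite F] [CharP F 2]
  {S : Sylow 2 G} {P V D : Subgroup G} (M : NatD F S P V D 2)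

/-- `Ω₁(Z(T)) ∩ C(grp M {i})` -/
def MZ (i : Fin 2) : Subgroup G := zc (stab M.toNatV i) ⊓ centralizer (grp M.toNatV {i} : Set G)

variable {M}

theorem mem_MZ {i : Fin 2} {x : G} : x ∈ MZ M i ↔ x ∈ zc (stab M.toNatV i) ∧ ∀ g ∈ grp M.toNatV {i}, g * x = x * g := by
  rw [MZ, mem_inf, mem_centralizer_iff]
  rfl

theorem conj_zc {T : Subgroup G} {h x : G} (hT : h ∈ normalizer (T : Set G)) (hx : x ∈ zc T) : h * x * h⁻¹ ∈ zc T := by
  obtain ⟨h1, h2, h3⟩ := VModule.mem_zc.1 hx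
  refine VModule.mem_zc.2 ⟨(mem_normalizer_iff.1 hT x).1 h1, fun y hy => ?_, ?_⟩
  · have h4 := (mem_normalizer_iff.1 (inv_mem hT) y).1 hy
    rw [inv_inv] at h4
    have h5 := h2 _ h4
    calc y * (h * x * h⁻¹) = h * (h⁻¹ * y * h * x) * h⁻¹ := by group
      _ = h * (x * (h⁻¹ * y * h)) * h⁻¹ := by rw [h5]
      _ = _ := by group
  · calc (h * x * h⁻¹) ^ 2 = h * x ^ 2 * h⁻¹ := by rw [pow_two, pow_two]; group
      _ = 1 := by rw [h3]; group

variable (M)

theorem card_fix_le {i j : Fin 2} (hij : i ≠ j) :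
    Nat.card (fac M.toNatV i ⊓ zc (stab M.toNatV i) : Subgroup G) ≤
      Nat.card (fac M.toNatV j ⊓ zc (stab M.toNatV i) : Subgroup G) := by
  have hB := blk_two M i
  obtain ⟨s, hs, hs1⟩ := hB.exists_swap
  have ho : Over M i S s := ⟨stab_le _ _, card_two M i, hs, hs1⟩
  have hsn := ho.norm hs
  have h1 := (hB.not_mem hs).1 hs1
  have h2 : ({i} : Set (Fin 2))ᶜ = {j} := by
    ext l
    rw [Set.mem_compl_singleton_iff, Set.mem_singleton_iff]
    constructor
    · intro hl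
      omega
    · rintro rfl
      exact hij.symm
  have h3 := conj_part M.toNatV (SP M hs) {i}
  rw [h1, h2] at h3
  have key : ∀ a ∈ fac M.toNatV i, s * a * s⁻¹ ∈ fac M.toNatV j := by
    intro a ha
    rw [fac, ← h3, NatPair.mem_cj]
    have e : s⁻¹ * (s * a * s⁻¹) * s = a := by group
    rw [e]; exact ha
  refine Nat.card_le_card_of_injective (fun a => (⟨s * (a : G) * s⁻¹, key _ a.2.1, conj_zc hsn a.2.2⟩ :
    (fac M.toNatV j ⊓ zc (stab M.toNatV i) : Subgroup G))) ?_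
  intro a b hab
  have h4 : s * (a : G) * s⁻¹ = s * (b : G) * s⁻¹ := congrArg Subtype.val hab
  exact Subtype.ext (mul_left_cancel (mul_right_cancel h4))

theorem card_lt_MZ (hD : D ≠ ⊥) {i : Fin 2} :
    Nat.card (fac M.toNatV i ⊓ zc (stab M.toNatV i) : Subgroup G) < Nat.card (MZ M i) := by
  obtain ⟨j, hij⟩ : ∃ j : Fin 2, i ≠ j := ⟨i + 1, by omega⟩
  have h1 : 1 < Nat.card D := (Subgroup.one_lt_card_iff_ne_bot _).2 hD
  set A := (fac M.toNatV j ⊓ zc (stab M.toNatV i) : Subgroup G) with hA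
  have h2 : Nat.card (A × D) ≤ Nat.card (MZ M i) := by
    refine Nat.card_le_card_of_injective (fun p => (⟨(p.1 : G) * p.2, mem_MZ.2 ⟨?_, fun g hg => ?_⟩⟩ : MZ M i)) ?_
    · exact mul_mem p.1.2.2 ((mem_DT M (i := i)).1 (D_le_DT M p.2.2)).1
    · have c1 : g * (p.1 : G) = p.1 * g := grp_comm M.toNatV (by simpa using hij) hg p.1.2.1
      have c2 : g * (p.2 : G) = p.2 * g := ((mem_DT M (i := i)).1 (D_le_DT M p.2.2)).2 i g hg
      calc g * ((p.1 : G) * p.2) = g * p.1 * p.2 := by group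
        _ = p.1 * (g * p.2) := by rw [c1]; group
        _ = p.1 * p.2 * g := by rw [c2]; group
    · rintro ⟨⟨p, hp⟩, ⟨q, hq⟩⟩ ⟨⟨p', hp'⟩, ⟨q', hq'⟩⟩ heq
      have h4 : p * q = p' * q' := congrArg Subtype.val heq
      have h5 : p'⁻¹ * p = q' * q⁻¹ := by
        calc p'⁻¹ * p = p'⁻¹ * (p * q) * q⁻¹ := by group
          _ = p'⁻¹ * (p' * q') * q⁻¹ := by rw [h4]
          _ = q' * q⁻¹ := by group
      have h6 : p'⁻¹ * p = 1 := by
        have h8 : p'⁻¹ * p ∈ V := mul_mem (inv_mem (fac_le _ _ hp'.1)) (fac_le _ _ hp.1)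
        have h9 : p'⁻¹ * p ∈ D := by rw [h5]; exact mul_mem hq' (inv_mem hq)
        have h7 : p'⁻¹ * p ∈ V ⊓ D := ⟨h8, h9⟩
        rw [M.inf] at h7
        exact mem_bot.1 h7
      have h7 : p' = p := inv_mul_eq_one.1 h6
      have h8 : q' = q := by
        rw [h6] at h5
        exact (mul_inv_eq_one.1 h5.symm)
      subst h7 h8
      rfl
  rw [Nat.card_prod] at h2
  have h3 := card_fix_le M hij
  rw [← hA] at h3
  have h4 : 0 < Nat.card A := Nat.card_pos
  calc _ ≤ Nat.card A := h3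
    _ < Nat.card A * Nat.card D := by nlinarith
    _ ≤ _ := h2

/-- **Existence of `x`**, `k = 2`, `D ≠ 1`, any `q` -/
theorem exists_x_two (hD : D ≠ ⊥) {i : Fin 2} {T₁ : Sylow 2 G} {w : G} (h : Over M i T₁ w) :
    ∃ x ∈ zc (T₁ : Subgroup G), x ≠ 1 ∧ ∀ g ∈ grp M.toNatV {i}, g * x = x * g := by
  have hwn := h.norm h.mem
  set T := stab M.toNatV i with hT
  set A := (fac M.toNatV i ⊓ zc T : Subgroup G) with hA
  let X : Subgroup G := MZ M i ⊓ BTwo.cj w (MZ M i)
  have hXz : X ≤ zc T := fun y hy => (mem_MZ.1 hy.1).1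
  -- `X ≠ 1`
  have hX1 : X ≠ ⊥ := by
    intro hX
    have hmem : ∀ f ∈ BTwo.cj w (MZ M i), f ∈ zc T := by
      intro f hf
      rw [BTwo.mem_cj] at hf
      have h1 := conj_zc hwn (mem_MZ.1 hf).1
      have e : w * (w⁻¹ * f * w) * w⁻¹ = f := by group
      rwa [e] at h1
    have hdec : ∀ f ∈ BTwo.cj w (MZ M i), ∃ a ∈ A, a⁻¹ * f ∈ MZ M i := by
      intro f hf
      obtain ⟨a, ha, c, hc, haz, hcc, rfl⟩ := XZ.zc_stb' (M := M) (blk_two M i) (hmem f hf)
      refine ⟨a, ⟨ha, haz⟩, ?_⟩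
      rw [inv_mul_cancel_left]
      exact mem_MZ.2 ⟨hc, fun g hg => hcc g (mem_sup_left hg)⟩
    choose! φ hφ1 hφ2 using hdec
    have h1 : Nat.card (BTwo.cj w (MZ M i)) ≤ Nat.card A := by
      refine Nat.card_le_card_of_injective (fun f => (⟨φ f, hφ1 f f.2⟩ : A)) ?_
      intro f f' hff
      have h2 : φ f = φ f' := congrArg Subtype.val hff
      have h3 := mul_mem (inv_mem (hφ2 f f.2)) (hφ2 f' f'.2)
      have e : ((φ f)⁻¹ * (f : G))⁻¹ * ((φ f')⁻¹ * (f' : G)) = (f : G)⁻¹ * f' := by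
        rw [h2]; group
      rw [e] at h3
      have h5 : (f : G)⁻¹ * f' ∈ BTwo.cj w (MZ M i) := mul_mem (inv_mem f.2) f'.2
      have h4 : (f : G)⁻¹ * f' ∈ X := ⟨h3, h5⟩
      rw [hX, mem_bot] at h4
      exact Subtype.ext (inv_mul_eq_one.1 h4)
    rw [BTwo.card_cj] at h1
    exact absurd h1 (not_le.2 (card_lt_MZ M hD))
  have hX2 : IsPGroup 2 X := (S.isPGroup'.to_le (stab_le _ _)).to_le (hXz.trans (VModule.zc_le _))
  have hXT : ∀ t ∈ T, ∀ y ∈ X, t * y = y * t := fun t ht y hy => (VModule.mem_zc.1 (hXz hy)).2.1 t ht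
  have hwX : w ∈ normalizer (X : Set G) := by
    refine BTwo.mem_normalizer_of_conj fun y hy => ⟨?_, BTwo.conj_mem_cj hy.1⟩
    -- `w y w⁻¹ = w² (w⁻¹ y w) w⁻²`
    have h1 := BTwo.mem_cj.1 hy.2
    have h2 := (VModule.mem_zc.1 (mem_MZ.1 h1).1).2.1 _ h.sq
    have e : w * y * w⁻¹ = w⁻¹ * y * w := by
      calc w * y * w⁻¹ = w * w * (w⁻¹ * y * w) * w⁻¹ * w⁻¹ := by group
        _ = w⁻¹ * y * w * (w * w) * w⁻¹ * w⁻¹ := by rw [h2]
        _ = _ := by group
    rw [e]; exact h1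
  have hT₁X : (T₁ : Subgroup G) ≤ normalizer (X : Set G) := by
    have hTX : T ≤ normalizer (X : Set G) := fun t ht => by
      apply centralizer_le_normalizer
      exact mem_centralizer_iff.2 fun y hy => (hXT t ht y hy).symm
    intro t ht
    rcases h.cov ht with h1 | h1
    · exact hTX h1
    · have h2 := mul_mem hwX (hTX h1)
      rwa [mul_inv_cancel_left] at h2
  obtain ⟨x, hx, hx1, hxc⟩ := Half.exists_fixed hX2 hX1 T₁.isPGroup' hT₁X
  refine ⟨x, VModule.mem_zc.2 ⟨h.le (VModule.zc_le _ (hXz hx)), fun t ht => mul_inv_eq_iff_eq_mul.1 (hxc t ht), ?_⟩,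
    hx1, (mem_MZ.1 hx.1).2⟩
  exact (VModule.mem_zc.1 (hXz hx)).2.2

end Cfsg.Agent.Omega.IId.NV

end

section


/-!
# WrCv, CASE 1, `q = 2`: LEMMA E over `T = stab M i` (#17094 (C), #17600 (F3))

`M : NatD F S P V D 2`, `R` the points of `fac M i` (`R o = line M i`, `R k` a `grp M {i}`-conjugate of `R o`).

* `mem_CenX` : `fac M j`, `DT M ≤ C_X`;
* `syl_other` : CASE 1 for `i` implies CASE 1 for `j`;
* `lemE` : `LE (fac M i) R l` for all `l`, if `fac M i` is unmixed and `stab M i` is Sylow in `N_G(line M i)`.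
-/

set_option autoImplicit false
set_option linter.unusedSectionVars false

namespace Cfsg.Agent.Omega.IId.NV

open Subgroup Cfsg Cfsg.Agent.ZN Cfsg.Agent.ZN.ChoiceBase
open Cfsg.Agent.Omega.MinPar Cfsg.Agent.Omega.FFThm
open Cfsg.Agent.MinSimple
open Cfsg.Agent.Omega.BTwo (BT BTS QQ WW XX CenX O2)
open Cfsg.Agent.Omega.HTwo.ThmA (LE)
open Cfsg.Agent.Omega.HT.LemE (Good le_T)
open Cfsg.Agent.Omega.IId.Cv (UnM)

universe u

variable {G : Type u} [Group G] [Finite G] {F : Type} [Field F] [Finite F] [CharP F 2] {S : Sylow 2 G}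
  {P V D : Subgroup G} (M : NatD F S P V D 2) {i j : Fin 2} (hij : i ≠ j) {ι : Type*}
  {R : ι → Subgroup G} {o : ι}

include hij in
/-- `fac M j`, `DT M ≤ C_X` -/
theorem mem_CenX (b : BT (fac M.toNatV i) R) (hRo : R o = line M.toNatV i)
    (hRg : ∀ k, ∃ g ∈ grp M.toNatV {i}, BTwo.cj g (R o) = R k) {z : G} (hz : z ∈ fac M.toNatV j ∨ z ∈ DT M) :
    z ∈ CenX (fac M.toNatV i) R := by
  have h1 : XX (fac M.toNatV i) R ≤ centralizer ({z} : Set G) := by
    refine iSup_le fun k => ?_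
    obtain ⟨g, hg, e⟩ := hRg k
    intro y hy
    have h2 : y ∈ QQ (R k) := b.W_le_Q k hy
    rw [← b.cj_QQ e, BTwo.mem_cj, hRo] at h2
    have h3 := o2_comm M hij hg h2 hz
    rw [mem_centralizer_singleton_iff]
    have e1 : g * (g⁻¹ * y * g) * g⁻¹ = y := by group
    rwa [e1] at h3
  rw [mem_centralizer_iff]
  intro x hx
  exact mem_centralizer_singleton_iff.1 (h1 hx)

include hij in
/-- CASE 1 for `i` implies CASE 1 for `j` -/
theorem syl_other (hd : ¬ 2 ∣ (stab M.toNatV i).relIndex (normalizer (line M.toNatV i : Set G))) :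
    ¬ 2 ∣ (stab M.toNatV i).relIndex (normalizer (line M.toNatV j : Set G)) := by
  have hSP := SP M
  obtain ⟨s, hs, hn⟩ : ∃ s ∈ (S : Subgroup G), s ∉ stab M.toNatV i := (blk_two M i).exists_swap
  have h0 := swap_fac M.toNatV hSP hij hs hn
  have hsg : sg M.toNatV (hSP hs) i = j := (sg_eq_iff M.toNatV (hSP hs)).2 h0
  have h1 : cj s (line M.toNatV i) = line M.toNatV j := by
    rw [conj_line M.toNatV hSP hs, hsg]
  have h2 : cj s (stab M.toNatV i) = stab M.toNatV j := by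
    rw [conj_stab M.toNatV hSP hs, hsg]
  rw [← h1]
  have h2' : stab M.toNatV i = cj s (stab M.toNatV i) := by
    rw [h2, stab_eq M.toNatV hSP hij]
  rw [h2', ← cj_normalizer]
  intro h
  apply hd
  have e : (cj s (stab M.toNatV i)).relIndex (cj s (normalizer (line M.toNatV i : Set G))) =
      (stab M.toNatV i).relIndex (normalizer (line M.toNatV i : Set G)) := by
    have h3 : stab M.toNatV i ≤ normalizer (line M.toNatV i : Set G) := stab_normalizes_line M.toNatV hSP i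
    have h4 := Half.card_mul_relIndex h3
    have h5 := Half.card_mul_relIndex (cj_mono s h3)
    rw [card_cj, card_cj, ← h4] at h5
    exact Nat.eq_of_mul_eq_mul_left Nat.card_pos h5
  rwa [e] at h

include hij in
/-- `r ∈ Z(O₂(C(e)))` for `r ∈ fac M i`, `e ∈ (fac M j)(DT M)`, `e ≠ 1` -/
theorem good_of {r w m : G} (hr : r ∈ fac M.toNatV i) (hw : w ∈ fac M.toNatV j) (hm : m ∈ DT M)
    (h1 : w * m ≠ 1) : Good r (w * m) := by
  obtain ⟨h2, h3⟩ := cent_half_all M hij hw hm h1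
  refine ⟨h2 hr, mem_centralizer_iff.2 fun y hy => ?_⟩
  exact (mem_centralizer_iff.1 (h3 hy) r hr).symm

/-- **LEMMA E over `T`** -/
theorem lemE (hF : Nat.card F = 2) (b : BTS (fac M.toNatV i) R) (hRo : R o = line M.toNatV i)
    (hRg : ∀ k, ∃ g ∈ grp M.toNatV {i}, BTwo.cj g (R o) = R k) (hu : UnM M i)
    (hd : ¬ 2 ∣ (stab M.toNatV i).relIndex (normalizer (line M.toNatV i : Set G))) (l : ι) :
    LE (fac M.toNatV i) R l := by
  obtain ⟨j, hji⟩ := exists_ne i
  have hij : i ≠ j := hji.symm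
  obtain ⟨x, a, b', c, hx⟩ := exists_abc M hF i
  obtain ⟨y, a₂, b₂, c₂, hy⟩ := exists_abc M hF j
  have hr : ∀ x ∈ R o, x = 1 ∨ x = a := by
    have hc : Nat.card (line M.toNatV i) = 2 := by rw [card_line, hF]
    intro x hx'
    rw [hRo] at hx'
    exact Two.eq_or_eq_of_card_two hc hx.a_mem hx.a1 hx'
  have hri : a ∈ R o := by rw [hRo]; exact hx.a_mem
  have hTo : stab M.toNatV i ≤ normalizer (R o : Set G) := by
    rw [hRo]; exact stab_normalizes_line M.toNatV (SP M) i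
  have hCX : ∀ {z : G}, z ∈ fac M.toNatV j ∨ z ∈ DT M → z ∈ CenX (fac M.toNatV i) R := fun {z} hz =>
    mem_CenX M hij b.toBT hRo hRg hz
  have hgN : grp M.toNatV {j} ≤ normalizer (R o : Set G) := by
    rw [hRo]; exact grp_le_line M hij
  refine le_T (i := o) b hr hri (T := stab M.toNatV i) (A := fac M.toNatV j)
    (S.isPGroup'.to_le (stab_le _ _)) (stab_normalizes M.toNatV i) hTo (by rw [hRo]; exact hd) ?_ ?_ ?_ ?_ ?_ l
  · obtain ⟨g, hg, v, hv, w, hw, hne⟩ := hu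
    exact ⟨g, by rw [hRo]; exact hg, v, hv, g * w * g⁻¹, BTwo.conj_mem_cj hw, hne⟩
  · refine ⟨a₂, hy.a_fac, b₂, hy.b_mem, hy.a1, hy.b1, ?_⟩
    rw [hy.mul]
    exact hy.c1 
  · exact fun z hz => hCX (Or.inl hz)
  · intro z hz hz1
    have h1 := good_of M hij hx.a_fac hz (one_mem (DT M)) (by rwa [mul_one])
    rwa [mul_one] at h1
  · intro e he he1 hee heT heX
    have hez : e ∈ zc (stab M.toNatV i) :=
      MinSimple.VModule.mem_zc.2 ⟨he, fun t ht => (heT t ht).symm, by rw [pow_two]; exact hee⟩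
    obtain ⟨u, hu', w, hw, m, hm, huz, hwz, rfl⟩ := zc_stab_eq hF hij hez
    have h1 : w * m ∈ CenX (fac M.toNatV i) R := mul_mem (hCX (Or.inl hw)) (hCX (Or.inr hm))
    have hu1 : u = 1 := by
      refine b.cen_VX hu' ?_
      have h2 : u = u * w * m * (w * m)⁻¹ := by group
      rw [h2]
      exact mul_mem heX (inv_mem h1)
    subst hu1
    rw [one_mul] at he1 ⊢
    by_cases hw1 : w = 1
    · left
      subst hw1
      refine ⟨good_of M hij hx.a_fac (one_mem _) hm he1, ?_⟩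
      rw [one_mul] at he1 ⊢
      have haf : a ∈ fac M.toNatV i := hx.a_fac
      have haz : a ∈ zc (stab M.toNatV i) :=
        MinSimple.VModule.mem_zc.2 ⟨part_le_stb (blk_two M i) haf.1,
          fun t ht => mul_inv_eq_iff_eq_mul.1 (hx.stab_a ht),
          (MinSimple.VModule.mem_zc.1 (V_le_zz M haf.1)).2.2⟩
      have hne : a * m ≠ 1 := by
        intro h
        have h2 : a ∈ CenX (fac M.toNatV i) R := by
          rw [mul_eq_one_iff_eq_inv] at h
          rw [h]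
          exact inv_mem (hCX (Or.inr hm))
        exact hx.a1 (b.cen_VX hx.a_fac h2)
      obtain ⟨-, h3⟩ := case1_F2 M hij (syl_other M hij hd) hx.a_fac haz hm hne
      obtain ⟨h4, h5, -⟩ := MinSimple.VModule.mem_zc.1 (h3 haz)
      exact ⟨h4, mem_centralizer_iff.2 fun t ht => h5 t ht⟩
    · right
      intro Λ hN hmem
      have key : ∀ g ∈ grp M.toNatV {j}, g * w * g⁻¹ * w⁻¹ ∈ Λ := by
        intro g hg
        have h2 := BTwo.conj_mem_of_normalizer (hN (hgN hg)) hmem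
        have h3 : g * m = m * g := DT_comm_grp M hij.symm hm hg
        have h4 : g * (w * m) * g⁻¹ * (w * m)⁻¹ = g * w * g⁻¹ * w⁻¹ := by
          calc g * (w * m) * g⁻¹ * (w * m)⁻¹ = g * w * (m * g⁻¹) * m⁻¹ * w⁻¹ := by group
            _ = g * w * (g⁻¹ * (g * m) * g⁻¹) * m⁻¹ * w⁻¹ := by group
            _ = g * w * (g⁻¹ * (m * g) * g⁻¹) * m⁻¹ * w⁻¹ := by rw [h3]
            _ = g * w * g⁻¹ * w⁻¹ := by group
        rw [← h4]
        exact mul_mem h2 (inv_mem hmem)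
      have hX : Λ ⊓ fac M.toNatV j = ⊥ ∨ Λ ⊓ fac M.toNatV j = fac M.toNatV j := by
        refine fac_irreducible M.toNatV inf_le_right fun g hg => ?_
        refine BTwo.mem_normalizer_of_conj fun z hz => ?_
        exact ⟨BTwo.conj_mem_of_normalizer (hN (hgN hg)) hz.1,
          BTwo.conj_mem_of_normalizer (grp_normalizes M.toNatV {j} {j} hg) hz.2⟩
      rcases hX with h0 | h0
      · exfalso
        -- `w` is moved by `grp M {j}`
        have h5 : w ∈ fac M.toNatV j ⊓ centralizer (grp M.toNatV {j} : Set G) := by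
          refine ⟨hw, mem_centralizer_iff.2 fun g hg => ?_⟩
          have h6 : g * w * g⁻¹ * w⁻¹ ∈ Λ ⊓ fac M.toNatV j := by
            have h7 : g * w * g⁻¹ ∈ fac M.toNatV j :=
              BTwo.conj_mem_of_normalizer (grp_normalizes M.toNatV {j} {j} hg) hw
            exact mem_inf.2 ⟨key g hg, mul_mem h7 (inv_mem hw)⟩
          rw [h0, mem_bot, mul_inv_eq_one, mul_inv_eq_iff_eq_mul] at h6
          exact h6
        rw [fac_inf_centralizer, mem_bot] at h5
        exact hw1 h5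
      · rw [← h0]
        exact inf_le_left

end Cfsg.Agent.Omega.IId.NV

end
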