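import Cfsg.Agent.Mrg.Omega.IId.Cv.Cut
import Cfsg.Agent.Mrg.Omega.IId.Cv.MixedOne
import Cfsg.Agent.Mrg.Omega.IId.Cv.TwoAEnd
import Cfsg.Agent.Mrg.Omega.IId.M4.Entry
import Cfsg.Agent.Mrg.Omega.IId.Cv.Syl
import Cfsg.Agent.Mrg.Omega.MixOne.OfSplit


/-!
# II.d: `CvMix K` (mixed pairs, helper994 #17943; typed by helper468)

* `four_le_zc`, `D_ne_bot` : for `|F| = 2`: `D ≠ 1` iff `4 ≤ |Ω₁(Z(S))|`;
* `two_dvd_iff` : CASE 2 (`stab M i` is not Sylow in `N_G(R)`) iff `N_G(R)` contains a Sylow 2-subgroup of `G`;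
* `LineD.mx` : CASE 1 is `Mx`;
* `exists_norm` : `q = 2`, CASE 2: `V_i` and `R` are normalised by a Sylow 2-subgroup of `G` (CASE 2a is `twoA_false_K`);
* `LineD.mixedW` : `MixedW` if `V_i`, `V'_{i'}` and `R` are normalised by Sylow 2-subgroups of `G`;
* `LineD.two_false` : CASE 2 is impossible for `q = 2`;
* `cvMix_of : CvMix4 K → CvMix K`, `CvMix4 K` : CASE 2, `q ≥ 4`.
-/

set_option autoImplicit false
set_option linter.unusedSectionVars false

namespace Cfsg.Agent.Omega.IId.NV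

open Subgroup Cfsg Cfsg.Agent.Lib.SL2Mat Cfsg.Agent.MinSimple
open Cfsg.Agent.ZN (o2 zc zl)
open Cfsg.Agent.Omega.MinPar Cfsg.Agent.Omega.FFThm

universe u

section side

variable {G : Type u} [Group G] [Finite G] {F : Type} [Field F] [Finite F] [CharP F 2] {S : Sylow 2 G}
  {P V D : Subgroup G} {k : ℕ} (M : NatD F S P V D k)

include M in
theorem D_le_zc : D ≤ zc (S : Subgroup G) := by
  intro d hd
  have h1 := (zl_le_zz M) (M.D_le hd)
  rw [VModule.mem_zc]
  refine ⟨o2_le_S M (VModule.zc_le _ h1), fun s hs => ?_, ?_⟩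
  · exact (mem_centralizer_iff.1 (M.cD (SP M hs)) d hd).symm
  · rw [pow_two]; exact mul_self_zc h1

include M in
/-- `D ≠ 1` implies `4 ≤ |Ω₁(Z(S))|`. -/
theorem four_le_zc (i : Fin k) (hD : D ≠ ⊥) : 4 ≤ Nat.card (zc (S : Subgroup G)) := by
  have hV : V ≠ ⊥ := fun h => line_ne_bot' (M := M.toNatV) i
    (eq_bot_mono ((line_le _ _).trans (fac_le _ _)) h)
  have hV2 : IsPGroup 2 V := S.isPGroup'.to_le (V_le_S M)
  obtain ⟨a, ha, ha1, hac⟩ := Half.exists_fixed hV2 hV S.isPGroup' ((SP M).trans M.nV)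
  have haz : a ∈ V ⊓ zc (S : Subgroup G) := by
    refine ⟨ha, VModule.mem_zc.2 ⟨V_le_S M ha, fun s hs => ?_, ?_⟩⟩
    · exact mul_inv_eq_iff_eq_mul.1 (hac s hs)
    · rw [pow_two]; exact sq M.toNatV ha
  have h1 : 1 < Nat.card (V ⊓ zc (S : Subgroup G) : Subgroup G) :=
    (Subgroup.one_lt_card_iff_ne_bot _).2 fun h => ha1 (by rw [h] at haz; exact mem_bot.1 haz)
  have h2 : 1 < Nat.card D := (Subgroup.one_lt_card_iff_ne_bot _).2 hD
  have h3 : Nat.card ((V ⊓ zc (S : Subgroup G) : Subgroup G) × D) ≤ Nat.card (zc (S : Subgroup G)) := by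
    refine Nat.card_le_card_of_injective (fun p => (⟨(p.1 : G) * p.2, mul_mem p.1.2.2 (D_le_zc M p.2.2)⟩ :
      zc (S : Subgroup G))) ?_
    rintro ⟨⟨p, hp⟩, ⟨q, hq⟩⟩ ⟨⟨p', hp'⟩, ⟨q', hq'⟩⟩ heq
    have h4 : p * q = p' * q' := congrArg Subtype.val heq
    have h5 : p'⁻¹ * p = q' * q⁻¹ := by
      calc p'⁻¹ * p = p'⁻¹ * (p * q) * q⁻¹ := by group
        _ = p'⁻¹ * (p' * q') * q⁻¹ := by rw [h4]
        _ = q' * q⁻¹ := by group
    have h6 : p'⁻¹ * p = 1 := inf_D (M := M) (mul_mem (inv_mem hp'.1) hp.1) (by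
      rw [h5]; exact mul_mem hq' (inv_mem hq))
    have h7 : p' = p := inv_mul_eq_one.1 h6
    have h8 : q' = q := by
      rw [h6] at h5
      exact (mul_inv_eq_one.1 h5.symm)
    subst h7 h8
    rfl
  rw [Nat.card_prod] at h3
  calc 4 = 2 * 2 := rfl
    _ ≤ _ := Nat.mul_le_mul h1 h2
    _ ≤ _ := h3

include M in
/-- `|F| = 2`: `4 ≤ |Ω₁(Z(S))|` implies `D ≠ 1`. -/
theorem D_ne_bot (i : Fin k) (hF : Nat.card F = 2) (h4 : 4 ≤ Nat.card (zc (S : Subgroup G))) : D ≠ ⊥ := by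
  classical
  intro hD
  have hzV : zc (S : Subgroup G) ≤ V := fun z hz => by
    obtain ⟨n, hn, d, hd, rfl⟩ := M.dec z (VModule.zc_le_zl _ _ hz)
    rw [hD, mem_bot] at hd
    subst hd
    rwa [mul_one]
  have hex : ∀ z : zc (S : Subgroup G), M.e z i 1 = 0 := by
    intro z
    obtain ⟨t, ht, -, h2⟩ := exists_root M.toNatV (SP M) i 1
    have h3 := h2.1 z (hzV z.2) i
    have h5 : t * (z : G) * t⁻¹ = z := by
      rw [(VModule.mem_zc.1 z.2).2.1 t (stab_le _ _ ht), mul_inv_cancel_right]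
    rw [h5] at h3
    beta_reduce at h3
    rw [Function.update_self] at h3
    have h6 := congrFun h3 0
    rw [NatPair.ap_zero', up_00, up_01, one_mul, one_mul, left_eq_add] at h6
    exact h6
  have h5 : Nat.card (zc (S : Subgroup G)) ≤ Nat.card F := by
    refine Nat.card_le_card_of_injective (fun z : zc (S : Subgroup G) => M.e z i 0) ?_
    intro z w hzw
    have h2 : M.e ((z : G) * (w : G)⁻¹) i = 0 := by
      apply NatPair.ext2
      · rw [M.mul _ (hzV z.2) _ (inv_mem (hzV w.2)), e_inv M.toNatV (hzV w.2), Pi.add_apply, Pi.add_apply,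
          Pi.neg_apply, Pi.neg_apply]
        have h3 : M.e (z : G) i 0 = M.e (w : G) i 0 := hzw
        rw [h3, add_neg_cancel]
        rfl
      · rw [M.mul _ (hzV z.2) _ (inv_mem (hzV w.2)), e_inv M.toNatV (hzV w.2), Pi.add_apply, Pi.add_apply,
          Pi.neg_apply, Pi.neg_apply, hex z, hex w, neg_zero, add_zero]
        rfl
    have h3 : (z : G) * (w : G)⁻¹ = 1 := by
      refine eq_one_of_cent M.toNatV (mul_mem (hzV z.2) (inv_mem (hzV w.2))) (fun s hs => ?_) h2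
      exact (VModule.mem_zc.1 (mul_mem z.2 (inv_mem w.2))).2.1 s hs
    exact Subtype.ext (mul_inv_eq_one.1 h3)
  omega

end side

section two

variable {G : Type u} [Group G] [Finite G] {F : Type} [Field F] [Finite F] [CharP F 2] {S : Sylow 2 G}
  {P V D : Subgroup G} (M : NatD F S P V D 2)

/-- CASE 2: `stab M i` is not a Sylow 2-subgroup of `N_G(R)` iff `N_G(R)` contains a Sylow 2-subgroup of `G`. -/
theorem two_dvd_iff {i : Fin 2} : 2 ∣ (stab M.toNatV i).relIndex (normalizer (line M.toNatV i : Set G)) ↔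
    ∃ T₁ : Sylow 2 G, (T₁ : Subgroup G) ≤ normalizer (line M.toNatV i : Set G) := by
  have : Fact (Nat.Prime 2) := ⟨Nat.prime_two⟩
  have hle := stab_normalizes_line M.toNatV (SP M) i
  constructor
  · intro hd
    obtain ⟨T₁, w, -, h1⟩ := exists_over M hle hd
    exact ⟨T₁, h1⟩
  · rintro ⟨T₁, h1⟩
    have h2 := Half.card_mul_relIndex hle
    have h3 := Subgroup.card_dvd_of_le h1
    have hc : Nat.card (T₁ : Subgroup G) = 2 * Nat.card (stab M.toNatV i) := by
      rw [← card_two M i, T₁.card_eq_multiplicity, S.card_eq_multiplicity]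
    rw [hc, ← h2, mul_comm 2] at h3
    exact (Nat.mul_dvd_mul_iff_left Nat.card_pos).1 h3

/-- `q = 2`, CASE 2: `V_i` and `R` are normalised by a Sylow 2-subgroup of `G`. -/
theorem exists_norm (hF : Nat.card F = 2) (hD : D ≠ ⊥) {i : Fin 2}
    (hK : ∃ t ∈ KX (line M.toNatV i), ∃ v ∈ fac M.toNatV i, t * v ≠ v * t)
    (hd : 2 ∣ (stab M.toNatV i).relIndex (normalizer (line M.toNatV i : Set G))) :
    ∃ T₁ : Sylow 2 G, (T₁ : Subgroup G) ≤ normalizer (fac M.toNatV i : Set G) ∧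
      (T₁ : Subgroup G) ≤ normalizer (line M.toNatV i : Set G) := by
  by_contra hno
  refine twoA_false_K M hF hD hK hd ?_
  rintro ⟨T₁, -, h⟩
  exact hno ⟨T₁, h.trans inf_le_left, h.trans inf_le_right⟩

end two

section pair

open Cfsg.Agent.Omega.BTwo (cj mem_cj cj_mono cj_eq_self_iff conj_mem_cj QQ card_cj)
open Cfsg.Agent.Omega.Mix (RMod LL LL_conj V_le_LL char2_normalizer pt)
open Cfsg.Agent.Omega.MixOne (MixedW)
open Cfsg.Agent.Omega.IId.M4 (toRMod toRMod_line nmG exists_cj_eq LL_comm mem_nmG)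
open Cfsg.Agent.Omega.IId.FourSide (vec_ne)
open Cfsg.Agent.Omega.IId.Cv (LineD UnM)

variable {G : Type u} [Group G] [Finite G] {F F' : Type} [Field F] [Finite F] [CharP F 2] [Field F'] [Finite F']
  [CharP F' 2] {S S' : Sylow 2 G} {P V D P' V' D' : Subgroup G}

theorem comm_of_not_unM {k : ℕ} {M : NatD F S P V D k} {i : Fin k} (hu : ¬ UnM M i) :
    ∀ g ∈ normalizer (line M.toNatV i : Set G), ∀ v ∈ fac M.toNatV i, ∀ w ∈ fac M.toNatV i,
      v * (g * w * g⁻¹) = g * w * g⁻¹ * v := by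
  intro g hg v hv w hw
  by_contra h
  exact hu ⟨g, hg, v, hv, w, hw, h⟩

/-- **CASE 1.** -/
theorem mx_of {M : NatD F S P V D 2} {M' : NatD F' S' P' V' D' 2} {i i' : Fin 2} (L : LineD M M' i i')
    (hu : ¬ UnM M i) (hu' : ¬ UnM M' i')
    (hd : ¬ 2 ∣ (stab M.toNatV i).relIndex (normalizer (line M.toNatV i : Set G))) : Mx M M' i i' where
  hl := L.eq'
  syl := hd
  syl' := by
    intro h
    apply hd
    rw [two_dvd_iff] at h ⊢
    rwa [L.eq']
  ne := L.ne
  comm := comm_of_not_unM hu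
  comm' := comm_of_not_unM hu'

/-- `MixedW` if `V_i`, `V'_{i'}`, `R` are normalised by Sylow 2-subgroups of `G`. -/
theorem exists_mixedW {k k' : ℕ} {M : NatD F S P V D k} {M' : NatD F' S' P' V' D' k'} {i : Fin k} {i' : Fin k'}
    (L : LineD M M' i i') (hu : ¬ UnM M i) (hu' : ¬ UnM M' i') {T T' : Sylow 2 G}
    (h1 : (T : Subgroup G) ≤ nmG (pre M.toNatV i)) (h2 : (T : Subgroup G) ≤ normalizer (line M.toNatV i : Set G))
    (h1' : (T' : Subgroup G) ≤ nmG (pre M'.toNatV i'))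
    (h2' : (T' : Subgroup G) ≤ normalizer (line M'.toNatV i' : Set G)) :
    ∃ g ∈ normalizer (line M.toNatV i : Set G), (T : Subgroup G) ≤ cj g (nmG (pre M'.toNatV i')) ∧
      MixedW (V₂ := cj g (fac M'.toNatV i')) (N₂ := cj g (nmG (pre M'.toNatV i'))) (toRMod (pre M.toNatV i))
        ((toRMod (pre M'.toNatV i')).conj g) (line M.toNatV i) := by
  have hl := L.eq'
  rw [← hl] at h2'
  obtain ⟨g, hg, hgT⟩ := exists_cj_eq h2 h2' T.isPGroup' T'.isPGroup' (MinSimple.Basic.not_dvd_relIndex T h2)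
    (MinSimple.Basic.not_dvd_relIndex T' h2')
  have hgR : cj g (line M.toNatV i) = line M.toNatV i := cj_eq_self_iff.2 hg
  have h3 : (T : Subgroup G) ≤ cj g (nmG (pre M'.toNatV i')) := by
    rw [← hgT]
    exact cj_mono h1'
  have eLL : LL (cj g (fac M'.toNatV i')) (line M.toNatV i) (line M.toNatV i) =
      LL (fac M'.toNatV i') (line M.toNatV i) (line M.toNatV i) := by
    have e1 := LL_conj g (fac M'.toNatV i') (line M.toNatV i) (line M.toNatV i)
    rwa [hgR] at e1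
  have hline : ∀ w, ((toRMod (pre M'.toNatV i')).conj g).line w = cj g ((toRMod (pre M'.toNatV i')).line w) :=
    fun w => (toRMod (pre M'.toNatV i')).conj_line g w
  refine ⟨g, hg, h3, ⟨![1, 0], vec_ne, ?_⟩, ⟨![1, 0], vec_ne, ?_⟩, ⟨T, h1, h3, h2⟩, ?_,
    LL_comm (comm_of_not_unM hu), ?_, ?_⟩
  · rw [toRMod_line, pre_line]
  · have h5 := hline ![1, 0]
    rw [toRMod_line, pre_line, ← hl, hgR] at h5
    exact h5.symm
  · exact fun K hK hK1 => char2_normalizer M.hG hK hK1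
  · rw [eLL]
    apply LL_comm
    rw [hl]
    exact comm_of_not_unM hu'
  · rw [eLL]
    obtain ⟨v, hv, w, hw, hvw⟩ := L.ne
    exact ⟨v, V_le_LL _ _ hv, w, V_le_LL _ _ hw, hvw⟩

/-- `|F| = 2` : a 2-subgroup in `N_G(V_i)` is in `nmG`. -/
theorem le_nmG_two {k : ℕ} (M : NatD F S P V D k) (i : Fin k) (hF : Nat.card F = 2) :
    normalizer (fac M.toNatV i : Set G) ≤ nmG (pre M.toNatV i) := fun g hg =>
  ⟨hg, nm_two _ hF g hg, nm_two _ hF _ (inv_mem hg)⟩

/-- **CASE 2 is impossible for `q = 2`.** -/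
theorem mix_two_false {k' : ℕ} {M : NatD F S P V D 2} {M' : NatD F' S' P' V' D' k'} (hk : k' = 1 ∨ k' = 2)
    {i : Fin 2} {i' : Fin k'} (L : LineD M M' i i') (hu : ¬ UnM M i) (hu' : ¬ UnM M' i') (hF : Nat.card F = 2)
    (hD : D ≠ ⊥ ∨ D' ≠ ⊥) (hd : 2 ∣ (stab M.toNatV i).relIndex (normalizer (line M.toNatV i : Set G)))
    (h16 : 16 < Nat.card S) : False := by
  have : Fact (Nat.Prime 2) := ⟨Nat.prime_two⟩
  have hF' : Nat.card F' = 2 := by rw [L.card, hF]
  have hcz : ∀ A B : Sylow 2 G, Nat.card (zc (A : Subgroup G)) = Nat.card (zc (B : Subgroup G)) := fun A B =>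
    Half.card_zc_of_card_eq B A.isPGroup' (by rw [A.card_eq_multiplicity, B.card_eq_multiplicity])
  have h4 : ∀ A : Sylow 2 G, 4 ≤ Nat.card (zc (A : Subgroup G)) := by
    intro A
    rcases hD with h | h
    · rw [hcz A S]; exact four_le_zc M i h
    · rw [hcz A S']; exact four_le_zc M' i' h
  obtain ⟨v, hv, w, hw, hvw⟩ := L.ne
  obtain ⟨T, hT1, hT2⟩ := exists_norm M hF (D_ne_bot M i hF (h4 S))
    ⟨w, by rw [L.eq']; exact fac_le_KX' M' hk i' hw, v, hv, fun h => hvw h.symm⟩ hd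
  obtain ⟨T', hT1', hT2'⟩ : ∃ T' : Sylow 2 G, (T' : Subgroup G) ≤ normalizer (fac M'.toNatV i' : Set G) ∧
      (T' : Subgroup G) ≤ normalizer (line M'.toNatV i' : Set G) := by
    rcases hk with rfl | rfl
    · exact ⟨S', (SP M').trans (P_le_fac M' i'), S_le_line M' i'⟩
    · refine exists_norm M' hF' (D_ne_bot M' i' hF' (h4 S'))
        ⟨v, by rw [← L.eq']; exact fac_le_KX' M (Or.inr rfl) i hv, w, hw, hvw⟩ ?_
      rw [two_dvd_iff] at hd ⊢
      rwa [← L.eq']
  obtain ⟨g, hg, hTg, m⟩ := exists_mixedW L hu hu' (hT1.trans (le_nmG_two M i hF)) hT2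
    (hT1'.trans (le_nmG_two M' i' hF')) hT2'
  obtain ⟨z, hz, hzR⟩ : ∃ z ∈ zc (T : Subgroup G), z ∉ line M.toNatV i := by
    by_contra hcon
    push Not at hcon
    have h5 : Nat.card (zc (T : Subgroup G)) ≤ Nat.card (line M.toNatV i) :=
      Subgroup.card_le_of_le hcon
    rw [card_line, hF] at h5
    have := h4 T
    omega
  refine m.two_false hF (hT1.trans (le_nmG_two M i hF)) hTg hT2 hzR (fun s hs => (VModule.mem_zc.1 hz).2.1 s hs) ?_
  rw [T.card_eq_multiplicity, ← S.card_eq_multiplicity]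
  exact h16

end pair

end Cfsg.Agent.Omega.IId.NV

namespace Cfsg.Agent.Omega.IId.Cv

open Subgroup Cfsg Cfsg.Agent.ZN
open Cfsg.Agent.Omega.IId.NV
open Cfsg.Agent.Omega.MinPar Cfsg.Agent.Omega.Frame Cfsg.Agent.Omega.FFThm Cfsg.Agent.Omega.FrameMulti

universe u

/-- Mixed pairs, CASE 2, `q ≥ 4`. (helper330) -/
def CvMix4 (K : Cls.{u}) : Prop :=
  ∀ (G : Type u) [Group G] [Finite G] (S S' : Sylow 2 G), HypN K S → ∀ (P P' : Subgroup G), Pair S S' P P' →
    ∀ (F F' : Type) [Field F] [Finite F] [CharP F 2] [Field F'] [Finite F'] [CharP F' 2]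
      (V V' D D' : Subgroup G) (k' : ℕ) (M : NatD F S P V D 2) (M' : NatD F' S' P' V' D' k'), 1 ≤ k' → k' ≤ 2 →
      D ≠ ⊥ ∨ D' ≠ ⊥ → ∀ i i', LineD M M' i i' → ¬ UnM M i → ¬ UnM M' i' → 4 ≤ Nat.card F →
        2 ∣ (NV.stab M.toNatV i).relIndex (normalizer (NV.line M.toNatV i : Set G)) → False

/-- **`CvMix` from its case `q ≥ 4`, CASE 2.** -/
theorem cvMix_of {K : Cls.{u}} (h : CvMix4 K) : CvMix K := by
  intro G _ _ S S' hH P P' hp F F' _ _ _ _ _ _ V V' D D' k' M M' hk hk' hD i i' L hu hu'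
  exfalso
  by_cases hd : 2 ∣ (NV.stab M.toNatV i).relIndex (normalizer (NV.line M.toNatV i : Set G))
  · rcases FrameFF.two_le_card (F := F) with hq | hq
    · have h16 : 16 < Nat.card S := by
        have hf : Fact (Nat.Prime 2) := ⟨Nat.prime_two⟩
        have e1 : (2 : ℕ) ^ 5 ∣ Nat.card G := Cfsg.Agent.Omega.Exits.dvd_card hH.ctx.rank
        have e2 : (2 : ℕ) ^ 5 ∣ Nat.card S := S.pow_dvd_card_of_pow_dvd_card e1
        have e3 := Nat.le_of_dvd Nat.card_pos e2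
        omega
      exact mix_two_false (by omega) L hu hu' hq hD hd h16
    · exact h G S S' hH P P' hp F F' V V' D D' k' M M' hk hk' hD i i' L hu hu' hq hd
  · rcases (show k' = 1 ∨ k' = 2 by omega) with rfl | rfl
    · exact hd ((two_dvd_iff M).2 ⟨S', by rw [L.eq']; exact S_le_line M' i'⟩)
    · have m := mx_of L hu hu' hd
      rcases FrameFF.two_le_card (F := F) with hq | hq
      · rcases hD with hD | hD
        · exact mixed_false_two m hq hD
        · have hcz : Nat.card (zc (S' : Subgroup G)) = Nat.card (zc (S : Subgroup G)) := by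
            have hf : Fact (Nat.Prime 2) := ⟨Nat.prime_two⟩
            exact Half.card_zc_of_card_eq S S'.isPGroup' (by rw [S.card_eq_multiplicity, S'.card_eq_multiplicity])
          refine mixed_false_two m hq (D_ne_bot M i hq ?_)
          rw [← hcz]
          exact four_le_zc M' i' hD
      · exact mixed_false_four m hq

end Cfsg.Agent.Omega.IId.Cv
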