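import Cfsg.Agent.Mrg.Omega.IId.Cv.MixSym
import Cfsg.Agent.Mrg.Omega.F4Leaf.Pos
import Cfsg.Agent.Mrg.Omega.NSix.TkPair
import Cfsg.Agent.Mrg.Omega.IId.Cv.MixPlug

section


/-!
# II.d, `CvSymNat`: the position (helper592)

`SPos M S' P' m' A ε l i j` : `M : NatD F S P V D k`, `|F| = 2`, `P'` over `S'` of type `S_{2^m'+1}`,
`[V_P, V_{P'}] = line M l = ⟨n⟩`, `n = rr ε i j`; `fac M l` acts on `V_{P'}` as `(i j)`, the other factors and `D`
centralise `V_{P'}`.

* `SPos.of_ind` : from `Ind M V_{P'} {l}`;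
* `exists_spos` : two factors (any `D`).
-/

set_option autoImplicit false
set_option linter.unusedSectionVars false

namespace Cfsg.Agent.Omega.IId.Cv.SymD

open Subgroup Pointwise Cfsg Cfsg.Agent.ZN.ChoiceBase
open Cfsg.Agent.ZN (o2 zc zl)
open Cfsg.Agent.Omega.MinPar Cfsg.Agent.Omega.Frame Cfsg.Agent.Omega.FFThm Cfsg.Agent.Omega.FrameMulti
open Cfsg.Agent.Omega.FrameFF (cv Free)
open Cfsg.Agent.Omega.S5.Def Cfsg.Agent.Lib.SL2Mat
open Cfsg.Agent.Omega.NSix.Base Cfsg.Agent.Omega.NSix.Basic Cfsg.Agent.Omega.NSix.FixApp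
open scoped commutatorElement

universe u

variable {G : Type u} [Group G] [Finite G]

section lab

variable {n : ℕ} {A L : Subgroup G} {ε : (Fin n → ZMod 2) → G}

/-- an element which acts on the even-subset module with commutators in `{1, r}` is a transposition -/
theorem swap_of_line (h : EvenSet n A L ε) (hn : 5 ≤ n) {v r : G} (hvL : v ∈ L)
    (hv : ∀ a ∈ A, ⁅v, a⁆ = 1 ∨ ⁅v, a⁆ = r) (hne : ¬ ∀ a ∈ A, v * a = a * v) :
    ∃ i j, i ≠ j ∧ Acts ε v (Equiv.swap i j) ∧ r = rr ε i j := by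
  obtain ⟨τ, hτ⟩ := h.perm v hvL
  have key : ∀ x, τ x ≠ x → r = rr ε x (τ x) := by
    intro x hx
    have h1 : ⁅v, zz ε x⁆ = rr ε x (τ x) := by
      rw [commutatorElement_def, zz_conj hτ, zz_inv h]
      exact zz_comm h _ _
    rcases hv _ (h.mem _) with h2 | h2
    · exfalso
      have h3 : rr ε x (τ x) = 1 := h1.symm.trans h2
      exact rr_ne_one h (by omega) (Ne.symm hx) h3
    · exact h2.symm.trans h1
  obtain ⟨x, hx⟩ : ∃ x, τ x ≠ x := by
    by_contra hcon
    push Not at hcon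
    have h1 : τ = 1 := Equiv.ext hcon
    subst h1
    exact hne fun a ha => (mem_centralizer_iff.1 (h.acts_one_iff.1 hτ) a ha).symm
  have hmov : ∀ y, τ y ≠ y → y = x ∨ y = τ x := by
    intro y hy
    by_contra hcon
    push Not at hcon
    refine NSix.TkPair.rr_ne h hn (Ne.symm hy) (Ne.symm hcon.1) (Ne.symm hcon.2) ?_
    rw [← key x hx, ← key y hy]
  have h2 : τ (τ x) = x := by
    have h3 : τ (τ x) ≠ τ x := fun e => hx (τ.injective e)
    have h4 : τ (τ (τ x)) ≠ τ (τ x) := fun e => h3 (τ.injective e)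
    rcases hmov _ h4 with h5 | h5
    · exact h5
    · exact absurd h5 h3
  have h3 : τ = Equiv.swap x (τ x) := by
    ext y
    congr 1
    by_cases h4 : y = x
    · subst h4; rw [Equiv.swap_apply_left]
    by_cases h5 : y = τ x
    · subst h5; rw [Equiv.swap_apply_right, h2]
    · rw [Equiv.swap_apply_of_ne_of_ne h4 h5]
      by_contra h6
      rcases hmov y h6 with h7 | h7
      · exact h4 h7
      · exact h5 h7
  exact ⟨x, τ x, Ne.symm hx, h3 ▸ hτ, key x hx⟩

end lab

variable {S S' : Sylow 2 G} {P P' V D : Subgroup G} {F : Type} [Field F] [Finite F] [CharP F 2] {k m' : ℕ}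
  {A : Subgroup G} {ε : (Fin (2 ^ m' + 1) → ZMod 2) → G}

/-- The position of `CvSymNat`. -/
structure SPos (M : NatD F S P V D k) (S' : Sylow 2 G) (P' : Subgroup G) (m' : ℕ) (A : Subgroup G)
    (ε : (Fin (2 ^ m' + 1) → ZMod 2) → G) (l : Fin k) (i j : Fin (2 ^ m' + 1)) : Prop where
  pair : Pair S S' P P'
  two : Nat.card F = 2
  sit : F4Leaf.Pos.Sit S' P' m' A ε
  ne : i ≠ j
  ind : NV.Ind M.toNatV (zl (S' : Subgroup G) P') {l}
  eq : ⁅zl (S : Subgroup G) P, zl (S' : Subgroup G) P'⁆ = NV.line M.toNatV l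
  mem : ∀ x, x ∈ NV.line M.toNatV l ↔ x = 1 ∨ x = rr ε i j
  act : ∀ v ∈ zl (S : Subgroup G) P,
    (∀ a ∈ zl (S' : Subgroup G) P', v * a = a * v) ∨ Acts ε v (Equiv.swap i j)
  fac : ∀ v ∈ NV.fac M.toNatV l, M.e v l 1 ≠ 0 → Acts ε v (Equiv.swap i j)
  other : ∀ v ∈ V, M.e v l 1 = 0 → ∀ a ∈ zl (S' : Subgroup G) P', v * a = a * v
  comm_D : ∀ d ∈ D, ∀ a ∈ zl (S' : Subgroup G) P', d * a = a * d

section pos

variable (hp : Pair S S' P P') (hF : Nat.card F = 2) (hs : F4Leaf.Pos.Sit S' P' m' A ε) (M : NatD F S P V D k)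
include hp

include M in
theorem comm_D_of {d a : G} (hd : d ∈ D) (ha : a ∈ zl (S' : Subgroup G) P') : d * a = a * d :=
  (NV.D_comm M (hp.le.trans hp.star.le ha) hd).symm

/-- the elements of `V` with coordinates `0` in `I` centralise `V_{P'}` -/
theorem comm_of_ind {I : Set (Fin k)} (hI : NV.Ind M.toNatV (zl (S' : Subgroup G) P') I) {v a : G} (hv : v ∈ V)
    (h0 : ∀ l ∈ I, M.e v l 1 = 0) (ha : a ∈ zl (S' : Subgroup G) P') : v * a = a * v := by
  obtain ⟨b, hb, hA⟩ := hI.act a ha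
  have haP : a ∈ P := hp.le.trans hp.star.le ha
  have h1 : ⁅v, a⁆ = 1 := by
    have h2 := fun l => NV.e_comm (M := M.toNatV) hv haP hA l
    have hk : ∀ l : Fin k, M.e ⁅v, a⁆ l = M.e 1 l := by
      intro l
      apply NatPair.ext2
      · rw [(h2 l).2.1, NV.e_one]
        by_cases hl : l ∈ I
        · rw [h0 l hl, mul_zero, neg_zero]; rfl
        · rw [hb l hl, zero_mul, neg_zero]; rfl
      · rw [(h2 l).2.2, NV.e_one]; rfl
    rcases Nat.eq_zero_or_pos k with rfl | hk0
    · have h3 : ⁅v, a⁆ ∈ V := by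
        rw [commutatorElement_def]
        have h4 := NV.cj_mem M.toNatV haP (inv_mem hv)
        have e : v * a * v⁻¹ * a⁻¹ = v * (a * v⁻¹ * a⁻¹) := by group
        rw [e]
        exact mul_mem hv h4
      exact NV.e_inj M.toNatV h3 (one_mem _) (funext fun l => l.elim0)
    · exact NV.e_inj M.toNatV (h2 ⟨0, hk0⟩).1 (one_mem _) (funext hk)
  exact commutatorElement_eq_one_iff_mul_comm.1 h1

/-- an element of `V` with a coordinate `≠ 0` in `I` does not centralise `V_{P'}` -/
theorem ne_of_ind {I : Set (Fin k)} (hI : NV.Ind M.toNatV (zl (S' : Subgroup G) P') I) {v : G} (hv : v ∈ V)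
    {l : Fin k} (hl : l ∈ I) (h0 : M.e v l 1 ≠ 0) : ¬ ∀ a ∈ zl (S' : Subgroup G) P', v * a = a * v := by
  intro hcon
  obtain ⟨a, ha, hA⟩ := hI.ex (Pi.single l 1) fun x hx => by
    rw [Pi.single_eq_of_ne (fun e : x = l => hx (by rw [e]; exact hl))]
  have haP : a ∈ P := hp.le.trans hp.star.le ha
  have h1 := (NV.e_comm (M := M.toNatV) hv haP hA l).2.1
  rw [commutatorElement_eq_one_iff_mul_comm.2 (hcon a ha), NV.e_one, Pi.single_eq_same, one_mul] at h1
  exact h0 (neg_eq_zero.1 h1.symm)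

include hs

/-- elements of `V_P` which centralise `A` centralise `V_{P'}` -/
theorem comm_of_A {v : G} (hv : v ∈ zl (S : Subgroup G) P) (h : ∀ a ∈ A, v * a = a * v) :
    ∀ a ∈ zl (S' : Subgroup G) P', v * a = a * v := by
  intro x hx
  obtain ⟨d, hd, a, ha, rfl⟩ := hs.mul_eq hx
  have h1 := h a ha
  have h2 := hs.V0_comm hd (hp.star'.le (hp.le' hv))
  calc v * (d * a) = (v * d) * a := by group
    _ = d * (v * a) := by rw [h2]; group
    _ = d * a * v := by rw [h1]; group

include hF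

/-- a factor whose elements do not centralise `V_{P'}`: a transposition -/
theorem exists_swap_of_ind {I : Set (Fin k)} (hI : NV.Ind M.toNatV (zl (S' : Subgroup G) P') I) {l : Fin k}
    (hl : l ∈ I) : ∃ i j, i ≠ j ∧ (∀ x, x ∈ NV.line M.toNatV l ↔ x = 1 ∨ x = rr ε i j) ∧
      ∀ v ∈ NV.fac M.toNatV l, M.e v l 1 ≠ 0 → Acts ε v (Equiv.swap i j) := by
  have hn : 5 ≤ 2 ^ m' + 1 := S5.Syl.five_le hs.m2
  -- the generator of the line
  have hR2 : Nat.card (NV.line M.toNatV l) = 2 := by rw [NV.card_line, hF]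
  obtain ⟨⟨r, hr⟩, hr1, hru⟩ := (Nat.card_eq_two_iff' (1 : NV.line M.toNatV l)).1 hR2
  have hr1' : r ≠ 1 := fun h => hr1 (Subtype.ext h)
  have mem_R : ∀ g, g ∈ NV.line M.toNatV l ↔ g = 1 ∨ g = r := by
    intro g
    constructor
    · intro hg
      by_cases h1 : g = 1
      · exact Or.inl h1
      · right
        exact congrArg Subtype.val (hru ⟨g, hg⟩ fun h2 => h1 (congrArg Subtype.val h2))
    · rintro (rfl | rfl)
      · exact one_mem _
      · exact hr
  have hcl : ∀ v ∈ NV.fac M.toNatV l, ∀ a ∈ zl (S' : Subgroup G) P', ⁅v, a⁆ ∈ NV.line M.toNatV l := by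
    intro v hv a ha
    have haP : a ∈ P := hp.le.trans hp.star.le ha
    obtain ⟨b, hb, hA⟩ := hI.act a ha
    have h2 := fun x => NV.e_comm (M := M.toNatV) hv.1 haP hA x
    rw [NV.mem_line, NV.mem_fac]
    refine ⟨⟨(h2 l).1, fun x hx => ?_⟩, (h2 l).2.2⟩
    apply NatPair.ext2
    · rw [(h2 x).2.1, hv.2 x hx]
      simp
    · rw [(h2 x).2.2]; rfl
  have key : ∀ v ∈ NV.fac M.toNatV l, M.e v l 1 ≠ 0 → ∃ i j, i ≠ j ∧ Acts ε v (Equiv.swap i j) ∧ r = rr ε i j := by
    intro v hv hv0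
    have hvz : v ∈ zl (S : Subgroup G) P := M.V_le hv.1
    refine swap_of_line hs.split.even hn (hp.star'.le (hp.le' hvz)) (fun a ha => ?_) fun hcon => ?_
    · exact (mem_R _).1 (hcl v hv a (hs.split.A_le ha))
    · exact ne_of_ind hp M hI hv.1 hl hv0 (comm_of_A hp hs hvz hcon)
  obtain ⟨v₀, hv₀, he₀⟩ := NV.exists_fac M.toNatV l ![0, 1]
  obtain ⟨i, j, hij, -, hrr⟩ := key v₀ hv₀ (by rw [he₀]; exact one_ne_zero)
  refine ⟨i, j, hij, fun x => by rw [mem_R, hrr], fun v hv hv0 => ?_⟩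
  obtain ⟨i', j', hij', hsw, hrr'⟩ := key v hv hv0
  have e : Equiv.swap i' j' = Equiv.swap i j := by
    have h1 : rr ε i' j' = rr ε i j := hrr'.symm.trans hrr
    by_cases h2 : i = i' ∨ j = i'
    · by_cases h3 : i = j' ∨ j = j'
      · rcases h2 with rfl | rfl
        · rcases h3 with h3 | rfl
          · exact absurd h3 hij'
          · rfl
        · rcases h3 with rfl | h3
          · exact Equiv.swap_comm _ _
          · exact absurd h3 hij'
      · push Not at h3
        exfalso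
        rw [rr_symm hs.split.even i' j'] at h1
        exact NSix.TkPair.rr_ne hs.split.even hn hij'.symm h3.1 h3.2 h1
    · push Not at h2
      exact absurd h1 (NSix.TkPair.rr_ne hs.split.even hn hij' h2.1 h2.2)
  rwa [e] at hsw

/-- the position from the offender on `V` -/
theorem SPos.of_ind {l : Fin k} (hI : NV.Ind M.toNatV (zl (S' : Subgroup G) P') {l}) :
    ∃ i j, SPos M S' P' m' A ε l i j := by
  obtain ⟨i, j, hij, hmem, hfac⟩ := exists_swap_of_ind hp hF hs M hI (l := l) rfl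
  have hVP : zl (S' : Subgroup G) P' ≤ P := hp.le.trans hp.star.le
  have hother : ∀ v ∈ V, M.e v l 1 = 0 → ∀ a ∈ zl (S' : Subgroup G) P', v * a = a * v := fun v hv h0 a ha =>
    comm_of_ind hp M hI hv (fun x hx => by rw [show x = l from hx]; exact h0) ha
  refine ⟨i, j, hp, hF, hs, hij, hI, ?_, hmem, ?_, hfac, hother, fun d hd a ha => comm_D_of hp M hd ha⟩
  · rw [NV.commutator_V M hVP]
    exact hI.commutator_eq hVP
  · intro v hv
    obtain ⟨n, hn, d, hd, rfl⟩ := M.dec v hv
    by_cases h0 : M.e n l 1 = 0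
    · left
      intro a ha
      have h1 := hother n hn h0 a ha
      have h2 := comm_D_of hp M hd ha
      rw [mul_assoc, h2, ← mul_assoc, h1, mul_assoc]
    · right
      -- `n = n₁ n₂`, `n₁ ∈ fac l`, `n₂` centralises `V'`
      obtain ⟨n₁, hn₁, he₁⟩ := NV.exists_fac M.toNatV l (M.e n l)
      have h3 := hfac n₁ hn₁ (by rw [he₁]; exact h0)
      have hn2 : n₁⁻¹ * n ∈ V := mul_mem (inv_mem hn₁.1) hn
      have h4 : M.e (n₁⁻¹ * n) l 1 = 0 := by
        rw [M.mul _ (inv_mem hn₁.1) _ hn, NV.e_inv M.toNatV hn₁.1, Pi.add_apply, Pi.add_apply, Pi.neg_apply,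
          Pi.neg_apply]
        have h5 : M.e n₁ l = M.e n l := he₁
        rw [h5, neg_add_cancel]
      have h5 : Acts ε (n₁⁻¹ * n * d) 1 := by
        rw [hs.split.even.acts_one_iff, mem_centralizer_iff]
        intro a ha
        have ha' := hs.split.A_le ha
        have h6 := hother _ hn2 h4 a ha'
        have h7 := comm_D_of hp M hd ha'
        calc a * (n₁⁻¹ * n * d) = (a * (n₁⁻¹ * n)) * d := by group
          _ = n₁⁻¹ * n * (a * d) := by rw [← h6]; group
          _ = n₁⁻¹ * n * d * a := by rw [← h7]; group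
      have h6 := h3.mul h5
      rw [mul_one] at h6
      have e : n₁ * (n₁⁻¹ * n * d) = n * d := by group
      rwa [e] at h6

end pos

/-- **The position, two factors.** -/
theorem exists_spos (hp : Pair S S' P P')
    (hN' : NoOver (zl (S' : Subgroup G) P') P') (hF : Nat.card F = 2) (hs : F4Leaf.Pos.Sit S' P' m' A ε)
    (M : NatD F S P V D 2) : ∃ l i j, SPos M S' P' m' A ε l i j := by
  have hn : 5 ≤ 2 ^ m' + 1 := S5.Syl.five_le hs.m2
  have hVP : zl (S' : Subgroup G) P' ≤ P := hp.le.trans hp.star.le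
  obtain ⟨I, hI⟩ := NV.exists_ind M.toNatV hp.le (NV.off_V M hVP (hp.off M.hG hN'))
  obtain ⟨l, hl⟩ : I.Nonempty := by
    refine NV.lines_ne_bot' (M := M.toNatV) ?_
    rw [← hI.commutator_eq hVP, ← NV.commutator_V M hVP]
    exact hp.ne
  have hIl : I = {l} := by
    by_contra hcon
    obtain ⟨y, hy, hyl⟩ : ∃ y ∈ I, y ≠ l := by
      by_contra h0
      push Not at h0
      apply hcon
      ext x
      exact ⟨fun hx => h0 x hx, fun hx => by rw [show x = l from hx]; exact hl⟩
    obtain ⟨i, j, hij, hm, hf⟩ := exists_swap_of_ind hp hF hs M hI hl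
    obtain ⟨i', j', hij', hm', hf'⟩ := exists_swap_of_ind hp hF hs M hI hy
    obtain ⟨v, hv, he⟩ := NV.exists_fac M.toNatV l ![0, 1]
    obtain ⟨w, hw, he'⟩ := NV.exists_fac M.toNatV y ![0, 1]
    have hsv := hf v hv (by rw [he]; exact one_ne_zero)
    have hsw := hf' w hw (by rw [he']; exact one_ne_zero)
    have hvw : v * w = w * v := by
      have h1 := MinSimple.VModule.zc_comm _ _ (NV.V_le_zz M hv.1) _ (NV.V_le_zz M hw.1)
      exact h1
    rcases NSix.TkPair.disj_of_comm hs.split.even (by omega) hij hij' hsv hsw hvw with h1 | ⟨h1, h2, h3, h4⟩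
    · -- the same duad: the same line
      have h2 := NSix.TkPair.rr_of_swap hs.split.even hij h1
      apply hyl
      refine NV.line_inj (M := M.toNatV) fun x hx => ?_
      rw [hm', ← h2, ← hm] at hx
      exact hx
    · -- `fac y ≤ O₂(C_G(n))`, `n^⊥ ≤ Z(O₂(C_G(n)))`
      have h5 : NV.fac M.toNatV y ≤ o2 (NN ε i j) := by
        have h6 := (NV.fac_le_o2_line M (Ne.symm hyl)).1
        have h7 : normalizer (NV.line M.toNatV l : Set G) = NN ε i j := by
          ext g
          rw [mem_NN']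
          constructor
          · intro hg
            have h8 : g * rr ε i j * g⁻¹ ∈ NV.line M.toNatV l :=
              (mem_normalizer_iff.1 hg _).1 ((hm _).2 (Or.inr rfl))
            rcases (hm _).1 h8 with h9 | h9
            · exfalso
              have h10 : rr ε i j = 1 := by
                have h11 : rr ε i j = g⁻¹ * (g * rr ε i j * g⁻¹) * g := by group
                rw [h11, h9]; group
              exact rr_ne_one hs.split.even (by omega) hij h10
            · exact h9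
          · intro hg
            rw [mem_normalizer_iff]
            intro x
            have hg' : g⁻¹ * rr ε i j * g = rr ε i j := by
              calc g⁻¹ * rr ε i j * g = g⁻¹ * (g * rr ε i j * g⁻¹) * g := by rw [hg]
                _ = rr ε i j := by group
            change x ∈ NV.line M.toNatV l ↔ g * x * g⁻¹ ∈ NV.line M.toNatV l
            rw [hm, hm]
            constructor
            · rintro (rfl | rfl)
              · left; group
              · right; exact hg
            · rintro (h8 | h8)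
              · left
                have h9 : x = g⁻¹ * (g * x * g⁻¹) * g := by group
                rw [h9, h8]; group
              · right
                have h9 : x = g⁻¹ * (g * x * g⁻¹) * g := by group
                rw [h9, h8, hg']
        rwa [h7] at h6
      obtain ⟨q, hq⟩ : ∃ q : Fin (2 ^ m' + 1), q ∉ ({i, j, i', j'} : Finset (Fin (2 ^ m' + 1))) := by
        by_contra hc
        push Not at hc
        have h1 : (Finset.univ : Finset (Fin (2 ^ m' + 1))).card ≤ ({i, j, i', j'} : Finset _).card :=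
          Finset.card_le_card fun x _ => hc x
        have h2 : ({i, j, i', j'} : Finset (Fin (2 ^ m' + 1))).card ≤ 4 := Finset.card_le_four
        rw [Finset.card_univ, Fintype.card_fin] at h1
        omega
      simp only [Finset.mem_insert, Finset.mem_singleton, not_or] at hq
      obtain ⟨q1, q2, q3, q4⟩ := hq
      have h6 : rr ε i' q ∈ Vn ε i j := rr_mem_Vn ⟨h1, h2⟩ ⟨q1, q2⟩
      have h7 := (hs.vn_cen hij h6).2 w (h5 hw)
      have h8 := (S5.Pair.swap_comm_iff hs.split.even (by omega) hij' hsw (Pi.single i' 1 + Pi.single q 1)).1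
        (by rw [← NSix.TkPair.rr_eq hs.split.even]; exact h7.symm)
      rw [Pi.add_apply, Pi.add_apply, Pi.single_eq_same, Pi.single_eq_of_ne (Ne.symm q3), Pi.single_eq_of_ne hij'.symm,
        Pi.single_eq_of_ne (Ne.symm q4), add_zero, add_zero] at h8
      exact one_ne_zero h8
  subst hIl
  obtain ⟨i, j, h⟩ := SPos.of_ind hp hF hs M hI
  exact ⟨l, i, j, h⟩

end Cfsg.Agent.Omega.IId.Cv.SymD

end

section


/-!
# II.d, `CvSymNat K`: the cut for two factors (helper592)

`M : NatD F S P V D 2`, `D ≠ 1`, `P'` of type `S_{2^m'+1}`: `SPos` (`|F| = 2`, `[V_P, V_{P'}] = line M l = ⟨n⟩`):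

* `V_l` unmixed: `unM_known`;
* `V_{P'}` does not commute with all its conjugates under `C_G(n)`: a mutual pair of members of type `S_{2^m'+1}`, one
  factor, not free: `TTPair K` (= `LeafF4`, both members of type `S_{2^m+1}`, without `NoWr`);
* otherwise: `CvSymMix` (helper994, MIX2).

`cvSymNat_of : CvOneA2 K → CvOneA4 K → CvTwoA K → CvTwoB K → TTPair K → CvSymMix → CvSymBig K → CvSymNat K`,
`CvSymBig K` : more than two factors.
-/

set_option autoImplicit false
set_option linter.unusedSectionVars false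

namespace Cfsg.Agent.Omega.IId.Cv

open Subgroup Pointwise Cfsg Cfsg.Agent.ZN.ChoiceBase
open Cfsg.Agent.ZN (o2 zc zl)
open Cfsg.Agent.Omega.MinPar Cfsg.Agent.Omega.Frame Cfsg.Agent.Omega.FFThm Cfsg.Agent.Omega.FrameMulti
open Cfsg.Agent.Omega.FrameFF (cv Free)
open Cfsg.Agent.Omega.FrameLE (AllIn)
open Cfsg.Agent.Omega.S5.Def
open Cfsg.Agent.Omega.NSix.Base Cfsg.Agent.Omega.NSix.Basic
open Cfsg.Agent.Omega.HOne.Main (vx SplitPar)
open scoped commutatorElement

universe u

/-- Two members of type `S_{2^m+1}` with one factor, not free (`LeafF4` without `NoWr`). -/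
def TTPair (K : Cls.{u}) : Prop :=
  ∀ (G : Type u) [Group G] [Finite G], Ctx G → K G → ∀ (S : Sylow 2 G), Full (S : Subgroup G) →
    AllIn (S : Subgroup G) → AllTyped (S : Subgroup G) →
    ∀ (P₁ P₂ : Subgroup G) (x : G), Mutual (S : Subgroup G) P₁ P₂ x →
      ¬ (Free (S : Subgroup G) P₁ ∧ Free (S : Subgroup G) P₂) →
      ∀ m m', 2 ≤ m → 2 ≤ m' → IsSym (S : Subgroup G) P₁ 1 m → IsSym (S : Subgroup G) P₂ 1 m' → IsKnownSimple' G

/-- **Both mixed** (MIX2, #19502 helper994). -/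
def CvSymMix : Prop :=
  ∀ (G : Type u) [Group G] [Finite G] (S S' : Sylow 2 G) (P P' V D : Subgroup G) (F : Type) [Field F] [Finite F]
    [CharP F 2] (M : NatD F S P V D 2) (m' : ℕ) (A : Subgroup G) (ε : (Fin (2 ^ m' + 1) → ZMod 2) → G) (l : Fin 2)
    (i j : Fin (2 ^ m' + 1)), SymD.SPos M S' P' m' A ε l i j → D ≠ ⊥ → ¬ UnM M l →
      (∀ g ∈ NN ε i j, ∀ v ∈ zl (S' : Subgroup G) P', ∀ w ∈ zl (S' : Subgroup G) P',
        v * (g * w * g⁻¹) = g * w * g⁻¹ * v) → False

/-- `CvSymNat`, more than two factors. -/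
def CvSymBig (K : Cls.{u}) : Prop :=
  ∀ (G : Type u) [Group G] [Finite G] (S S' : Sylow 2 G), HypN K S → ∀ (P P' : Subgroup G), Pair S S' P P' →
    ∀ (F : Type) [Field F] [Finite F] [CharP F 2] (k m' : ℕ)
      (_ : NatD F S P (vx (S : Subgroup G) P) (cv (S : Subgroup G) P) k) (A : Subgroup G)
      (ε : (Fin (2 ^ m' + 1) → ZMod 2) → G), 2 < k → Nat.card F = 2 → cv (S : Subgroup G) P ≠ ⊥ →
      F4Leaf.Pos.Sit S' P' m' A ε → cv (S' : Subgroup G) P' ≠ ⊥ → IsKnownSimple' G

section plug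

variable {G : Type u} [Group G] [Finite G] {S S' : Sylow 2 G} {P P' V D : Subgroup G} {F : Type} [Field F]
  [Finite F] [CharP F 2] {k m' : ℕ} {A : Subgroup G} {ε : (Fin (2 ^ m' + 1) → ZMod 2) → G}

/-- `D ≠ 1` implies `D' ≠ 1`. -/
theorem cv_ne_bot_of (M : NatD F S P V D k) (hk : 0 < k) (hD : D ≠ ⊥) (hs : F4Leaf.Pos.Sit S' P' m' A ε) :
    cv (S' : Subgroup G) P' ≠ ⊥ := by
  intro h0
  have h1 := NV.four_le_zc M ⟨0, hk⟩ hD
  have h2 := hs.split.card_zc hs.c2 hs.par (by have := hs.m2; omega)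
  have h3 : Nat.card (zc (S' : Subgroup G)) = Nat.card (zc (S : Subgroup G)) := by
    refine Half.card_zc_of_card_eq S S'.isPGroup' ?_
    rw [S.card_eq_multiplicity, S'.card_eq_multiplicity]
  rw [h0, Subgroup.card_bot] at h2
  omega

/-- `V_{P'}` and a conjugate under `C_G(n)` which do not commute: a mutual pair. -/
theorem mutual_of_NN (hs : F4Leaf.Pos.Sit S' P' m' A ε) {i j : Fin (2 ^ m' + 1)} (hij : i ≠ j) {g : G}
    (hg : g ∈ NN ε i j) {v w : G} (hv : v ∈ zl (S' : Subgroup G) P') (hw : w ∈ zl (S' : Subgroup G) P')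
    (hne : v * (g * w * g⁻¹) ≠ g * w * g⁻¹ * v) : Mutual (S' : Subgroup G) P' P' g := by
  have hle : zl (S' : Subgroup G) P' ≤ o2 (NN ε i j) := hs.V_le hij
  have hQ : o2 (NN ε i j) ≤ P' := hs.o2_le_P hij
  have hz : P' ≤ normalizer (zl (S' : Subgroup G) P' : Set G) := MinSimple.VModule.le_normalizer_zl _ _
  have hgQ : cj g (o2 (NN ε i j)) = o2 (NN ε i j) :=
    cj_eq_of_mem_normalizer (MinSimple.VModule.le_normalizer_o2 _ hg)
  refine ⟨hs.par, hs.par, ?_, ?_, ?_⟩
  · change _ ≤ normalizer ((cj g (zl (S' : Subgroup G) P') : Subgroup G) : Set G)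
    rw [← cj_normalizer]
    refine hle.trans ?_
    rw [← hgQ]
    exact cj_mono g (hQ.trans hz)
  · change cj g (zl (S' : Subgroup G) P') ≤ _
    have := cj_mono g hle
    rw [hgQ] at this
    exact this.trans (hQ.trans hz)
  · intro h0
    rw [commutator_eq_bot_iff_le_centralizer] at h0
    have h1 : g * w * g⁻¹ ∈ cj g (zl (S' : Subgroup G) P') := by
      rw [mem_cj_iff]
      have e : g⁻¹ * (g * w * g⁻¹) * g = w := by group
      rw [e]
      exact hw
    exact hne (mem_centralizer_iff.1 (h0 hv) _ h1).symm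

end plug

/-- **`CvSymNat` from its inputs.** -/
theorem cvSymNat_of {K : Cls.{u}} (h1 : CvOneA2 K) (h2 : CvOneA4 K) (h3 : CvTwoA K) (h4 : CvTwoB K)
    (hTT : TTPair K) (hM : CvSymMix.{u}) (hB : CvSymBig K) : CvSymNat K := by
  intro G _ _ S S' hH P P' hp F _ _ _ k m' M₀ M' hk hm' hD
  have hc := hH.ctx.char2
  obtain ⟨t1, t2⟩ := Sym.typed_of hH.typed hp
  obtain ⟨A, ε, h⟩ := F4Leaf.Split.exists_split hc hp.star' (by omega) M'
  have hF := SymD.card_two hc hp t1.noOver t2.noOver M₀ (by omega) hm' h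
  have M := NatD.ofSplit hc hp.star M₀ (splitPar_two hc S hp.star M₀ (by omega) hF)
  have hs : F4Leaf.Pos.Sit S' P' m' A ε := ⟨hc, hp.star', hm', h⟩
  have hD' := cv_ne_bot_of M (by omega) hD hs
  by_cases hk2 : 2 < k
  · exact hB G S S' hH P P' hp F k m' M A ε hk2 hF hD hs hD'
  obtain rfl : k = 2 := by omega
  obtain ⟨l, i, j, hpos⟩ := SymD.exists_spos hp t2.noOver hF hs M
  by_cases hu : UnM M l
  · exact unM_known h1 h2 h3 h4 hH M l hD hu
  by_cases hw : ∃ g ∈ NN ε i j, ∃ v ∈ zl (S' : Subgroup G) P', ∃ w ∈ zl (S' : Subgroup G) P',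
      v * (g * w * g⁻¹) ≠ g * w * g⁻¹ * v
  · obtain ⟨g, hg, v, hv, w, hw, hne⟩ := hw
    have hmu := mutual_of_NN hs hpos.ne hg hv hw hne
    have hH' := hH.toHyp.conj S'
    exact hTT G hH'.ctx hH'.cls S' hH'.full hH'.allIn hH'.typed P' P' g hmu (fun hf => hD' hf.1) m' m' hm' hm'
      ⟨M'⟩ ⟨M'⟩
  · push Not at hw
    exact (hM G S S' P P' _ _ F M m' A ε l i j hpos hD hu fun g hg v hv w hw' => hw g hg v hv w hw').elim

end Cfsg.Agent.Omega.IId.Cv

end
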