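import Cfsg.Agent.Mrg.Omega.IId.Cv.KillQ
import Cfsg.Agent.Mrg.Omega.IId.Cv.Syl
import Cfsg.Agent.Mrg.Omega.IId.Cv.MixEnd

section


/-!
# WrCv: `CvMix K` (helper330, helper468; helper994 #17943)

* `cvMix4 : CvMix4 K` : mixed pairs, CASE 2, `q ≥ 4`;
* `cvMix : CvMix K`.
-/

set_option autoImplicit false
set_option linter.unusedSectionVars false

namespace Cfsg.Agent.Omega.IId.Cv

open Subgroup Cfsg Cfsg.Agent.ZN Cfsg.Agent.MinSimple
open Cfsg.Agent.Omega.IId.NV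
open Cfsg.Agent.Omega.MinPar Cfsg.Agent.Omega.Frame Cfsg.Agent.Omega.FFThm Cfsg.Agent.Omega.FrameMulti

universe u

theorem cvMix4 (K : Cls.{u}) : CvMix4 K := by
  intro G _ _ S S' hH P P' hp F F' _ _ _ _ _ _ V V' D D' k' M M' hk hk' hD i i' L hu hu' h4 hd
  have hk2 : k' = 1 ∨ k' = 2 := by omega
  have h4' : 4 ≤ Nat.card F' := by rw [L.card]; exact h4
  obtain ⟨T₁, w, ho, hT₁⟩ := exists_over M (NV.stab_normalizes_line M.toNatV (SP M) i) hd
  have m := mixedQ_of (M := M) (M' := M') (Or.inr rfl) hk2 L.eq' L.ne hu hu'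
  have key : ∀ M' : NatD F' S' P' V' D' 2, ∀ i' : Fin 2, NV.line M.toNatV i = NV.line M'.toNatV i' →
      ∃ (T₂ : Sylow 2 G) (w' : G), Over M' i' T₂ w' ∧
        (T₂ : Subgroup G) ≤ normalizer (NV.line M'.toNatV i' : Set G) := by
    intro M' i' hl
    refine exists_over M' (NV.stab_normalizes_line M'.toNatV (SP M') i') ?_
    rw [two_dvd_iff] at hd ⊢
    rwa [← hl]
  obtain ⟨x, hx, hx1, hxg⟩ : ∃ x ∈ zc (T₁ : Subgroup G), x ≠ 1 ∧ ∀ g ∈ NV.grp M.toNatV {i}, g * x = x * g := by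
    rcases hD with hD | hD
    · exact exists_x_two M hD ho
    · rcases hk2 with rfl | rfl
      · obtain ⟨d, hd', hd1⟩ : ∃ d ∈ D', d ≠ 1 := by
          by_contra hcon
          push Not at hcon
          exact hD ((eq_bot_iff_forall D').2 hcon)
        exact exists_transfer (M := M') (M' := M) (Or.inr rfl) L.eq'.symm h4' h4 (T₁ := S') (S_le_line M' i')
          (D_le_zc M' hd') hd1 (fun g hg => (mem_centralizer_iff.1 (M'.cD (NV.grp_le _ _ hg)) d hd').symm) hT₁ ho.le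
      · obtain ⟨T₂, w', ho', hT₂⟩ := key M' i' L.eq'
        obtain ⟨y, hy, hy1, hyg⟩ := exists_x_two M' hD ho'
        exact exists_transfer (M := M') (M' := M) (Or.inr rfl) L.eq'.symm h4' h4 hT₂ hy hy1 hyg hT₁ ho.le
  have n1 := exists_norm4 m h4 ho hT₁ hx hx1 hxg
  refine cvMixEnd K G S S' hH P P' hp F F' V V' D D' k' M M' hk hk' hD i i' L hu hu' h4 n1 ?_
  rcases hk2 with rfl | rfl
  · exact ⟨S', le_inf ((SP M').trans (P_le_fac M' i')) (S_le_line M' i')⟩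
  · obtain ⟨T₂, w', ho', hT₂⟩ := key M' i' L.eq'
    obtain ⟨y, hy, hy1, hyg⟩ := exists_transfer (M := M) (M' := M') (Or.inr rfl) L.eq' h4 h4' hT₁ hx hx1 hxg hT₂ ho'.le
    have m' := m.symm
    rw [L.eq'] at m'
    exact exists_norm4 m' h4' ho' hT₂ hy hy1 hyg

/-- **Mixed pairs.** -/
theorem cvMix (K : Cls.{u}) : CvMix K := cvMix_of (cvMix4 K)

end Cfsg.Agent.Omega.IId.Cv

end

section


/-!
# `k = 2`, `k' = 1`: `D ≠ 1` or `D' ≠ 1` implies `D' ≠ 1`, any `q` (helper958; typed by helper468)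

`T = stab M i`, `R = line M i = line M' i'`: `S'` is a Sylow 2-subgroup of `N_G(R) ≥ T`, so `|C_R(S')| ≤ |C_R(T)|`.
If `D' = 1` then `Ω₁(Z(S')) ≤ C_R(S')`; but `|Ω₁(Z(S))| ≥ |C_R(T)| |D|`.

* `NV.card_zc_ge` : `|C_R(T)| |D| ≤ |Ω₁(Z(S))|`;
* `Cv.dNe_lit` : the literal statement `Cv.DNe`.
-/

set_option autoImplicit false
set_option linter.unusedSectionVars false

namespace Cfsg.Agent.Omega.IId.NV

open Subgroup Cfsg Cfsg.Agent.Lib.SL2Mat Cfsg.Agent.MinSimple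
open Cfsg.Agent.ZN (o2 zc zl)
open Cfsg.Agent.Omega.MinPar Cfsg.Agent.Omega.FFThm
open Cfsg.Agent.Omega.BTwo (cj mem_cj cj_mono cj_eq_self_iff conj_mem_cj card_cj)
open Cfsg.Agent.Omega.IId.M4 (exists_cj_eq)
open Cfsg.Agent.Omega.IId.Cv (LineD)

universe u

/-- `|C_R(T)| |D| ≤ |Ω₁(Z(S))|`, `k = 2`, `T = stab M i`, `R = line M i` -/
theorem card_zc_ge {G : Type u} [Group G] [Finite G] {F : Type} [Field F] [Finite F] [CharP F 2] {S : Sylow 2 G}
    {P V D : Subgroup G} (M : NatD F S P V D 2) (i : Fin 2) :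
    Nat.card (line M.toNatV i ⊓ centralizer (stab M.toNatV i : Set G) : Subgroup G) * Nat.card D ≤
      Nat.card (zc (S : Subgroup G)) := by
  obtain ⟨j, hji⟩ := exists_ne i
  have hij : i ≠ j := hji.symm
  obtain ⟨s, hs, hs1⟩ := (blk_two M i).exists_swap
  have hf : ∀ f ∈ line M.toNatV i ⊓ centralizer (stab M.toNatV i : Set G), f ∈ zc (stb M.toNatV {i}) := by
    rintro f ⟨hf1, hf2⟩
    have h1 : f ∈ V := fac_le _ _ (line_le _ _ hf1)
    rw [VModule.mem_zc]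
    refine ⟨part_le_stb (blk_two M i) h1, fun t ht => mem_centralizer_iff.1 hf2 t ht, ?_⟩
    rw [pow_two]
    exact sq M.toNatV h1
  have hsw : ∀ f ∈ line M.toNatV i, s * f * s⁻¹ ∈ fac M.toNatV j := by
    intro f hf
    have h1 := (blk_two M i).swap hs hs1 (line_le _ _ hf)
    rwa [compl_eq hij] at h1
  rw [← Nat.card_prod]
  refine Nat.card_le_card_of_injective (fun p => (⟨(p.1 : G) * (s * p.1 * s⁻¹) * p.2,
    mul_mem (mul_cj_mem_zc (blk_two M i) hs hs1 (hf _ p.1.2)) (D_le_zc M p.2.2)⟩ : zc (S : Subgroup G))) ?_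
  rintro ⟨⟨p, hp⟩, ⟨q, hq⟩⟩ ⟨⟨p', hp'⟩, ⟨q', hq'⟩⟩ heq
  have h4 : p * (s * p * s⁻¹) * q = p' * (s * p' * s⁻¹) * q' := congrArg Subtype.val heq
  have f1 : ∀ f ∈ line M.toNatV i ⊓ centralizer (stab M.toNatV i : Set G), f * (s * f * s⁻¹) ∈ V := fun f hf =>
    mul_mem (fac_le _ _ (line_le _ _ hf.1)) (fac_le _ _ (hsw f hf.1))
  have h5 : (p' * (s * p' * s⁻¹))⁻¹ * (p * (s * p * s⁻¹)) = q' * q⁻¹ := by
    calc (p' * (s * p' * s⁻¹))⁻¹ * (p * (s * p * s⁻¹)) =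
          (p' * (s * p' * s⁻¹))⁻¹ * (p * (s * p * s⁻¹) * q) * q⁻¹ := by group
      _ = (p' * (s * p' * s⁻¹))⁻¹ * (p' * (s * p' * s⁻¹) * q') * q⁻¹ := by rw [h4]
      _ = q' * q⁻¹ := by group
  have h6 : (p' * (s * p' * s⁻¹))⁻¹ * (p * (s * p * s⁻¹)) = 1 := inf_D (M := M)
    (mul_mem (inv_mem (f1 p' hp')) (f1 p hp)) (by rw [h5]; exact mul_mem hq' (inv_mem hq))
  have h7 : q' = q := by
    rw [h6] at h5
    exact mul_inv_eq_one.1 h5.symm
  have h8 : p' * (s * p' * s⁻¹) = p * (s * p * s⁻¹) := inv_mul_eq_one.1 h6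
  have h9 : p⁻¹ * p' = s * p * s⁻¹ * (s * p' * s⁻¹)⁻¹ := by
    calc p⁻¹ * p' = p⁻¹ * (p' * (s * p' * s⁻¹)) * (s * p' * s⁻¹)⁻¹ := by group
      _ = p⁻¹ * (p * (s * p * s⁻¹)) * (s * p' * s⁻¹)⁻¹ := by rw [h8]
      _ = s * p * s⁻¹ * (s * p' * s⁻¹)⁻¹ := by group
  have h10 : p⁻¹ * p' ∈ fac M.toNatV i ⊓ fac M.toNatV j := by
    refine mem_inf.2 ⟨mul_mem (inv_mem (line_le _ _ hp.1)) (line_le _ _ hp'.1), ?_⟩
    rw [h9]
    exact mul_mem (hsw p hp.1) (inv_mem (hsw p' hp'.1))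
  rw [fac_inf M.toNatV hij, mem_bot, inv_mul_eq_one] at h10
  subst h10 h7
  rfl

/-- **`D' ≠ 1`** for `k = 2`, `k' = 1` -/
theorem D'_ne_bot {G : Type u} [Group G] [Finite G] {F F' : Type} [Field F] [Finite F] [CharP F 2] [Field F']
    [Finite F'] [CharP F' 2] {S S' : Sylow 2 G} {P V D P' V' D' : Subgroup G} (M : NatD F S P V D 2)
    (M' : NatD F' S' P' V' D' 1) {i : Fin 2} {i' : Fin 1} (hl : line M.toNatV i = line M'.toNatV i')
    (hD : D ≠ ⊥ ∨ D' ≠ ⊥) : D' ≠ ⊥ := by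
  have : Fact (Nat.Prime 2) := ⟨Nat.prime_two⟩
  intro hD'
  have hD1 : D ≠ ⊥ := hD.resolve_right fun h => h hD'
  have hS'R : (S' : Subgroup G) ≤ normalizer (line M.toNatV i : Set G) := by
    rw [hl]; exact S_le_line M' i'
  have hT2 : IsPGroup 2 (stab M.toNatV i) := S.isPGroup'.to_le (stab_le _ _)
  obtain ⟨Q, hTQ, hQN⟩ := exists_sylow_over (T₁ := S') hT2 (stab_normalizes_line M.toNatV (SP M) i) hS'R
  obtain ⟨g, hg, hgQ⟩ := exists_cj_eq hS'R hQN S'.isPGroup' Q.isPGroup' (MinSimple.Basic.not_dvd_relIndex S' hS'R)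
    (MinSimple.Basic.not_dvd_relIndex Q hQN)
  have hgR : cj g (line M.toNatV i) = line M.toNatV i := cj_eq_self_iff.2 hg
  -- `Ω₁(Z(S')) ≤ (C_R(T))^g`
  have h1 : zc (S' : Subgroup G) ≤ cj g (line M.toNatV i ⊓ centralizer (stab M.toNatV i : Set G)) := by
    intro z hz
    have hzV : z ∈ V' := by
      obtain ⟨n, hn, d, hd, rfl⟩ := M'.dec z (VModule.zc_le_zl _ _ hz)
      rw [hD', mem_bot] at hd
      subst hd
      rwa [mul_one]
    have hzR : z ∈ line M.toNatV i := by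
      rw [hl]
      refine fix_le_line M'.toNatV (SP M') (by rwa [fac_one M' i']) fun t ht => ?_
      exact (VModule.mem_zc.1 hz).2.1 t (stab_le _ _ ht)
    rw [mem_cj]
    refine mem_inf.2 ⟨?_, mem_centralizer_iff.2 fun t ht => ?_⟩
    · rw [← mem_cj, hgR]; exact hzR
    · have h2 : g * t * g⁻¹ ∈ (S' : Subgroup G) := by
        rw [← hgQ]; exact conj_mem_cj (hTQ ht)
      have h3 := (VModule.mem_zc.1 hz).2.1 _ h2
      calc t * (g⁻¹ * z * g) = g⁻¹ * (g * t * g⁻¹ * z) * g := by group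
        _ = g⁻¹ * (z * (g * t * g⁻¹)) * g := by rw [h3]
        _ = g⁻¹ * z * g * t := by group
  have h2 := Subgroup.card_le_of_le h1
  rw [card_cj] at h2
  have h3 := card_zc_ge M i
  have h4 : Nat.card (zc (S' : Subgroup G)) = Nat.card (zc (S : Subgroup G)) :=
    Half.card_zc_of_card_eq S S'.isPGroup' (by rw [S.card_eq_multiplicity, S'.card_eq_multiplicity])
  have h5 : 1 < Nat.card D := (Subgroup.one_lt_card_iff_ne_bot _).2 hD1
  have h6 : 0 < Nat.card (line M.toNatV i ⊓ centralizer (stab M.toNatV i : Set G) : Subgroup G) := Nat.card_pos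
  nlinarith

end Cfsg.Agent.Omega.IId.NV

namespace Cfsg.Agent.Omega.IId.Cv

open Subgroup Cfsg Cfsg.Agent.Omega.IId.NV

universe u

/-- `DNe`, literally. -/
theorem dNe_lit : ∀ (G : Type u) [Group G] [Finite G] (S S' : Sylow 2 G) (P P' : Subgroup G) (F F' : Type) [Field F]
    [Finite F] [CharP F 2] [Field F'] [Finite F'] [CharP F' 2] (V V' D D' : Subgroup G) (M : NatD F S P V D 2)
    (M' : NatD F' S' P' V' D' 1) (i : Fin 2) (i' : Fin 1), LineD M M' i i' → D ≠ ⊥ ∨ D' ≠ ⊥ → D' ≠ ⊥ := by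
  intro G _ _ S S' P P' F F' _ _ _ _ _ _ V V' D D' M M' i i' L hD
  exact D'_ne_bot M M' L.eq' hD

end Cfsg.Agent.Omega.IId.Cv

end
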