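import Cfsg.Agent.Mrg.Omega.IId.Cv.TwoAEnd
import Cfsg.Agent.Mrg.Omega.IId.M4.Entry
import Cfsg.Agent.Mrg.Omega.HOne.Cut

section


/-!
# WrCv, CASE 2b, `q = 2` : the exit `Pos`

`T = stab M i ≤ T₁ ∈ Syl₂(G)`, `T₁ ≤ N_G(V_i) ∩ N_G(R)`, `V_i` unmixed, `D ≠ 1`, `|F| = 2`:
`Pos T₁ P* V_i (pt N) o a z`, `P* = ⟨T₁, X⟩`.
-/

set_option autoImplicit false
set_option linter.unusedSectionVars false

namespace Cfsg.Agent.Omega.IId.NV

open Subgroup Pointwise Cfsg Cfsg.Agent.ZN Cfsg.Agent.ZN.ChoiceBase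
open Cfsg.Agent.Omega.MinPar Cfsg.Agent.Omega.FFThm
open Cfsg.Agent.Lib.SL2Mat
open Cfsg.Agent.MinSimple
open Cfsg.Agent.Omega.NatPair (NatMod)
open Cfsg.Agent.Omega.HTwo.Entry (Pos)
open Cfsg.Agent.MinSimple.VModule (zc_le zc_comm zc_sq zc_le_zl le_normalizer_o2 o2_isPGroup o2_le
  normalizer_le_normalizer_zc le_normalizer_zl)

universe u

section sup

variable {G : Type*} [Group G]

/-- `A ⊔ B` centralises `z` -/
theorem mem_cen_sup {A B : Subgroup G} {z : G} (hA : ∀ x ∈ A, x * z = z * x) (hB : ∀ x ∈ B, x * z = z * x) :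
    z ∈ centralizer ((A ⊔ B : Subgroup G) : Set G) := by
  have h1 : A ⊔ B ≤ centralizer ({z} : Set G) :=
    sup_le (fun x hx => mem_centralizer_singleton_iff.2 (hA x hx)) fun x hx => mem_centralizer_singleton_iff.2 (hB x hx)
  exact mem_centralizer_iff.2 fun x hx => mem_centralizer_singleton_iff.1 (h1 hx)

end sup

section twoB

variable {G : Type u} [Group G] [Finite G] {F : Type} [Field F] [Finite F] [CharP F 2] {S : Sylow 2 G}
  {P V D : Subgroup G} {k : ℕ} (M : NatD F S P V D k)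

include M in
/-- two different involutions of `Ω₁(Z(S))` -/
theorem exists_two [NeZero k] (hD : D ≠ ⊥) :
    ∃ d ∈ zc (S : Subgroup G), ∃ n ∈ zc (S : Subgroup G), d ≠ 1 ∧ n ≠ 1 ∧ d ≠ n := by
  have hSP := SP M
  obtain ⟨d, hd, hd1⟩ := (Subgroup.bot_or_exists_ne_one D).resolve_left hD
  have hV2 : IsPGroup 2 V := S.isPGroup'.to_le (V_le_S M)
  have hVne : V ≠ ⊥ := by
    intro h0
    apply line_ne_bot' (M := M.toNatV) 0
    rw [eq_bot_iff, ← h0]
    exact (line_le _ _).trans (fac_le _ _)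
  obtain ⟨n, hn, hn1, hnc⟩ := Half.exists_fixed hV2 hVne S.isPGroup' (hSP.trans M.nV)
  refine ⟨d, VModule.mem_zc.2 ⟨?_, fun s hs => ?_, D_sq M hd⟩, n,
    VModule.mem_zc.2 ⟨V_le_S M hn, fun s hs => mul_inv_eq_iff_eq_mul.1 (hnc s hs), ?_⟩, hd1, hn1, ?_⟩
  · exact o2_le_S M (VModule.zc_le _ (zl_le_zz M (M.D_le hd)))
  · exact (mem_centralizer_iff.1 (M.cD (hSP hs)) d hd).symm
  · rw [pow_two]
    exact NV.sq M.toNatV hn
  · rintro rfl
    exact hd1 (inf_D (M := M) hn hd)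

include M in
/-- a third involution of `Ω₁(Z(T₁))` -/
theorem exists_third [NeZero k] (hD : D ≠ ⊥) (T₁ : Sylow 2 G) (a : G) : ∃ z ∈ zc (T₁ : Subgroup G), z ≠ 1 ∧ z ≠ a := by
  have : Fact (Nat.Prime 2) := ⟨Nat.prime_two⟩
  obtain ⟨d, hd, n, hn, hd1, hn1, hdn⟩ := exists_two M hD
  obtain ⟨y, hy⟩ := MulAction.exists_smul_eq G S T₁
  have key : ∀ z ∈ zc (S : Subgroup G), y * z * y⁻¹ ∈ zc (T₁ : Subgroup G) := by
    intro z hz
    have h1 : (T₁ : Subgroup G) = cj y (S : Subgroup G) := by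
      rw [← hy]; rfl
    rw [h1, Cfsg.Agent.Omega.HOne.zc_cj, mem_cj_iff]
    have e : y⁻¹ * (y * z * y⁻¹) * y = z := by group
    rwa [e]
  have key1 : ∀ z : G, z ≠ 1 → y * z * y⁻¹ ≠ 1 := by
    intro z hz h
    apply hz
    calc z = y⁻¹ * (y * z * y⁻¹) * y := by group
      _ = 1 := by rw [h]; group
  by_cases h : y * d * y⁻¹ = a
  · refine ⟨y * n * y⁻¹, key n hn, key1 n hn1, fun h' => hdn ?_⟩
    rw [← h'] at h
    calc d = y⁻¹ * (y * d * y⁻¹) * y := by group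
      _ = n := by rw [h]; group
  · exact ⟨y * d * y⁻¹, key d hd, key1 d hd1, h⟩

end twoB

section main

variable {G : Type u} [Group G] [Finite G] {F : Type} [Field F] [Finite F] [CharP F 2] {S : Sylow 2 G}
  {P V D : Subgroup G} (M : NatD F S P V D 2) (hF : Nat.card F = 2)

include hF in
/-- **CASE 2b, `q = 2` : the position.** -/
theorem pos_twoB (hD : D ≠ ⊥) {i : Fin 2} (hu : UnMx M i) (T₁ : Sylow 2 G) (hT : stab M.toNatV i ≤ T₁)
    (hT₁ : (T₁ : Subgroup G) ≤ normalizer (fac M.toNatV i : Set G) ⊓ normalizer (line M.toNatV i : Set G)) :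
    ∃ (N : NatMod F (fac M.toNatV i)) (P₁ : Subgroup G) (o : BTwo.Pt N) (r z : G),
      Pos T₁ P₁ (fac M.toNatV i) (BTwo.pt N) o r z := by
  obtain ⟨j, hji⟩ := exists_ne i
  have hij : i ≠ j := hji.symm
  obtain ⟨x, a, b, c, h⟩ := exists_abc M hF i
  obtain ⟨N, B⟩ := bts_two M hij hF hu
  have hSP := SP M
  have hN := normalizer_line_eq M hF h.a_mem h.a1
  have hTV : (T₁ : Subgroup G) ≤ normalizer (fac M.toNatV i : Set G) := hT₁.trans inf_le_left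
  have hTR : (T₁ : Subgroup G) ≤ normalizer (line M.toNatV i : Set G) := hT₁.trans inf_le_right
  have haV := h.a_fac
  have haa : a * a = 1 := NV.sq M.toNatV haV.1
  set X := BTwo.XX (fac M.toNatV i) (BTwo.pt N) with hX
  have hXV : X ≤ normalizer (fac M.toNatV i : Set G) := B.bts.toBT.X_le_NV
  set P₁ := (T₁ : Subgroup G) ⊔ X with hP₁
  have hPV : P₁ ≤ normalizer (fac M.toNatV i : Set G) := sup_le hTV hXV
  have haT : a ∈ zc (T₁ : Subgroup G) := by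
    refine VModule.mem_zc.2 ⟨hT (part_le_stb (blk_two M i) haV.1), fun y hy => ?_, by rw [pow_two, haa]⟩
    have h1 := hTR hy
    rw [hN] at h1
    exact mem_centralizer_singleton_iff.1 h1
  -- the decomposition of `Ω₁(Z(T₁))`
  have hdec : ∀ z ∈ zc (T₁ : Subgroup G), ∃ u, (u = 1 ∨ u = a) ∧
      ∃ z' ∈ zc (T₁ : Subgroup G) ⊓ centralizer (P₁ : Set G), z = u * z' := by
    intro z hz
    obtain ⟨hzT, hzc, hz2⟩ := VModule.mem_zc.1 hz
    have hQT := o2_line_le M hij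
    have hzQ : z ∈ o2 (normalizer (line M.toNatV i : Set G)) :=
      char2_line M i (mem_inf.2 ⟨hTR hzT, mem_centralizer_iff.2 fun q hq => hzc q (hT (hQT hq))⟩)
    have hzs : z ∈ zc (stab M.toNatV i) := VModule.mem_zc.2 ⟨hQT hzQ, fun t ht => hzc t (hT ht), hz2⟩
    obtain ⟨u, hu1, w, hw, m, hm, huz, hwz, rfl⟩ := zc_stab_eq hF hij hzs
    have hu2 : u = 1 ∨ u = a := h.fixed M hij hu1 fun t ht => (VModule.mem_zc.1 huz).2.1 t ht
    have hu3 : u ∈ zc (T₁ : Subgroup G) := by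
      rcases hu2 with rfl | rfl
      · exact one_mem _
      · exact haT
    have hwm : w * m ∈ zc (T₁ : Subgroup G) := by
      have := mul_mem (inv_mem hu3) hz
      rwa [mul_assoc u w m, inv_mul_cancel_left] at this
    refine ⟨u, hu2, w * m, mem_inf.2 ⟨hwm, ?_⟩, mul_assoc _ _ _⟩
    refine mem_cen_sup (fun y hy => (VModule.mem_zc.1 hwm).2.1 y hy) fun y hy => ?_
    exact mem_centralizer_iff.1 (mul_mem (B.cen hw) (B.cenDT hm)) y hy
  obtain ⟨z₁, hz₁, hz₁1, hz₁a⟩ := exists_third M hD T₁ a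
  obtain ⟨u, hu', z, hz, rfl⟩ := hdec z₁ hz₁
  let o : BTwo.Pt N := ⟨line M.toNatV i, ![1, 0], FourSide.vec_ne, B.line.symm⟩
  refine ⟨N, P₁, o, a, z, {
    toBT := B.bts.toBT, card_R := ?_, char2 := M.hG, S_V := hTV, S_R := hTR,
    S_P := le_sup_left, P_V := hPV, P_trans := ?_, P_Z := ?_, r_ne := h.a1, r_sq := haa, r_iff := ?_,
    z_mem := hz, z_ne := ?_ }⟩
  · rintro ⟨_, w, hw, rfl⟩
    change Nat.card (N.line w) = 2
    rw [N.card_line hw, hF]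
  · intro k
    obtain ⟨y, hy, e⟩ := B.bts.toBT.trans_X_one o k
    exact ⟨y, (le_sup_right : X ≤ _) hy, e⟩
  · intro y hy w hw
    obtain ⟨u', hu2, w', hw', rfl⟩ := hdec w hw
    have h1 : y * w' = w' * y := mem_centralizer_iff.1 (mem_inf.1 hw').2 y hy
    have h2 : y * (u' * w') * y⁻¹ * (u' * w')⁻¹ = y * u' * y⁻¹ * u'⁻¹ := by
      calc y * (u' * w') * y⁻¹ * (u' * w')⁻¹ = y * u' * (w' * y⁻¹) * w'⁻¹ * u'⁻¹ := by group
        _ = y * u' * (y⁻¹ * (y * w') * y⁻¹) * w'⁻¹ * u'⁻¹ := by group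
        _ = y * u' * (y⁻¹ * (w' * y) * y⁻¹) * w'⁻¹ * u'⁻¹ := by rw [h1]
        _ = y * u' * y⁻¹ * u'⁻¹ := by group
    rw [h2]
    have h3 : u' ∈ fac M.toNatV i := by
      rcases hu2 with rfl | rfl
      · exact one_mem _
      · exact haV
    exact mul_mem ((mem_normalizer_iff.1 (hPV hy) _).1 h3) (inv_mem h3)
  · intro y
    refine ⟨fun hy => line_cases M hF h.a_mem h.a1 hy, ?_⟩
    rintro (rfl | rfl)
    · exact one_mem _
    · exact h.a_mem
  · rintro rfl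
    rw [mul_one] at hz₁1 hz₁a
    rcases hu' with h1 | h1
    · exact hz₁1 h1
    · exact hz₁a h1

end main

end Cfsg.Agent.Omega.IId.NV

namespace Cfsg.Agent.Omega.IId.Cv

open Subgroup Cfsg Cfsg.Agent.ZN
open Cfsg.Agent.Omega.IId.NV
open Cfsg.Agent.Omega.HOne.Cut (TS0 Three0 More0 EndL known_of_pos)

universe u

/-- CASE 2b, `q = 2`. -/
def CvTwoB2 (K : Cfsg.Agent.Omega.Frame.Cls.{u}) : Prop :=
  ∀ (G : Type u) [Group G] [Finite G] (S : Sylow 2 G), HypN K S → ∀ (P : Subgroup G)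
    (F : Type) [Field F] [Finite F] [CharP F 2] (V D : Subgroup G) (M : NatD F S P V D 2) (i : Fin 2),
      D ≠ ⊥ → UnM M i → ∀ T₁ : Sylow 2 G, NV.stab M.toNatV i ≤ T₁ →
        (T₁ : Subgroup G) ≤ normalizer (NV.fac M.toNatV i : Set G) ⊓ normalizer (NV.line M.toNatV i : Set G) →
          Nat.card F = 2 → IsKnownSimple' G

/-- CASE 2b, `q ≥ 4`. -/
def CvTwoB4 (K : Cfsg.Agent.Omega.Frame.Cls.{u}) : Prop :=
  ∀ (G : Type u) [Group G] [Finite G] (S : Sylow 2 G), HypN K S → ∀ (P : Subgroup G)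
    (F : Type) [Field F] [Finite F] [CharP F 2] (V D : Subgroup G) (M : NatD F S P V D 2) (i : Fin 2),
      D ≠ ⊥ → UnM M i → ∀ T₁ : Sylow 2 G, NV.stab M.toNatV i ≤ T₁ →
        (T₁ : Subgroup G) ≤ normalizer (NV.fac M.toNatV i : Set G) ⊓ normalizer (NV.line M.toNatV i : Set G) →
          4 ≤ Nat.card F → IsKnownSimple' G

/-- **CASE 2b, `q = 2`.** -/
theorem cvTwoB2 {K : Cfsg.Agent.Omega.Frame.Cls.{u}} (hT : TS0.{u, u}) (h3 : Three0.{u, u}) (hm : More0.{u, u})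
    (hE : EndL.{u}) : CvTwoB2 K := by
  intro G _ _ S hH P F _ _ _ V D M i hD hu T₁ h1 h2 hF
  obtain ⟨N, P₁, o, r, z, p⟩ := pos_twoB M hF hD hu T₁ h1 h2
  exact known_of_pos hT h3 hm hE (hH.conj T₁).ctx (hH.conj T₁).full (hH.conj T₁).allIn p

/-- **`CvTwoB` from its case `q ≥ 4`.** -/
theorem cvTwoB_of {K : Cfsg.Agent.Omega.Frame.Cls.{u}} (h2 : CvTwoB2 K) (h4 : CvTwoB4 K) : CvTwoB K := by
  intro G _ _ S hH P F _ _ _ V D M i hD hU T₁ h5 h6
  rcases FrameFF.two_le_card (F := F) with hq | hq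
  · exact h2 G S hH P F V D M i hD hU T₁ h5 h6 hq
  · exact h4 G S hH P F V D M i hD hU T₁ h5 h6 hq

end Cfsg.Agent.Omega.IId.Cv

end

section


/-!
# WrCv, `k' = 1`, `V'` unmixed, `q = 2` : the exit `Pos`

* `pos_of` : `Pos T₁ ⟨T₁, X⟩ V (pt N) o r z` from `BT V (pt N)`, `|F| = 2`;
* `D_ne_bot_one` : `D' ≠ 1` (any partner with `D ≠ 1`, `|F'| = 2`);
* `Cv.cvOne2`, `Cv.cvOne_of`.
-/

set_option autoImplicit false
set_option linter.unusedSectionVars false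

namespace Cfsg.Agent.Omega.IId.NV

open Subgroup Pointwise Cfsg Cfsg.Agent.ZN Cfsg.Agent.ZN.ChoiceBase
open Cfsg.Agent.Omega.MinPar Cfsg.Agent.Omega.FFThm
open Cfsg.Agent.Lib.SL2Mat
open Cfsg.Agent.MinSimple
open Cfsg.Agent.Omega.NatPair (NatMod)
open Cfsg.Agent.Omega.HTwo.Entry (Pos)
open Cfsg.Agent.MinSimple.VModule (zc_comm zc_sq zc_le_zl o2_isPGroup
  normalizer_le_normalizer_zc le_normalizer_zl)

universe u

section pos

variable {G : Type u} [Group G] [Finite G] {F : Type} [Field F] [Finite F] [CharP F 2] {T₁ : Sylow 2 G}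
  {V : Subgroup G} (N : NatMod F V)

/-- **The position from `BT`**, `|F| = 2`. -/
theorem pos_of (hF : Nat.card F = 2) (hG : IsCharacteristicTwoType G) (b : BTwo.BT V (BTwo.pt N)) (o : BTwo.Pt N)
    (hTV : (T₁ : Subgroup G) ≤ normalizer (V : Set G)) (hTR : (T₁ : Subgroup G) ≤ normalizer (BTwo.pt N o : Set G))
    (hdec : ∀ z ∈ zc (T₁ : Subgroup G), ∃ u ∈ V, ∃ z' ∈ BTwo.CenX V (BTwo.pt N),
      (∀ t ∈ (T₁ : Subgroup G), t * z' = z' * t) ∧ z = u * z')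
    {z : G} (hz : z ∈ zc (T₁ : Subgroup G)) (hzX : z ∈ BTwo.CenX V (BTwo.pt N)) (hz1 : z ≠ 1) :
    ∃ r, Pos T₁ ((T₁ : Subgroup G) ⊔ BTwo.XX V (BTwo.pt N)) V (BTwo.pt N) o r z := by
  have hXV : BTwo.XX V (BTwo.pt N) ≤ normalizer (V : Set G) := b.X_le_NV
  have hcardR : ∀ i : BTwo.Pt N, Nat.card (BTwo.pt N i) = 2 := by
    rintro ⟨_, w, hw, rfl⟩
    change Nat.card (N.line w) = 2
    rw [N.card_line hw, hF]
  obtain ⟨⟨r, hr⟩, hr1, hu⟩ := (Nat.card_eq_two_iff' (1 : BTwo.pt N o)).1 (hcardR o)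
  have hr1' : r ≠ 1 := fun e => hr1 (Subtype.ext e)
  set P₁ := (T₁ : Subgroup G) ⊔ BTwo.XX V (BTwo.pt N) with hP₁
  have hPV : P₁ ≤ normalizer (V : Set G) := sup_le hTV hXV
  refine ⟨r, {
    toBT := b, card_R := hcardR, char2 := hG, S_V := hTV, S_R := hTR, S_P := le_sup_left, P_V := hPV,
    P_trans := ?_, P_Z := ?_, r_ne := hr1', r_sq := b.V_sq _ (b.R_le o hr), r_iff := ?_, z_mem := ?_, z_ne := hz1 }⟩
  · intro k
    obtain ⟨y, hy, e⟩ := b.trans_X_one o k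
    exact ⟨y, (le_sup_right : BTwo.XX V (BTwo.pt N) ≤ _) hy, e⟩
  · intro y hy w hw
    obtain ⟨u, hu, w', hw', hc, rfl⟩ := hdec w hw
    have h1 : y * w' = w' * y :=
      mem_centralizer_iff.1 (mem_cen_sup hc fun x hx => mem_centralizer_iff.1 hw' x hx) y hy
    have h2 : y * (u * w') * y⁻¹ * (u * w')⁻¹ = y * u * y⁻¹ * u⁻¹ := by
      calc y * (u * w') * y⁻¹ * (u * w')⁻¹ = y * u * (w' * y⁻¹) * w'⁻¹ * u⁻¹ := by group
        _ = y * u * (y⁻¹ * (y * w') * y⁻¹) * w'⁻¹ * u⁻¹ := by group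
        _ = y * u * (y⁻¹ * (w' * y) * y⁻¹) * w'⁻¹ * u⁻¹ := by rw [h1]
        _ = y * u * y⁻¹ * u⁻¹ := by group
    rw [h2]
    exact mul_mem ((mem_normalizer_iff.1 (hPV hy) _).1 hu) (inv_mem hu)
  · intro y
    constructor
    · intro hy
      by_cases h : y = 1
      · exact Or.inl h
      · exact Or.inr (congrArg Subtype.val (hu ⟨y, hy⟩ fun hh => h (congrArg Subtype.val hh)))
    · rintro (rfl | rfl)
      · exact one_mem _
      · exact hr
  · exact mem_inf.2 ⟨hz, mem_cen_sup (fun x hx => (VModule.mem_zc.1 hz).2.1 x hx)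
      fun x hx => mem_centralizer_iff.1 hzX x hx⟩

end pos

section one

variable {G : Type u} [Group G] [Finite G] {F F' : Type} [Field F] [Finite F] [CharP F 2] [Field F'] [Finite F']
  [CharP F' 2] {S S' : Sylow 2 G} {P P' V V' D D' : Subgroup G} {k : ℕ} (M : NatD F S P V D k)
  (M' : NatD F' S' P' V' D' 1) (hF' : Nat.card F' = 2)

include M M' hF' in
/-- `D' ≠ 1` if `D ≠ 1` -/
theorem D_ne_bot_one [NeZero k] (hD : D ≠ ⊥) : D' ≠ ⊥ := by
  rintro rfl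
  have h2 : Nat.card (line M'.toNatV 0) = 2 := by rw [card_line, hF']
  obtain ⟨⟨r, hr⟩, hr1, hu⟩ := (Nat.card_eq_two_iff' (1 : line M'.toNatV 0)).1 h2
  obtain ⟨z, hz, hz1, hzr⟩ := exists_third M hD S' r
  obtain ⟨n, hn, d, hd, rfl⟩ := M'.dec z (zc_le_zl _ _ hz)
  rw [mem_bot] at hd
  subst hd
  rw [mul_one] at hz hz1 hzr
  have h3 : n ∈ fac M'.toNatV 0 := by rwa [fac_one M']
  have h4 : n ∈ line M'.toNatV 0 := fix_le_line M'.toNatV (SP M') h3 fun t ht =>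
    (VModule.mem_zc.1 hz).2.1 t (stab_le _ _ ht)
  exact hzr (congrArg Subtype.val (hu ⟨n, h4⟩ fun hh => hz1 (congrArg Subtype.val hh)))

include hF' in
/-- **the position**, `k = 1`, `q = 2` -/
theorem pos_one {i : Fin 1} (hD : D' ≠ ⊥) (hu : UnMx M' i) :
    ∃ (N : NatMod F' (fac M'.toNatV i)) (P₁ : Subgroup G) (o : BTwo.Pt N) (r z : G),
      Pos S' P₁ (fac M'.toNatV i) (BTwo.pt N) o r z := by
  obtain ⟨N, B⟩ := bts_one_two M' hF' hu
  have hSP := SP M'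
  let o : BTwo.Pt N := ⟨line M'.toNatV i, ![1, 0], FourSide.vec_ne, B.line.symm⟩
  obtain ⟨d, hd, hd1⟩ := (Subgroup.bot_or_exists_ne_one D').resolve_left hD
  have hdc : ∀ e ∈ D', ∀ t ∈ (S' : Subgroup G), t * e = e * t := fun e he t ht =>
    (mem_centralizer_iff.1 (M'.cD (hSP ht)) e he).symm
  have hdS : d ∈ zc (S' : Subgroup G) := VModule.mem_zc.2
    ⟨o2_le_S M' (VModule.zc_le _ (zl_le_zz M' (M'.D_le hd))), hdc d hd, D_sq M' hd⟩
  obtain ⟨r, p⟩ := pos_of N hF' M'.hG B.bts.toBT o (hSP.trans (P_le_fac M' i)) (S_le_line M' i) (fun z hz => by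
    obtain ⟨n, hn, e, he, rfl⟩ := M'.dec z (zc_le_zl _ _ hz)
    exact ⟨n, by rwa [fac_one M'], e, B.cenD he, hdc e he, rfl⟩) hdS (B.cenD hd) hd1
  exact ⟨N, _, o, r, d, p⟩

end one

end Cfsg.Agent.Omega.IId.NV

namespace Cfsg.Agent.Omega.IId.Cv

open Subgroup Cfsg Cfsg.Agent.ZN
open Cfsg.Agent.Omega.IId.NV
open Cfsg.Agent.Omega.MinPar
open Cfsg.Agent.Omega.HOne.Cut (TS0 Three0 More0 EndL known_of_pos)

universe u

section sockets

variable (K : Cfsg.Agent.Omega.Frame.Cls.{u})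

/-- `CvOne`, `q = 2`. -/
def CvOne2 : Prop :=
  ∀ (G : Type u) [Group G] [Finite G] (S S' : Sylow 2 G), HypN K S → ∀ (P P' : Subgroup G), Pair S S' P P' →
    ∀ (F F' : Type) [Field F] [Finite F] [CharP F 2] [Field F'] [Finite F'] [CharP F' 2]
      (V V' D D' : Subgroup G) (M : NatD F S P V D 2) (M' : NatD F' S' P' V' D' 1),
      D ≠ ⊥ ∨ D' ≠ ⊥ → ∀ i i', LineD M M' i i' → UnM M' i' → Nat.card F = 2 → IsKnownSimple' G

/-- `CvOne`, `q ≥ 4`. -/
def CvOne4 : Prop :=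
  ∀ (G : Type u) [Group G] [Finite G] (S S' : Sylow 2 G), HypN K S → ∀ (P P' : Subgroup G), Pair S S' P P' →
    ∀ (F F' : Type) [Field F] [Finite F] [CharP F 2] [Field F'] [Finite F'] [CharP F' 2]
      (V V' D D' : Subgroup G) (M : NatD F S P V D 2) (M' : NatD F' S' P' V' D' 1),
      D ≠ ⊥ ∨ D' ≠ ⊥ → ∀ i i', LineD M M' i i' → UnM M' i' → 4 ≤ Nat.card F → IsKnownSimple' G

end sockets

/-- **`CvOne`, `q = 2`.** -/
theorem cvOne2 {K : Cfsg.Agent.Omega.Frame.Cls.{u}} (hT : TS0.{u, u}) (h3 : Three0.{u, u}) (hm : More0.{u, u})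
    (hE : EndL.{u}) : CvOne2 K := by
  intro G _ _ S S' hH P P' hp F F' _ _ _ _ _ _ V V' D D' M M' hD i i' L hu hF
  have hF' : Nat.card F' = 2 := L.card.trans hF
  have hD' : D' ≠ ⊥ := by
    rcases hD with hD | hD
    · exact D_ne_bot_one M M' hF' hD
    · exact hD
  obtain ⟨N, P₁, o, r, z, p⟩ := pos_one M' hF' hD' hu
  exact known_of_pos hT h3 hm hE (hH.conj S').ctx (hH.conj S').full (hH.conj S').allIn p

/-- **`CvOne` from its case `q ≥ 4`.** -/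
theorem cvOne_of {K : Cfsg.Agent.Omega.Frame.Cls.{u}} (h2 : CvOne2 K) (h4 : CvOne4 K) : CvOne K := by
  intro G _ _ S S' hH P P' hp F F' _ _ _ _ _ _ V V' D D' M M' hD i i' L hu
  rcases FrameFF.two_le_card (F := F) with hq | hq
  · exact h2 G S S' hH P P' hp F F' V V' D D' M M' hD i i' L hu hq
  · exact h4 G S S' hH P P' hp F F' V V' D D' M M' hD i i' L hu hq

end Cfsg.Agent.Omega.IId.Cv

end
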