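import Cfsg.Agent.Mrg.Omega.IId.Cv.TwoFourR
import Cfsg.Agent.Mrg.Omega.IId.Cv.Syl
import Cfsg.Agent.Mrg.Omega.IId.Cv.TwoAEnd
import Cfsg.Agent.Mrg.Omega.IId.Cv.MixedOne
import Cfsg.Agent.Mrg.Omega.IId.Cv.Half


/-!
# WrCv, CASE 2a, `q ≥ 4` : `CvTwoA4` (helper796, #18009)

`M : NatD F S P V D 2`, `|F| ≥ 4`, `T = stab M i` is not Sylow in `N_G(R)`, `R = line M i`, and no Sylow 2-subgroup of
`G` over `T` normalises `V_i` and `R`.

* `exists_x` : `1 ≠ x ∈ Ω₁(Z(T₁)) ∩ C(grp M {i})` if `D ≠ 1`;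
* `two_kill` : impossible, if there are a partner (`TwoFour.Partner`) and `x` (no hypothesis on `D`);
* `partner_self`, `partner_mixed` : the partners `V_i^c` and `V'_{i'}`;
* `twoA_false_four`, `twoA_false_four_mixed`; `Cv.cvTwoA4 : CvTwoA4 K`, `Cv.cvTwoA : CvTwoA K`.
-/

set_option autoImplicit false
set_option linter.unusedSectionVars false

namespace Cfsg.Agent.Omega.IId.NV

open Subgroup Cfsg Cfsg.Agent.ZN Cfsg.Agent.ZN.ChoiceBase
open Cfsg.Agent.Omega.MinPar Cfsg.Agent.Omega.FFThm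
open Cfsg.Agent.Lib.SL2Mat
open Cfsg.Agent.MinSimple
open Cfsg.Agent.MinSimple.VModule (zc_le zc_comm zc_sq zc_le_zl le_normalizer_o2 o2_isPGroup o2_le
  normalizer_le_normalizer_zc le_normalizer_zl)
open Cfsg.Agent.Omega.NatPair (ap ap_mul ap_one ap_inv_ap ap_ap_inv exists_ap ap_add ext2)
open Cfsg.Agent.Omega.Mix (RMod Char2)
open Cfsg.Agent.Omega.IId.M4 (toRMod toRMod_line nmG)
open Cfsg.Agent.Omega.IId.Cv.TwoFour (AtLine Partner vec10_ne)

universe u

section kill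

variable {G : Type u} [Group G] [Finite G] {F : Type} [Field F] [Finite F] [CharP F 2] {S : Sylow 2 G}
  {P V D : Subgroup G} (M : NatD F S P V D 2) {i j : Fin 2} (hij : i ≠ j)

include M in
omit hij in
theorem D_le_zcS : D ≤ zc (S : Subgroup G) := by
  intro d hd
  have h1 := (zl_le_zz M) (M.D_le hd)
  rw [VModule.mem_zc]
  refine ⟨o2_le_S M (VModule.zc_le _ h1), fun s hs => ?_, ?_⟩
  · exact (mem_centralizer_iff.1 (M.cD (SP M hs)) d hd).symm
  · rw [pow_two]; exact mul_self_zc h1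

include hij

/-- `Ω₁(Z(T₁)) ≤ Ω₁(Z(T))` for a Sylow 2-subgroup `T₁ ≥ T` of `G` -/
theorem zc_over_le {T₁ : Sylow 2 G} (hle : stab M.toNatV i ≤ T₁) :
    zc (T₁ : Subgroup G) ≤ zc (stab M.toNatV i) := by
  intro f hf
  obtain ⟨-, h2, h3⟩ := VModule.mem_zc.1 hf
  have hc : ∀ t ∈ stab M.toNatV i, t * f = f * t := fun t ht => h2 t (hle ht)
  refine VModule.mem_zc.2 ⟨o2_line_le M hij (char2_line M i (mem_inf.2 ⟨?_, mem_centralizer_iff.2 fun y hy =>
    hc y (o2_line_le M hij hy)⟩)), hc, h3⟩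
  apply centralizer_le_normalizer
  rw [mem_centralizer_iff]
  intro r hr
  exact hc r (part_le_stb (blk_two M i) (fac_le _ _ (line_le _ _ hr)))

/-- **`1 ≠ x ∈ Ω₁(Z(T₁)) ∩ C(grp M {i})`** -/
theorem exists_x (hD : D ≠ ⊥) {T₁ : Sylow 2 G} (hle : stab M.toNatV i ≤ T₁) :
    ∃ x ∈ zc (T₁ : Subgroup G), x ≠ 1 ∧ ∀ g ∈ grp M.toNatV {i}, g * x = x * g := by
  classical
  by_contra hcon
  push Not at hcon
  have hcon' : ∀ x ∈ zc (T₁ : Subgroup G), (∀ g ∈ grp M.toNatV {i}, g * x = x * g) → x = 1 := by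
    intro x hx hxg
    by_contra h1
    obtain ⟨g, hg, hne⟩ := hcon x hx h1
    exact hne (hxg g hg)
  have hfact : Fact (Nat.Prime 2) := ⟨Nat.prime_two⟩
  have hcard : Nat.card (zc (T₁ : Subgroup G)) = Nat.card (zc (S : Subgroup G)) := by
    refine Half.card_zc_of_card_eq S T₁.isPGroup' ?_
    rw [T₁.card_eq_multiplicity, S.card_eq_multiplicity]
  set A : Subgroup G := fac M.toNatV i ⊓ zc (stab M.toNatV i) with hA
  -- `|Ω₁(Z(T₁))| ≤ |A|`
  have h1 : Nat.card (zc (T₁ : Subgroup G)) ≤ Nat.card A := by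
    have hex : ∀ f : zc (T₁ : Subgroup G), ∃ a : A, ∃ c, (∀ g ∈ grp M.toNatV {i}, g * c = c * g) ∧
        (f : G) = a * c := by
      intro f
      obtain ⟨a, ha, c, -, haz, hc, he⟩ := XZ.zc_stb' (blk_two M i) (zc_over_le M hij hle f.2)
      exact ⟨⟨a, ha, haz⟩, c, fun g hg => hc g ((le_sup_left : grp M.toNatV {i} ≤ _) hg), he⟩
    choose φ c hc he using hex
    refine Nat.card_le_card_of_injective φ fun f f' hff => ?_
    have h2 : (f : G) * (f' : G)⁻¹ = 1 := by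
      refine hcon' _ (mul_mem f.2 (inv_mem f'.2)) fun g hg => ?_
      have e1 : (f : G) * (f' : G)⁻¹ = (f' : G)⁻¹ * f := by
        have h5 : Commute (f : G) (f' : G) := zc_comm _ _ f.2 _ f'.2
        exact h5.inv_right.eq
      have e2 : (f' : G)⁻¹ * f = (c f')⁻¹ * c f := by rw [he f', he f, hff]; group
      rw [e1, e2]
      have c1 : Commute g (c f) := hc f g hg
      have c2 : Commute g (c f') := hc f' g hg
      exact (c2.inv_right.mul_right c1).eq
    exact Subtype.ext (mul_inv_eq_one.1 h2)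
  -- `|A| |D| ≤ |Ω₁(Z(S))|`
  have hst : stab M.toNatV i ≤ S := stab_le _ _
  obtain ⟨s, hs, hs1⟩ : ∃ s ∈ (S : Subgroup G), s ∉ stab M.toNatV i := (blk_two M i).exists_swap
  have hcS : Nat.card (S : Subgroup G) = 2 * Nat.card (stab M.toNatV i) := card_two M i
  have hsconj : ∀ t ∈ stab M.toNatV i, s⁻¹ * t * s ∈ stab M.toNatV i := by
    intro t ht
    have h2 := Two.conj_mem_of_two hst (Two.two_cosets hst hcS) (inv_mem hs) ht
    rwa [inv_inv] at h2
  have hsp : ∀ a ∈ A, a * (s * a * s⁻¹) ∈ V ⊓ zc (S : Subgroup G) := by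
    intro a ha
    obtain ⟨haf, haz⟩ := mem_inf.1 ha
    obtain ⟨hat, hac, ha2⟩ := VModule.mem_zc.1 haz
    have haV : a ∈ V := fac_le _ _ haf
    have hsaV : s * a * s⁻¹ ∈ V := cj_mem M.toNatV (SP M hs) haV
    have hv : a * (s * a * s⁻¹) ∈ V := mul_mem haV hsaV
    have hT : ∀ t ∈ stab M.toNatV i, t * (a * (s * a * s⁻¹)) = a * (s * a * s⁻¹) * t := by
      intro t ht
      have c1 : Commute t a := hac t ht
      have c2 : Commute (s⁻¹ * t * s) a := hac _ (hsconj t ht)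
      have c3 : Commute t (s * a * s⁻¹) := by
        show t * (s * a * s⁻¹) = s * a * s⁻¹ * t
        calc t * (s * a * s⁻¹) = s * (s⁻¹ * t * s * a) * s⁻¹ := by group
          _ = s * (a * (s⁻¹ * t * s)) * s⁻¹ := by rw [c2.eq]
          _ = s * a * s⁻¹ * t := by group
      exact (c1.mul_right c3).eq
    have hss : s * s ∈ stab M.toNatV i := by
      have h2 := Two.two_cosets hst hcS s⁻¹ (inv_mem hs) s hs (fun h => hs1 (inv_mem_iff.1 h)) hs1
      rwa [inv_inv] at h2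
    have hS : s * (a * (s * a * s⁻¹)) = a * (s * a * s⁻¹) * s := by
      have c1 : s * s * a = a * (s * s) := hac _ hss
      have c2 := NV.comm M.toNatV haV hsaV
      calc s * (a * (s * a * s⁻¹)) = (s * a * s⁻¹) * (s * s * a) * (s⁻¹ * s⁻¹) * s := by group
        _ = (s * a * s⁻¹) * a * s := by rw [c1]; group
        _ = a * (s * a * s⁻¹) * s := by rw [c2]
    refine mem_inf.2 ⟨hv, VModule.mem_zc.2 ⟨V_le_S M hv, fun y hy => ?_, ?_⟩⟩
    · by_cases hyT : y ∈ stab M.toNatV i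
      · exact hT y hyT
      · have h2 := Two.two_cosets hst hcS s hs y hy hs1 hyT
        have e : y = s * (s⁻¹ * y) := by group
        have c1 : Commute (s⁻¹ * y) (a * (s * a * s⁻¹)) := hT _ h2
        have c2 : Commute s (a * (s * a * s⁻¹)) := hS
        rw [e]
        exact (c2.mul_left c1).eq
    · rw [pow_two]; exact NV.sq M.toNatV hv
  have h2 : Nat.card A * Nat.card D ≤ Nat.card (zc (S : Subgroup G)) := by
    rw [← Nat.card_prod]
    refine Nat.card_le_card_of_injective (fun p : A × D =>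
      (⟨(p.1 * (s * p.1 * s⁻¹)) * p.2, mul_mem (hsp _ p.1.2).2 (D_le_zcS M p.2.2)⟩ : zc (S : Subgroup G))) ?_
    rintro ⟨⟨p, hp⟩, ⟨q, hq⟩⟩ ⟨⟨p', hp'⟩, ⟨q', hq'⟩⟩ heq
    have h4 : (p * (s * p * s⁻¹)) * q = (p' * (s * p' * s⁻¹)) * q' := congrArg Subtype.val heq
    have hpV := (hsp p hp).1
    have hpV' := (hsp p' hp').1
    have h5 : (p' * (s * p' * s⁻¹))⁻¹ * (p * (s * p * s⁻¹)) = q' * q⁻¹ := by
      calc (p' * (s * p' * s⁻¹))⁻¹ * (p * (s * p * s⁻¹))
          = (p' * (s * p' * s⁻¹))⁻¹ * ((p * (s * p * s⁻¹)) * q) * q⁻¹ := by group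
        _ = q' * q⁻¹ := by rw [h4]; group
    have h6 : (p' * (s * p' * s⁻¹))⁻¹ * (p * (s * p * s⁻¹)) = 1 :=
      inf_D (M := M) (mul_mem (inv_mem hpV') hpV) (by rw [h5]; exact mul_mem hq' (inv_mem hq))
    have h7 : p' * (s * p' * s⁻¹) = p * (s * p * s⁻¹) := inv_mul_eq_one.1 h6
    have h8 : q' = q := by
      rw [h6] at h5
      exact (mul_inv_eq_one.1 h5.symm)
    -- `p⁻¹ p' ∈ fac i ∩ fac j`
    have hsw : ∀ a ∈ fac M.toNatV i, s * a * s⁻¹ ∈ fac M.toNatV j := by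
      intro a ha
      have h9 := swap_fac M.toNatV (SP M) hij hs hs1
      have h10 : s * a * s⁻¹ ∈ ChoiceBase.cj s (fac M.toNatV i) := by
        rw [mem_cj_iff]
        have e : s⁻¹ * (s * a * s⁻¹) * s = a := by group
        rwa [e]
      rwa [h9] at h10
    have h9 : p⁻¹ * p' = (s * p * s⁻¹) * (s * p' * s⁻¹)⁻¹ := by
      calc p⁻¹ * p' = p⁻¹ * (p' * (s * p' * s⁻¹)) * (s * p' * s⁻¹)⁻¹ := by group
        _ = p⁻¹ * (p * (s * p * s⁻¹)) * (s * p' * s⁻¹)⁻¹ := by rw [h7]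
        _ = (s * p * s⁻¹) * (s * p' * s⁻¹)⁻¹ := by group
    have h10 : p⁻¹ * p' ∈ fac M.toNatV i ⊓ fac M.toNatV j := by
      refine mem_inf.2 ⟨mul_mem (inv_mem hp.1) hp'.1, ?_⟩
      rw [h9]
      exact mul_mem (hsw p hp.1) (inv_mem (hsw p' hp'.1))
    rw [fac_inf M.toNatV hij, mem_bot] at h10
    have h11 : p = p' := inv_mul_eq_one.1 h10
    subst h8 h11
    rfl
  have h3 : 1 < Nat.card D := (Subgroup.one_lt_card_iff_ne_bot _).2 hD
  have h4 : 0 < Nat.card A := Nat.card_pos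
  rw [hcard] at h1
  have h5 : Nat.card A * 2 ≤ Nat.card A * Nat.card D := Nat.mul_le_mul_left _ h3
  omega

omit hij in
theorem line10 (M : NatD F S P V D 2) (i : Fin 2) : (toRMod (pre M.toNatV i)).line ![1, 0] = line M.toNatV i := by
  rw [toRMod_line, pre_line]

/-- **CASE 2a is impossible for `q ≥ 4`** (a partner `V'` and `x` are given; no hypothesis on `D`) -/
theorem two_kill (h4 : 4 ≤ Nat.card F) {T₁ : Sylow 2 G} {w : G} (h : Over M i T₁ w)
    (hR : (T₁ : Subgroup G) ≤ normalizer (line M.toNatV i : Set G))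
    (hno : ¬ ∃ T₁ : Sylow 2 G, NV.stab M.toNatV i ≤ T₁ ∧
      (T₁ : Subgroup G) ≤ normalizer (NV.fac M.toNatV i : Set G) ⊓ normalizer (NV.line M.toNatV i : Set G))
    {x : G} (hx : x ∈ zc (T₁ : Subgroup G)) (hx1 : x ≠ 1) (hxE : ∀ g ∈ grp M.toNatV {i}, g * x = x * g)
    {F' : Type*} [Field F'] [Finite F'] [CharP F' 2] {V' N' : Subgroup G} {M' : RMod F' V' N'}
    (p : Partner (line M.toNatV i) (toRMod (pre M.toNatV i)) M') : False := by
  have hfact : Fact (Nat.Prime 2) := ⟨Nat.prime_two⟩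
  obtain ⟨hxT₁, hxc, hx2⟩ := VModule.mem_zc.1 hx
  have hline := line10 M i
  have hch : Char2 (normalizer (line M.toNatV i : Set G)) := by
    intro y hy hq
    exact char2_line' M i (mem_inf.2 ⟨hy, mem_centralizer_iff.2 fun q hq' => (hq q hq').symm⟩)
  have a : AtLine (toRMod (pre M.toNatV i)) ![1, 0] := by
    obtain ⟨w, hw, -, a⟩ := p.atLine hch
    exact a.all hw vec10_ne
  have hQT : BTwo.QQ (line M.toNatV i) ≤ stab M.toNatV i := o2_line_le M hij
  have hxQ : ∀ q ∈ BTwo.QQ (line M.toNatV i), q * x = x * q := fun q hq => hxc q (h.le (hQT hq))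
  have hidx : ∀ y ∈ (T₁ : Subgroup G), y ∉ stab M.toNatV i → ∀ z ∈ (T₁ : Subgroup G), z ∉ stab M.toNatV i →
      y * z ∈ stab M.toNatV i := by
    intro y hy hy1 z hz hz1
    have h1 := Two.two_cosets h.le h.card y⁻¹ (inv_mem hy) z hz (fun hh => hy1 (inv_mem_iff.1 hh)) hz1
    rwa [inv_inv] at h1
  have hwV : BTwo.cj w (fac M.toNatV i) ≠ fac M.toNatV i := by
    intro e
    have hw := BTwo.cj_eq_self_iff.1 e
    refine hno ⟨T₁, h.le, le_inf (fun t ht => ?_) hR⟩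
    rcases h.cov ht with h1 | h1
    · exact stab_normalizes _ _ h1
    · have e1 : t = w * (w⁻¹ * t) := by group
      rw [e1]
      exact mul_mem hw (stab_normalizes _ _ h1)
  have hOC : BTwo.O2 (centralizer (fac M.toNatV i : Set G)) ≤ stab M.toNatV i := by
    have hT2 : IsPGroup 2 (stab M.toNatV i) := S.isPGroup'.to_le (stab_le _ _)
    have h1 : stab M.toNatV i ≤ normalizer (BTwo.O2 (centralizer (fac M.toNatV i : Set G)) : Set G) := by
      intro t ht
      have h2 := BTwo.normalizer_le_normalizer_centralizer _ (stab_normalizes M.toNatV i ht)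
      rw [← BTwo.cj_eq_self_iff] at h2 ⊢
      rw [BTwo.cj_O2, h2]
    have h2 : IsPGroup 2 ↥(BTwo.O2 (centralizer (fac M.toNatV i : Set G)) ⊔ stab M.toNatV i) :=
      (BTwo.O2_isPGroup _).to_sup_of_normal_left' hT2 h1
    refine le_sup_left.trans (max_fac_of M hno h2 le_sup_right (sup_le ?_ (stab_normalizes _ _)))
    exact (BTwo.O2_le _).trans (centralizer_le_normalizer _)
  obtain ⟨hVO, hVc⟩ := cent_half M hij hx2 hx1 (fun t ht => hxc t (h.le ht)) hxE
  have H : Cv.TwoFour.Hyp (fac M.toNatV i) (nmG (pre M.toNatV i)) (Mix.pt (toRMod (pre M.toNatV i)))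
      (fun k => KX (Mix.pt (toRMod (pre M.toNatV i)) k)) (Cv.TwoFour.i₀ (toRMod (pre M.toNatV i)))
      (T₁ : Subgroup G) (stab M.toNatV i) w x :=
    { bt := a.kt vec10_ne
      cenQ := by
        show normalizer ((toRMod (pre M.toNatV i)).line ![1, 0] : Set G) ⊓
          centralizer (BTwo.QQ ((toRMod (pre M.toNatV i)).line ![1, 0]) : Set G) ≤
            BTwo.QQ ((toRMod (pre M.toNatV i)).line ![1, 0])
        rw [hline]
        exact char2_line' M i
      T₁p := T₁.isPGroup'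
      T₁max := fun Q hQ hle => (T₁.is_maximal' hQ hle).le
      le := h.le
      idx := hidx
      T₁R := by
        show (T₁ : Subgroup G) ≤ normalizer ((toRMod (pre M.toNatV i)).line ![1, 0] : Set G)
        rw [hline]
        exact hR
      TL := stab_le_nmG (SP M) M.toNatV i
      OC := hOC
      QT := by
        show BTwo.QQ ((toRMod (pre M.toNatV i)).line ![1, 0]) ≤ _
        rw [hline]
        exact hQT
      wT₁ := h.mem
      wV := hwV
      xm := hxT₁
      xT₁ := hxc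
      xX := by
        refine a.cen_X ?_ fun A => ?_
        · rw [hline]
          exact hxQ
        · obtain ⟨g, hg, hgA⟩ := exists_lift M.toNatV i A
          refine ⟨g, fun y => ?_, hxE g hg⟩
          refine ext_fac M.toNatV (grp_conj_fac hg ((pre M.toNatV i).e_mem y)) ((pre M.toNatV i).e_mem _) ?_
          exact (hgA _ ((pre M.toNatV i).e_mem y).1).trans
            (by rw [pre_e]; exact (pre_e M.toNatV i _).symm)
      VO := hVO
      Vc := fun v hv u hu => mem_centralizer_iff.1 (hVc hu) v hv }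
  exact H.false_four a.fq (a.h4 h4)

/-- the partner `V_i^c` -/
theorem partner_self {c : G} (hc : c ∈ normalizer (line M.toNatV i : Set G))
    (hne : ∃ v ∈ fac M.toNatV i, ∃ w ∈ fac M.toNatV i, v * (c * w * c⁻¹) ≠ c * w * c⁻¹ * v) :
    Partner (line M.toNatV i) (toRMod (pre M.toNatV i)) ((toRMod (pre M.toNatV i)).conj c) where
  K' := by
    have h1 := BTwo.cj_mono (g := c) (fac_le_KX' M (Or.inr rfl) i)
    rwa [BTwo.cj_eq_self_iff.2 (normalizer_le_normalizer_KX _ hc)] at h1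
  VQ := fac_le_o2 M (Or.inr rfl) i
  QN := (o2_line_le M hij).trans (stab_le_nmG (SP M) M.toNatV i)
  QN' := by
    have h1 := BTwo.cj_mono (g := c) ((o2_line_le M hij).trans (stab_le_nmG (SP M) M.toNatV i))
    rw [BTwo.cj_eq_self_iff.2 (ZN.le_normalizer_o2 _ hc)] at h1
    exact h1
  ne := by
    obtain ⟨v, hv, w, hw, h⟩ := hne
    exact ⟨v, hv, _, BTwo.conj_mem_cj hw, h⟩
  line := ⟨![1, 0], vec10_ne, (line10 M i).symm⟩
  line' := by
    refine ⟨![1, 0], vec10_ne, ?_⟩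
    have h1 := (toRMod (pre M.toNatV i)).conj_line c ![1, 0]
    rw [line10 M i] at h1
    exact ((BTwo.cj_eq_self_iff.2 hc).symm.trans h1.symm)

/-- the partner `V'_{i'}` of a mixed pair -/
theorem partner_mixed {F' : Type} [Field F'] [Finite F'] [CharP F' 2] {S' : Sylow 2 G} {P' V' D' : Subgroup G}
    {k' : ℕ} (M' : NatD F' S' P' V' D' k') (hk' : k' = 1 ∨ k' = 2) {i' : Fin k'}
    (hl : line M.toNatV i = line M'.toNatV i')
    (hne : ∃ v ∈ fac M.toNatV i, ∃ w ∈ fac M'.toNatV i', v * w ≠ w * v) :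
    Partner (line M.toNatV i) (toRMod (pre M.toNatV i)) (toRMod (pre M'.toNatV i')) where
  K' := by rw [hl]; exact fac_le_KX' M' hk' i'
  VQ := fac_le_o2 M (Or.inr rfl) i
  QN := (o2_line_le M hij).trans (stab_le_nmG (SP M) M.toNatV i)
  QN' := by rw [hl]; exact (o2_line_le' M' hk' i').trans (stab_le_nmG (SP M') M'.toNatV i')
  ne := hne
  line := ⟨![1, 0], vec10_ne, (line10 M i).symm⟩
  line' := ⟨![1, 0], vec10_ne, by rw [toRMod_line, pre_line, hl]⟩

omit hij in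
/-- **CASE 2a is impossible for `q ≥ 4`, `D ≠ 1`**, a partner is given. -/
theorem twoA_false_four_P (h4 : 4 ≤ Nat.card F) (hD : D ≠ ⊥)
    (hd : 2 ∣ (NV.stab M.toNatV i).relIndex (normalizer (NV.line M.toNatV i : Set G)))
    (hno : ¬ ∃ T₁ : Sylow 2 G, NV.stab M.toNatV i ≤ T₁ ∧
      (T₁ : Subgroup G) ≤ normalizer (NV.fac M.toNatV i : Set G) ⊓ normalizer (NV.line M.toNatV i : Set G))
    {F' : Type*} [Field F'] [Finite F'] [CharP F' 2] {V' N' : Subgroup G} {M' : RMod F' V' N'}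
    (p : Partner (line M.toNatV i) (toRMod (pre M.toNatV i)) M') : False := by
  obtain ⟨j, hji⟩ := exists_ne i
  have hij : i ≠ j := hji.symm
  obtain ⟨T₁, w, h, hR⟩ := exists_over M (stab_normalizes_line M.toNatV (SP M) i) hd
  obtain ⟨x, hx, hx1, hxE⟩ := exists_x M hij hD h.le
  exact two_kill M hij h4 h hR hno hx hx1 hxE p

omit hij in
/-- **CASE 2a is impossible for `q ≥ 4`**: unmixed `V_i`. -/
theorem twoA_false_four (h4 : 4 ≤ Nat.card F) (hD : D ≠ ⊥) {i : Fin 2} (hU : Cv.UnM M i)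
    (hd : 2 ∣ (NV.stab M.toNatV i).relIndex (normalizer (NV.line M.toNatV i : Set G)))
    (hno : ¬ ∃ T₁ : Sylow 2 G, NV.stab M.toNatV i ≤ T₁ ∧
      (T₁ : Subgroup G) ≤ normalizer (NV.fac M.toNatV i : Set G) ⊓ normalizer (NV.line M.toNatV i : Set G)) :
    False := by
  obtain ⟨j, hji⟩ := exists_ne i
  obtain ⟨c, hc, v, hv, v', hv', hne⟩ := hU
  exact twoA_false_four_P M h4 hD hd hno (partner_self M hji.symm hc ⟨v, hv, v', hv', hne⟩)

omit hij in
/-- **CASE 2a is impossible for `q ≥ 4`**: mixed partners. -/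
theorem twoA_false_four_mixed (h4 : 4 ≤ Nat.card F) (hD : D ≠ ⊥) {i : Fin 2} {F' : Type} [Field F'] [Finite F']
    [CharP F' 2] {S' : Sylow 2 G} {P' V' D' : Subgroup G} {k' : ℕ} (M' : NatD F' S' P' V' D' k')
    (hk' : k' = 1 ∨ k' = 2) {i' : Fin k'} (hl : line M.toNatV i = line M'.toNatV i')
    (hne : ∃ v ∈ fac M.toNatV i, ∃ w ∈ fac M'.toNatV i', v * w ≠ w * v)
    (hd : 2 ∣ (NV.stab M.toNatV i).relIndex (normalizer (NV.line M.toNatV i : Set G)))
    (hno : ¬ ∃ T₁ : Sylow 2 G, NV.stab M.toNatV i ≤ T₁ ∧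
      (T₁ : Subgroup G) ≤ normalizer (NV.fac M.toNatV i : Set G) ⊓ normalizer (NV.line M.toNatV i : Set G)) :
    False := by
  obtain ⟨j, hji⟩ := exists_ne i
  exact twoA_false_four_P M h4 hD hd hno (partner_mixed M hji.symm M' hk' hl hne)

end kill

end Cfsg.Agent.Omega.IId.NV

namespace Cfsg.Agent.Omega.IId.Cv

universe u

/-- **CASE 2a, `q ≥ 4`.** -/
theorem cvTwoA4 (K : Cfsg.Agent.Omega.Frame.Cls.{u}) : CvTwoA4 K := fun _ _ _ _ _ _ _ _ _ _ _ _ M _ hD hU hd hno hq =>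
  NV.twoA_false_four M hq hD hU hd hno

/-- **CASE 2a.** -/
theorem cvTwoA (K : Cfsg.Agent.Omega.Frame.Cls.{u}) : CvTwoA K := cvTwoA_of (cvTwoA4 K)

end Cfsg.Agent.Omega.IId.Cv
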