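import Cfsg.Agent.Mrg.Omega.IId.Cv.Htt
import Cfsg.Agent.Mrg.Omega.HTwo.EntryTv
import Cfsg.Agent.Mrg.Omega.HT.Main


/-!
# WrCv, CASE 1, `q = 2`: the socket `CvOneA2`

`T = stab M i` Sylow in `N_G(line M i)`, `V₁ = fac M i` unmixed, `D ≠ 1`: with the structure `HTT` for `V₁` over `T`
(`Cv/Htt.lean`), `HT.Main.main_core` says `|C_{Ω₁Z(T)}(X)| ≤ 2`; but it contains `D` and `line M j`.
-/

set_option autoImplicit false
set_option linter.unusedSectionVars false

namespace Cfsg.Agent.Omega.IId.NV.Htt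

open Subgroup Cfsg Cfsg.Agent.ZN Cfsg.Agent.ZN.ChoiceBase
open Cfsg.Agent.Omega.MinPar Cfsg.Agent.Omega.FFThm
open Cfsg.Agent.MinSimple
open Cfsg.Agent.Omega.BTwo (BT BTS QQ WW XX CenX O2)
open Cfsg.Agent.Omega.IId.Cv (UnM)
open Cfsg.Agent.Omega.HOneTwo (cl UM)
open Cfsg.Agent.Omega.HTwo.AlphaP (MP)
open Cfsg.Agent.Omega.HOne.TvDef
open Cfsg.Agent.Omega.HTwo.EntryTv (ME ME_z)

universe u

variable {G : Type u} [Group G] [Finite G] {F : Type} [Field F] [Finite F] [CharP F 2] {S : Sylow 2 G}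
  {P V D : Subgroup G} (M : NatD F S P V D 2) {i j : Fin 2}

/-- the other factor is unmixed, too -/
theorem unM_other (hij : i ≠ j) (hu : UnM M i) : UnM M j := by
  have hSP := SP M
  obtain ⟨s, hs, hn⟩ : ∃ s ∈ (S : Subgroup G), s ∉ stab M.toNatV i := (blk_two M i).exists_swap
  have h0 := swap_fac M.toNatV hSP hij hs hn
  have hsg : sg M.toNatV (hSP hs) i = j := (sg_eq_iff M.toNatV (hSP hs)).2 h0
  have h1 : cj s (line M.toNatV i) = line M.toNatV j := by
    rw [conj_line M.toNatV hSP hs, hsg]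
  have hm : ∀ {v : G}, v ∈ fac M.toNatV i → s * v * s⁻¹ ∈ fac M.toNatV j := fun {v} hv => by
    rw [← h0, mem_cj_iff]
    have e : s⁻¹ * (s * v * s⁻¹) * s = v := by group
    rwa [e]
  obtain ⟨g, hg, v, hv, w, hw, hne⟩ := hu
  refine ⟨s * g * s⁻¹, ?_, s * v * s⁻¹, hm hv, s * w * s⁻¹, hm hw, fun h => hne ?_⟩
  · rw [← h1, ← cj_normalizer, mem_cj_iff]
    have e : s⁻¹ * (s * g * s⁻¹) * s = g := by group
    rwa [e]
  · have e1 : s * v * s⁻¹ * (s * g * s⁻¹ * (s * w * s⁻¹) * (s * g * s⁻¹)⁻¹) = s * (v * (g * w * g⁻¹)) * s⁻¹ := by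
      group
    have e2 : s * g * s⁻¹ * (s * w * s⁻¹) * (s * g * s⁻¹)⁻¹ * (s * v * s⁻¹) = s * (g * w * g⁻¹ * v) * s⁻¹ := by
      group
    rw [e1, e2] at h
    exact mul_left_cancel (mul_right_cancel h)

variable {M} {ι : Type*} {R : ι → Subgroup G} {o : ι} (h : Dat M i j R o)
include h

/-- `DT M ≤ Z₀` -/
theorem Dat.DT_le : DT M ≤ zc (stab M.toNatV i) ⊓
    centralizer ((stab M.toNatV i ⊔ XX (fac M.toNatV i) R : Subgroup G) : Set G) := by
  intro z hz
  obtain ⟨h1, -⟩ := (mem_DT M (i := i)).1 hz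
  refine ⟨h1, mem_centralizer_iff.2 fun x hx => ?_⟩
  have h2 : (stab M.toNatV i ⊔ XX (fac M.toNatV i) R : Subgroup G) ≤ centralizer ({z} : Set G) := by
    refine sup_le (fun t ht => ?_) fun t ht => ?_
    · exact mem_centralizer_singleton_iff.2 ((VModule.mem_zc.1 h1).2.1 t ht)
    · exact mem_centralizer_singleton_iff.2 (h.cenX (Or.inr hz) ht)
  exact mem_centralizer_singleton_iff.1 (h2 hx)

/-- `V₂ ∩ Z(T) ≤ Z₀` -/
theorem Dat.fac_le {z : G} (hz : z ∈ fac M.toNatV j) (hz' : z ∈ zc (stab M.toNatV i)) :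
    z ∈ zc (stab M.toNatV i) ⊓ centralizer ((stab M.toNatV i ⊔ XX (fac M.toNatV i) R : Subgroup G) : Set G) := by
  refine ⟨hz', mem_centralizer_iff.2 fun x hx => ?_⟩
  have h2 : (stab M.toNatV i ⊔ XX (fac M.toNatV i) R : Subgroup G) ≤ centralizer ({z} : Set G) := by
    refine sup_le (fun t ht => ?_) fun t ht => ?_
    · exact mem_centralizer_singleton_iff.2 ((VModule.mem_zc.1 hz').2.1 t ht)
    · exact mem_centralizer_singleton_iff.2 (h.cenX (Or.inl hz) ht)
  exact mem_centralizer_singleton_iff.1 (h2 hx)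

/-- an element of `Z₀` centralised by `N(V₁) ∩ N(R o)` lies in `DT M` -/
theorem Dat.mem_DT_of {c : G} (hc : c ∈ zc (stab M.toNatV i) ⊓
      centralizer ((stab M.toNatV i ⊔ XX (fac M.toNatV i) R : Subgroup G) : Set G))
    (hg : ∀ g ∈ normalizer (R o : Set G), g ∈ normalizer (fac M.toNatV i : Set G) → g * c = c * g) : c ∈ DT M := by
  obtain ⟨u, hu, w, hw, m, hm, huz, hwz, rfl⟩ := zc_stab_eq h.card h.ne hc.1
  have hX : ∀ x ∈ XX (fac M.toNatV i) R, x * (u * w * m) = u * w * m * x := fun x hx =>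
    mem_centralizer_iff.1 hc.2 x (mem_sup_right hx)
  have hu1 : u = 1 := by
    refine h.b.toBT.cen_VX hu (mem_centralizer_iff.2 fun x hx => ?_)
    have h1 := hX x hx
    have h2 := h.cenX (Or.inl hw) hx
    have h3 := h.cenX (Or.inr hm) hx
    have h4 : x * u * (w * m) = u * x * (w * m) := by
      calc x * u * (w * m) = x * (u * w * m) := by group
        _ = u * w * (m * x) := by rw [h1]; group
        _ = u * (w * x) * m := by rw [← h3]; group
        _ = u * x * (w * m) := by rw [← h2]; group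
    exact mul_right_cancel h4
  subst hu1
  rw [one_mul] at hg ⊢
  have hw1 : w = 1 := by
    have h5 : w ∈ fac M.toNatV j ⊓ centralizer (grp M.toNatV {j} : Set G) := by
      refine ⟨hw, mem_centralizer_iff.2 fun g hgj => ?_⟩
      have h6 := hg g (by rw [h.Ro]; exact grp_le_line M h.ne hgj) (grp_normalizes M.toNatV {j} {i} hgj)
      have h7 := DT_comm_grp M h.ne.symm hm hgj
      have h8 : g * w * m = w * g * m := by
        calc g * w * m = g * (w * m) := by group
          _ = w * (m * g) := by rw [h6]; group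
          _ = w * g * m := by rw [← h7]; group
      exact mul_right_cancel h8
    rwa [fac_inf_centralizer, mem_bot] at h5
  rw [hw1, one_mul]
  exact hm

/-- `T` has odd index in `C(v₂)`, hence in `MZ` -/
theorem Dat.odd_MZ : ¬ 2 ∣ (stab M.toNatV i).relIndex (HT.JunAB.MZ (stab M.toNatV i) (fac M.toNatV i) R) := by
  obtain ⟨z, hz, hz1, hzT⟩ := exists_fac_zc M h.ne
  have hzl : z ∈ line M.toNatV j := by
    refine fix_le_line M.toNatV (SP M) hz fun t ht => ?_
    rw [stab_eq M.toNatV (SP M) h.ne.symm] at ht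
    exact (VModule.mem_zc.1 hzT).2.1 t ht
  have hle : HT.JunAB.MZ (stab M.toNatV i) (fac M.toNatV i) R ≤ normalizer (line M.toNatV j : Set G) := by
    have hc : Nat.card (line M.toNatV j) = 2 := by rw [card_line, h.card]
    refine (HT.JunAB.MZ_le h.htt (h.fac_le hz hzT)).trans fun g hg => ?_
    have hgz : g * z = z * g := mem_centralizer_singleton_iff.1 hg
    refine centralizer_le_normalizer _ (mem_centralizer_iff.2 fun y hy => ?_)
    rcases Two.eq_or_eq_of_card_two hc hzl hz1 hy with rfl | rfl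
    · rw [one_mul, mul_one]
    · exact hgz.symm
  have hT : stab M.toNatV i ≤ HT.JunAB.MZ (stab M.toNatV i) (fac M.toNatV i) R := by
    refine le_trans (fun t ht => ?_) le_sup_left
    exact mem_centralizer_iff.2 fun y hy => ((VModule.mem_zc.1 hy).2.1 t ht).symm
  intro h2
  apply syl_other M h.ne h.odd
  rw [← relIndex_mul_relIndex _ _ _ hT hle]
  exact Dvd.dvd.mul_right h2 _

/-- every 2-subgroup of `G` has order at most `2 |T|` -/
theorem Dat.hcard (Q : Subgroup G) (hQ : IsPGroup 2 Q) : Nat.card Q ≤ 2 * Nat.card (stab M.toNatV i) := by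
  rw [← card_two M i]
  exact Half.card_le_sylow S hQ

omit h in
/-- **CASE 1, `q = 2`**: contradiction -/
theorem false_of (h : Dat M i j R o) {κ : Type*} {R₂ : κ → Subgroup G} {o₂ : κ} (h₂ : Dat M j i R₂ o₂)
    (hu : UnM M i) (hD : D ≠ ⊥) : False := by
  have b := h.htt
  have b₂ : HT.HTT (stab M.toNatV i) (stab M.toNatV j ⊔ XX (fac M.toNatV j) R₂) (fac M.toNatV j) R₂ o₂ := by
    have := h₂.htt
    rwa [stab_eq M.toNatV (SP M) h.ne.symm] at this ⊢
  have hLE := lemE M h.card h.b h.Ro h.Rg hu h.odd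
  obtain ⟨r, hr1, hrr, hr⟩ := b.exists_gen o
  have hrR : r ∈ R o := (hr r).2 (Or.inr rfl)
  have hrV : r ∈ fac M.toNatV i := b.R_le o hrR
  have hSr : ∀ s ∈ stab M.toNatV i, s * r = r * s := fun s hs =>
    (mem_centralizer_iff.1 (HOneTwo.normalizer_le_cen_of_card (b.card_R o) (b.S_R hs)) r hrR).symm
  obtain ⟨d, hd, hd1⟩ := (Subgroup.bot_or_exists_ne_one D).resolve_left hD
  have hdT : d ∈ DT M := D_le_DT M hd
  have key : ∀ z ∈ DT M, z ≠ 1 → HT.Main.Core (fac M.toNatV i) R o r z ∧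
      ∃ Y ≤ centralizer ({z * r} : Set G), HT.TComp.GSysW (centralizer ({z * r} : Set G)) Y r := by
    intro z hz hz1
    have hzZ := h.DT_le hz
    refine ⟨HT.Core.ho2 b h.hcard hr hr1 hzZ hz1, ?_⟩
    have hSz : ∀ s ∈ stab M.toNatV i, s * z = z * s := (VModule.mem_zc.1 hzZ.1).2.1
    have hzz : z * z = 1 := by rw [← pow_two]; exact (VModule.mem_zc.1 hzZ.1).2.2
    have hzr : z * r = r * z := (hSz r (b.V_le_S hrV)).symm
    refine HT.Core.exists_Y b b₂ h.hcard hr1 hrR ?_ ?_ ?_ ?_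
    · calc z * r * (z * r) = z * (r * z) * r := by group
        _ = (z * z) * (r * r) := by rw [← hzr]; group
        _ = 1 := by rw [hzz, hrr, mul_one]
    · intro h4
      have h1 : z = r := by
        calc z = z * r * r := by rw [mul_assoc, hrr, mul_one]
          _ = r := by rw [h4, one_mul]
      have h3 : r ∈ fac M.toNatV i ⊓ (zc (stab M.toNatV i) ⊓
          centralizer ((stab M.toNatV i ⊔ XX (fac M.toNatV i) R : Subgroup G) : Set G)) := ⟨hrV, h1 ▸ hzZ⟩
      rw [b.R_inf_cz] at h3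
      exact hr1 (mem_bot.1 h3)
    · intro s hs
      calc s * (z * r) = (s * z) * r := by group
        _ = z * (s * r) := by rw [hSz s hs]; group
        _ = z * r * s := by rw [hSr s hs]; group
    · intro x hx
      have k1 := h₂.cenX (Or.inl hrV) hx
      have k2 := h₂.cenX (Or.inr hz) hx
      rw [mem_centralizer_singleton_iff]
      calc x * (z * r) = (x * z) * r := by group
        _ = z * (x * r) := by rw [k2]; group
        _ = z * r * x := by rw [k1]; group
  have hmain := HT.Main.main_core b hLE hr h.odd_MZ (fun c hc hs => by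
    have hcT : c ∈ DT M := h.mem_DT_of hc fun g hg hgV => HT.Sig.comm b hr hc hs hg hgV
    by_cases hc1 : c = 1
    · exact ⟨d, h.DT_le hdT, hd1, Or.inl hc1, key d hdT hd1⟩
    · exact ⟨c, hc, hc1, Or.inr rfl, key c hcT hc1⟩)
  obtain ⟨v, hv, hv1, hvT⟩ := exists_fac_zc M h.ne
  have e := hmain d (h.DT_le hdT) v (h.fac_le hv hvT) hd1 hv1
  apply hd1
  have h5 : d ∈ V ⊓ D := ⟨by rw [e]; exact NV.fac_le _ _ hv, hd⟩
  rwa [M.inf, mem_bot] at h5

end Cfsg.Agent.Omega.IId.NV.Htt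

namespace Cfsg.Agent.Omega.IId.Cv

open Subgroup Pointwise Cfsg Cfsg.Agent.ZN Cfsg.Agent.ZN.ChoiceBase
open Cfsg.Agent.Omega.MinPar Cfsg.Agent.Omega.Frame Cfsg.Agent.Omega.FFThm Cfsg.Agent.Omega.FrameMulti
open Cfsg.Agent.Omega.IId.NV

universe u

/-- **the socket `CvOneA2`** -/
theorem cvOneA2 (K : Cls.{u}) : CvOneA2 K := by
  intro G _ _ S _ P F _ _ _ V D M i hD hu hd hF
  obtain ⟨j, hji⟩ := exists_ne i
  have hij := hji.symm
  have hd₂ : ¬ 2 ∣ (NV.stab M.toNatV j).relIndex (normalizer (NV.line M.toNatV j : Set G)) := by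
    rw [NV.stab_eq M.toNatV (NV.SP M) hji]
    exact syl_other M hij hd
  obtain ⟨κ, R, o, h⟩ := Htt.exists_dat M hij hF hu hd
  obtain ⟨κ₂, R₂, o₂, h₂⟩ := Htt.exists_dat M hji hF (Htt.unM_other M hij hu) hd₂
  exact Htt.false_of h h₂ hu hD

end Cfsg.Agent.Omega.IId.Cv
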