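import Cfsg.Agent.Mrg.Omega.IId.M4.Entry
import Cfsg.Agent.Mrg.Omega.Mix.Control
import Cfsg.Agent.Mrg.Omega.IId.Cv.MixPlug
import Cfsg.Agent.Mrg.Omega.IId.Cv.Half
import Cfsg.Agent.Mrg.Omega.BTwo.Basic

section


/-!
# WrCv, mixed partners, CASE 2: (2a) is impossible for `q ≥ 4` (helper796 #18009 in K-form; helper330 #18683, #18786)

`Kill M₁ M₂ R T T₁ w x` : the setting: `MixedQ M₁ M₂ R`, `T₁` a Sylow 2-subgroup of `G` in `N_G(R)`, `T` a subgroup of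
index 2 of `T₁` in `N₁`, `w ∈ T₁`, `O₂(N_G(R)), O₂(C_G(V₁)) ≤ T`, `1 ≠ x ∈ Z(T₁)` centralised by all `W₂(R')`,
`V₁ ≤ Z(O₂(C_G(x)))`.

First part: `V' = V₁^w` is in `O₂(N_G(R'))` for all lines `R'` of `V₁`, `V₁V' = V₁ × F`, `F = C(X)`, and `C_T(V₁)`
centralises `V'`.
-/

set_option autoImplicit false
set_option linter.unusedSectionVars false

namespace Cfsg.Agent.Omega.IId.MQ

open Subgroup Cfsg.Agent.Lib.SL2Mat Cfsg.Agent.Omega.BTwo Cfsg.Agent.Omega.Mix Cfsg.Agent.Omega.MixOne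
open Cfsg.Agent.Omega.NatPair (dt dt_add dt_smul exists_smul_of_dt exists_comb ap ap_smul ap_add ap_zero' ap_one'
  ap_mul ap_inv_ap ap_ap_inv ap_one exists_ap exists_ap_e ap_up_e ext2)

variable {G : Type*} [Group G]

/-- the setting of the (2a)-kill -/
structure Kill {F₁ F₂ : Type*} [Field F₁] [Field F₂] {V₁ V₂ N₁ N₂ : Subgroup G} (M₁ : RMod F₁ V₁ N₁)
    (M₂ : RMod F₂ V₂ N₂) (R T : Subgroup G) (T₁ : Sylow 2 G) (w x : G) : Prop extends MixedQ M₁ M₂ R where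
  q4 : 4 ≤ Nat.card F₁
  T₁R : (T₁ : Subgroup G) ≤ normalizer (R : Set G)
  TT₁ : T ≤ T₁
  TN : T ≤ N₁
  QT : QQ R ≤ T
  OT : O2 (centralizer (V₁ : Set G)) ≤ T
  wT₁ : w ∈ (T₁ : Subgroup G)
  cov : ∀ t ∈ (T₁ : Subgroup G), t ∈ T ∨ w⁻¹ * t ∈ T
  ww : w * w ∈ T
  nT : (T₁ : Subgroup G) ≤ normalizer (T : Set G)
  x1 : x ≠ 1
  xT₁ : x ∈ (T₁ : Subgroup G)
  xc : ∀ t ∈ (T₁ : Subgroup G), t * x = x * t
  xB : ∀ i, ∀ b ∈ LL V₂ R (pt M₁ i), b * x = x * b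
  VU : V₁ ≤ O2 (centralizer ({x} : Set G))
  UV : O2 (centralizer ({x} : Set G)) ≤ centralizer (V₁ : Set G)

/-- `Z(O₂(C_G(x)))` -/
def UX (x : G) : Subgroup G :=
  O2 (centralizer ({x} : Set G)) ⊓ centralizer (O2 (centralizer ({x} : Set G)) : Set G)

theorem UX_comm {x y z : G} (hy : y ∈ UX x) (hz : z ∈ UX x) : y * z = z * y :=
  (mem_centralizer_iff.1 hz.2 y hy.1)

theorem UX_conj {x g y : G} (hg : g * x = x * g) (hy : y ∈ UX x) : g * y * g⁻¹ ∈ UX x := by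
  have h1 : g ∈ normalizer (O2 (centralizer ({x} : Set G)) : Set G) :=
    le_normalizer_O2 _ (mem_centralizer_singleton_iff.2 hg)
  exact ⟨conj_mem_of_normalizer h1 hy.1,
    conj_mem_of_normalizer (normalizer_le_normalizer_centralizer _ h1) hy.2⟩

theorem UX_conj' {x g y : G} (hg : g * x = x * g) (hy : y ∈ UX x) : g⁻¹ * y * g ∈ UX x := by
  have h1 : g⁻¹ * x = x * g⁻¹ := by
    rw [inv_mul_eq_iff_eq_mul, ← mul_assoc, hg, mul_inv_cancel_right]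
  have h2 := UX_conj h1 hy
  rwa [inv_inv] at h2

namespace Kill

variable {F₁ F₂ : Type*} [Field F₁] [Field F₂] {V₁ V₂ N₁ N₂ : Subgroup G} {M₁ : RMod F₁ V₁ N₁}
  {M₂ : RMod F₂ V₂ N₂} {R T : Subgroup G} {T₁ : Sylow 2 G} {w x : G}
  [Finite G] [Finite F₁] [Finite F₂] [CharP F₁ 2] [CharP F₂ 2] (k : Kill M₁ M₂ R T T₁ w x)

include k

theorem exists_i : ∃ i : Pt M₁, pt M₁ i = R := by
  obtain ⟨u, hu, hR⟩ := k.line₁
  exact ⟨⟨R, u, hu, hR⟩, rfl⟩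

theorem exists_g (p : Pt M₁) : ∃ g : G, g * x = x * g ∧ cj g R = pt M₁ p ∧ cj g V₁ = V₁ := by
  obtain ⟨i, hi⟩ := k.exists_i
  obtain ⟨m, -, -, b, hb, h⟩ := k.sideW.trans_B i p
  exact ⟨b, k.xB m b hb, by rw [← hi]; exact h, cj_eq_self_iff.2 (k.sideW.B_NV m hb)⟩

theorem cV_le (p : Pt M₁) : centralizer (V₁ : Set G) ≤ normalizer (pt M₁ p : Set G) := fun _ hg =>
  k.sideW.cV_le_NR (fun v hv => (mem_centralizer_iff.1 hg v hv).symm) p

theorem B_le_QQ (p : Pt M₁) : LL V₂ R (pt M₁ p) ≤ QQ (pt M₁ p) := by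
  obtain ⟨g, -, h1, -⟩ := k.exists_g p
  have h3 := cj_mono (g := g) k.symm.C_le_QQ
  rwa [cj_LL h1, cj_QQ, h1] at h3

theorem V_le_QQ' (p : Pt M₁) : V₁ ≤ QQ (pt M₁ p) := by
  obtain ⟨g, -, h1, h2⟩ := k.exists_g p
  have h3 := cj_mono (g := g) k.toMixedQ.V_le_QQ
  rwa [cj_QQ, h1, h2] at h3

theorem QB (p : Pt M₁) {q b : G} (hq : q ∈ QQ (pt M₁ p)) (hb : b ∈ LL V₂ R (pt M₁ p)) :
    q * b * q⁻¹ * b⁻¹ ∈ pt M₁ p := by
  obtain ⟨g, -, h1, -⟩ := k.exists_g p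
  have h2 : g⁻¹ * q * g ∈ QQ R := by
    rw [← mem_cj, cj_QQ, h1]; exact hq
  have h3 : g⁻¹ * b * g ∈ LL V₂ R R := by
    rw [← mem_cj, cj_LL h1]; exact hb
  have h4 := k.symm.QC h2 h3
  rw [← h1, mem_cj]
  have e : g⁻¹ * (q * b * q⁻¹ * b⁻¹) * g =
      g⁻¹ * q * g * (g⁻¹ * b * g) * (g⁻¹ * q * g)⁻¹ * (g⁻¹ * b * g)⁻¹ := by group
  rwa [e]

theorem QR {q r : G} (hq : q ∈ QQ R) (hr : r ∈ R) : q * r = r * q := by
  obtain ⟨w', hw, hR⟩ := k.line₁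
  obtain ⟨B, hB, hB'⟩ := k.QQ_le_UW hw hR hq
  rw [hR] at hr
  obtain ⟨c, rfl⟩ := hr
  have h1 := hB' (c • w')
  rw [ap_smul, hB] at h1
  exact mul_inv_eq_iff_eq_mul.1 h1

theorem QR' (p : Pt M₁) {q r : G} (hq : q ∈ QQ (pt M₁ p)) (hr : r ∈ pt M₁ p) : q * r = r * q := by
  obtain ⟨g, -, h1, -⟩ := k.exists_g p
  have h2 : g⁻¹ * q * g ∈ QQ R := by
    rw [← mem_cj, cj_QQ, h1]; exact hq
  have h3 : g⁻¹ * r * g ∈ R := by
    rw [← mem_cj, h1]; exact hr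
  have h4 := k.QR h2 h3
  calc q * r = g * (g⁻¹ * q * g * (g⁻¹ * r * g)) * g⁻¹ := by group
    _ = g * (g⁻¹ * r * g * (g⁻¹ * q * g)) * g⁻¹ := by rw [h4]
    _ = r * q := by group

theorem ch : Char2 (normalizer (R : Set G)) := k.char R k.toMixedQ.R_pGroup k.toMixedQ.R_ne

/-! ### (1) -/

theorem xQ : x ∈ QQ R :=
  k.ch x (k.T₁R k.xT₁) fun q hq => (k.xc q (k.TT₁ (k.QT hq))).symm

theorem N_le : LL (zpowers x) R R ≤ QQ R ⊓ centralizer (QQ R : Set G) := by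
  have h1 : zpowers x ≤ QQ R ⊓ centralizer (QQ R : Set G) := by
    rw [zpowers_le]
    exact ⟨k.xQ, mem_centralizer_iff.2 fun q hq => k.xc q (k.TT₁ (k.QT hq))⟩
  refine Mix.LL_le fun g hg => ?_
  have h2 : cj g (QQ R) = QQ R := by rw [cj_QQ, hg]
  have h3 := cj_mono (g := g) h1
  rwa [cj_inf, ← centralizer_cj, h2] at h3

theorem U_N_R {y : G} (hy : y ∈ UX x) (hN : ∀ n ∈ LL (zpowers x) R R, y * n = n * y) : y ∈ QQ R := by
  set N := LL (zpowers x) R R with hNdef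
  set C := normalizer (R : Set G) ⊓ centralizer (N : Set G) with hC
  have hxN : x ∈ N := cj_le_LL (cj_one R) (by rw [cj_one]; exact mem_zpowers x)
  have hyR : y ∈ normalizer (R : Set G) := by
    apply centralizer_le_normalizer
    rw [mem_centralizer_iff]
    intro r hr
    exact mem_centralizer_iff.1 hy.2 r (k.VU (k.toMixedQ.RV hr))
  have hyC : y ∈ C := ⟨hyR, mem_centralizer_iff.2 fun n hn => (hN n hn).symm⟩
  have h1 : UX x ⊓ C ≤ O2 C := by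
    refine le_O2_of_normal inf_le_right ((O2_isPGroup _).to_le (inf_le_left.trans inf_le_left)) ?_
    rintro g hg a ⟨ha, haC⟩
    refine ⟨UX_conj ?_ ha, C.mul_mem (C.mul_mem hg haC) (C.inv_mem hg)⟩
    exact (mem_centralizer_iff.1 hg.2 x hxN).symm
  have hCn : normalizer (R : Set G) ≤ normalizer (C : Set G) := by
    intro g hg
    rw [← cj_eq_self_iff, hC, cj_inf, ← centralizer_cj, cj_eq_self_iff.2 (normalizer_le_LL (zpowers x) R R hg),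
      cj_of_mem hg]
  have h2 : O2 C ≤ QQ R := by
    refine le_O2_of_normal ((O2_le _).trans inf_le_left) (O2_isPGroup _) ?_
    intro g hg a ha
    have h3 : cj g (O2 C) = O2 C := by rw [cj_O2, cj_eq_self_iff.2 (hCn hg)]
    rw [← h3]
    exact conj_mem_cj ha
  exact h2 (h1 ⟨hy, hyC⟩)

theorem U_N (p : Pt M₁) {y : G} (hy : y ∈ UX x) (hN : ∀ n ∈ LL (zpowers x) R (pt M₁ p), y * n = n * y) :
    y ∈ QQ (pt M₁ p) := by
  obtain ⟨g, h0, h1, -⟩ := k.exists_g p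
  rw [← h1, ← cj_QQ, mem_cj]
  refine k.U_N_R (UX_conj' h0 hy) fun n hn => ?_
  have h2 : g * n * g⁻¹ ∈ LL (zpowers x) R (pt M₁ p) := by
    rw [← cj_LL h1]; exact conj_mem_cj hn
  have h3 := hN _ h2
  calc g⁻¹ * y * g * n = g⁻¹ * (y * (g * n * g⁻¹)) * g := by group
    _ = g⁻¹ * (g * n * g⁻¹ * y) * g := by rw [h3]
    _ = n * (g⁻¹ * y * g) := by group

theorem N_le' (p : Pt M₁) : LL (zpowers x) R (pt M₁ p) ≤ QQ (pt M₁ p) ⊓ centralizer (QQ (pt M₁ p) : Set G) := by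
  obtain ⟨g, h0, h1, -⟩ := k.exists_g p
  have h2 := cj_mono (g := g) k.N_le
  rwa [cj_LL h1, cj_inf, ← centralizer_cj, cj_QQ, h1] at h2

/-! ### (2) -/

theorem V_le_U : V₁ ≤ UX x := fun v hv => mem_inf.2 ⟨k.VU hv, mem_centralizer_iff.2 fun _ hy =>
  (mem_centralizer_iff.1 (k.UV hy) v hv).symm⟩

theorem V'_le_U : cj w V₁ ≤ UX x := by
  rw [cj_le_iff]
  exact fun v hv => UX_conj (k.xc w k.wT₁) (k.V_le_U hv)

theorem VV' {v a : G} (hv : v ∈ V₁) (ha : a ∈ cj w V₁) : v * a = a * v := UX_comm (k.V_le_U hv) (k.V'_le_U ha)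

theorem cjR : cj w R = R := cj_eq_self_iff.2 (k.T₁R k.wT₁)

theorem cjT : cj w T = T := cj_eq_self_iff.2 (k.nT k.wT₁)

theorem cjQ : cj w (QQ R) = QQ R := by rw [cj_QQ, k.cjR]

theorem two_pow {t : G} (ht : t ∈ T) : ∃ n : ℕ, t ^ 2 ^ n = 1 := by
  obtain ⟨n, hn⟩ := (T₁.isPGroup'.to_le k.TT₁) ⟨t, ht⟩
  exact ⟨n, congrArg Subtype.val hn⟩

/-- an element of `T` which centralises `R` acts on `V₁` as an element of `W₂(R)` -/
theorem T_UW {t : G} (ht : t ∈ T) (hR : ∀ r ∈ R, t * r = r * t) {u : Fin 2 → F₁} (hu : u ≠ 0) (hRu : R = M₁.line u) :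
    t ∈ M₁.UW u := by
  obtain ⟨n, hn⟩ := k.two_pow ht
  exact mem_UW_of_two M₁ hu (k.TN ht) hn fun r hr => hR r (by rw [hRu]; exact hr)

theorem T_comm_V {t v : G} (ht : t ∈ T) (hR : ∀ r ∈ R, t * r = r * t) (hv : v ∈ V₁) : t * v * t⁻¹ * v⁻¹ ∈ R := by
  obtain ⟨u, hu, hRu⟩ := k.line₁
  have h1 := M₁.comm_UW hu (k.T_UW ht hR hu hRu) hv
  rwa [← hRu] at h1

theorem T_comm {t a : G} (ht : t ∈ T) (hV : ∀ v ∈ V₁, t * v = v * t) (ha : a ∈ cj w V₁) :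
    t * a * t⁻¹ * a⁻¹ ∈ R := by
  have h1 : w⁻¹ * t * w ∈ T := by rw [← mem_cj, k.cjT]; exact ht
  have h2 : ∀ r ∈ R, w⁻¹ * t * w * r = r * (w⁻¹ * t * w) := by
    intro r hr
    have h3 : w * r * w⁻¹ ∈ R := by rw [← k.cjR]; exact conj_mem_cj hr
    have h4 := hV _ (k.toMixedQ.RV h3)
    calc w⁻¹ * t * w * r = w⁻¹ * (t * (w * r * w⁻¹)) * w := by group
      _ = w⁻¹ * (w * r * w⁻¹ * t) * w := by rw [h4]
      _ = r * (w⁻¹ * t * w) := by group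
  have h3 := k.T_comm_V h1 h2 (mem_cj.1 ha)
  have h4 : w * (w⁻¹ * t * w * (w⁻¹ * a * w) * (w⁻¹ * t * w)⁻¹ * (w⁻¹ * a * w)⁻¹) * w⁻¹ ∈ R := by
    rw [← k.cjR]; exact conj_mem_cj h3
  have e : w * (w⁻¹ * t * w * (w⁻¹ * a * w) * (w⁻¹ * t * w)⁻¹ * (w⁻¹ * a * w)⁻¹) * w⁻¹ = t * a * t⁻¹ * a⁻¹ := by
    group
  rwa [e] at h4

theorem le_T {K : Subgroup G} (h1 : K ≤ centralizer (V₁ : Set G)) (h2 : IsPGroup 2 K)
    (h3 : centralizer (V₁ : Set G) ≤ normalizer (K : Set G)) : K ≤ T :=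
  (le_O2_of_normal h1 h2 fun _ hg _ ha => conj_mem_of_normalizer (h3 hg) ha).trans k.OT

/-- **(2)** -/
theorem V'_le_Q (p : Pt M₁) : cj w V₁ ≤ QQ (pt M₁ p) := by
  by_cases hp : pt M₁ p = R
  · rw [hp]
    have := cj_mono (g := w) k.toMixedQ.V_le_QQ
    rwa [k.cjQ] at this
  obtain ⟨i, hi⟩ := k.exists_i
  have hip : i ≠ p := by
    rintro rfl
    exact hp hi
  set N := LL (zpowers x) R (pt M₁ p) with hN
  have hNZ := k.N_le' p
  have hNV : N ≤ centralizer (V₁ : Set G) := by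
    intro n hn
    rw [mem_centralizer_iff]
    intro v hv
    exact mem_centralizer_iff.1 (hNZ hn).2 v (k.V_le_QQ' p hv)
  have hcN : centralizer (V₁ : Set G) ≤ normalizer (N : Set G) :=
    (k.cV_le p).trans (normalizer_le_LL (zpowers x) R (pt M₁ p))
  have hNT : N ≤ T := k.le_T hNV ((O2_isPGroup _).to_le (hNZ.trans inf_le_left)) hcN
  intro a ha
  refine k.U_N p (k.V'_le_U ha) fun n hn => ?_
  have hnV : ∀ v ∈ V₁, n * v = v * n := fun v hv => (mem_centralizer_iff.1 (hNV hn) v hv).symm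
  have h1 := k.T_comm (hNT hn) hnV ha
  have haV : a ∈ centralizer (V₁ : Set G) := mem_centralizer_iff.2 fun v hv => k.VV' hv ha
  have h2 : n * a * n⁻¹ * a⁻¹ ∈ N := by
    have h3 := conj_mem_of_normalizer (hcN haV) (inv_mem hn)
    have e : n * a * n⁻¹ * a⁻¹ = n * (a * n⁻¹ * a⁻¹) := by group
    rw [e]
    exact mul_mem hn h3
  have h3 : n * a * n⁻¹ * a⁻¹ ∈ pt M₁ p := by
    refine k.sideW.VB p _ (k.toMixedQ.RV h1) fun b hb => ?_
    exact mem_centralizer_iff.1 (hNZ h2).2 b (k.B_le_QQ p hb)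
  have h4 : n * a * n⁻¹ * a⁻¹ ∈ pt M₁ i ⊓ pt M₁ p := ⟨by rw [hi]; exact h1, h3⟩
  rw [k.sideW.R_inf i p hip, mem_bot] at h4
  exact (comm_of_eq_one h4).symm

/-! ### (3) -/

theorem V'_B (p : Pt M₁) {a b : G} (ha : a ∈ cj w V₁) (hb : b ∈ LL V₂ R (pt M₁ p)) :
    a * b * a⁻¹ * b⁻¹ ∈ pt M₁ p := k.QB p (k.V'_le_Q p ha) hb

theorem TT_le_T (p : Pt M₁) : TT V₁ (LL V₂ R (pt M₁ p)) ≤ T := by
  refine k.le_T inf_le_right (((O2_isPGroup _).to_le (k.B_le_QQ p)).to_le inf_le_left) ?_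
  intro g hg
  rw [← cj_eq_self_iff, TT, cj_inf, cj_eq_self_iff.2 (normalizer_le_LL V₂ R (pt M₁ p) (k.cV_le p hg)), cj_of_mem hg]

theorem V'_TT (p : Pt M₁) {a t : G} (ha : a ∈ cj w V₁) (ht : t ∈ TT V₁ (LL V₂ R (pt M₁ p))) : t * a = a * t := by
  have key : ∀ p : Pt M₁, pt M₁ p ≠ R → ∀ a ∈ cj w V₁, ∀ t ∈ TT V₁ (LL V₂ R (pt M₁ p)), t * a = a * t := by
    intro p hp a ha t ht
    obtain ⟨i, hi⟩ := k.exists_i
    have hip : i ≠ p := by
      rintro rfl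
      exact hp hi
    have h1 := k.T_comm (k.TT_le_T p ht) (mem_TT.1 ht).2 ha
    have h2 : t * a * t⁻¹ * a⁻¹ ∈ pt M₁ p := by
      have h3 := inv_mem (k.V'_B p ha ht.1)
      have e : (a * t * a⁻¹ * t⁻¹)⁻¹ = t * a * t⁻¹ * a⁻¹ := by group
      rwa [e] at h3
    have h4 : t * a * t⁻¹ * a⁻¹ ∈ pt M₁ i ⊓ pt M₁ p := ⟨by rw [hi]; exact h1, h2⟩
    rw [k.sideW.R_inf i p hip, mem_bot] at h4
    exact comm_of_eq_one h4
  by_cases hp : pt M₁ p = R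
  · obtain ⟨m, hmp, -⟩ := k.sideW.third p p
    obtain ⟨l, hlp, hlm⟩ := k.sideW.third p m
    obtain ⟨b, hb, hbl⟩ := k.sideW.trans m p l (Ne.symm hmp) hlm
    have hbV : cj b V₁ = V₁ := cj_eq_self_iff.2 (k.sideW.B_NV m hb)
    have h1 : b * t * b⁻¹ ∈ TT V₁ (LL V₂ R (pt M₁ l)) := by
      rw [← k.sideW.cj_T (cj_eq_self_iff.1 hbV) hbl]
      exact conj_mem_cj ht
    have hl : pt M₁ l ≠ R := by
      rw [← hp]
      intro h
      exact hlp (k.sideW.R_index h)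
    have h2 := k.V'_B m ha hb
    have h3 : (a * b * a⁻¹ * b⁻¹)⁻¹ ∈ V₁ := inv_mem (k.sideW.R_V m h2)
    have h4 := (mem_TT.1 h1).2 _ h3
    have h5 := key l hl a ha _ h1
    have e : b * a * b⁻¹ = (a * b * a⁻¹ * b⁻¹)⁻¹ * a := by group
    have h6 : b * t * b⁻¹ * (b * a * b⁻¹) = b * a * b⁻¹ * (b * t * b⁻¹) := by
      rw [e, ← mul_assoc, h4, mul_assoc, h5, ← mul_assoc]
    calc t * a = b⁻¹ * (b * t * b⁻¹ * (b * a * b⁻¹)) * b := by group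
      _ = b⁻¹ * (b * a * b⁻¹ * (b * t * b⁻¹)) * b := by rw [h6]
      _ = a * t := by group
  · exact key p hp a ha t ht

/-! ### (4), (5) -/

theorem dec_p (p : Pt M₁) {q : G} (hq : q ∈ QQ (pt M₁ p))
    (hqT : ∀ t ∈ TT V₁ (LL V₂ R (pt M₁ p)), q * t = t * q) :
    ∃ v ∈ V₁, ∀ b ∈ LL V₂ R (pt M₁ p), b * (v * q) = v * q * b := by
  obtain ⟨g, -, h1, h2⟩ := k.exists_g p
  have h3 : g⁻¹ * q * g ∈ QQ R := by
    rw [← mem_cj, cj_QQ, h1]; exact hq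
  have h4 : ∀ t ∈ TT V₁ (LL V₂ R R), g⁻¹ * q * g * t = t * (g⁻¹ * q * g) := by
    intro t ht
    have h5 : g * t * g⁻¹ ∈ TT V₁ (LL V₂ R (pt M₁ p)) := by
      rw [← cj_TT h2 (cj_LL h1)]
      exact conj_mem_cj ht
    have h6 := hqT _ h5
    calc g⁻¹ * q * g * t = g⁻¹ * (q * (g * t * g⁻¹)) * g := by group
      _ = g⁻¹ * (g * t * g⁻¹ * q) * g := by rw [h6]
      _ = t * (g⁻¹ * q * g) := by group
  obtain ⟨v, hv, h5⟩ := k.dec h3 h4
  refine ⟨g * v * g⁻¹, by rw [← h2]; exact conj_mem_cj hv, fun b hb => ?_⟩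
  have h6 : g⁻¹ * b * g ∈ LL V₂ R R := by
    rw [← mem_cj, cj_LL h1]; exact hb
  have h7 := h5 _ h6
  calc b * (g * v * g⁻¹ * q) = g * (g⁻¹ * b * g * (v * (g⁻¹ * q * g))) * g⁻¹ := by group
    _ = g * (v * (g⁻¹ * q * g) * (g⁻¹ * b * g)) * g⁻¹ := by rw [h7]
    _ = g * v * g⁻¹ * q * b := by group

omit k in
theorem R_sup {i j : Pt M₁} (hij : i ≠ j) {v : G} (hv : v ∈ V₁) : ∃ r ∈ pt M₁ i, ∃ r' ∈ pt M₁ j, v = r * r' := by
  obtain ⟨_, a, ha, rfl⟩ := i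
  obtain ⟨_, b, hb, rfl⟩ := j
  have h1 : dt a b ≠ 0 := by
    intro h
    apply hij
    apply Subtype.ext
    exact ((line_eq_iff_dt M₁ ha hb).2 h).symm
  obtain ⟨y, rfl⟩ := (M₁.mem_iff v).1 hv
  obtain ⟨c, d, rfl⟩ := exists_comb h1 y
  exact ⟨_, ⟨c, rfl⟩, _, ⟨d, rfl⟩, M₁.e_add _ _⟩

/-- **(5)** `V' ≤ V₁ C(X)` -/
theorem exists_f {a : G} (ha : a ∈ cj w V₁) :
    ∃ v ∈ V₁, ∀ p, ∀ b ∈ LL V₂ R (pt M₁ p), b * (v * a) = v * a * b := by
  obtain ⟨i, hi⟩ := k.exists_i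
  obtain ⟨j, hji, -⟩ := k.sideW.third i i
  obtain ⟨v₁, hv₁, h1⟩ := k.dec_p i (k.V'_le_Q i ha) fun t ht => (k.V'_TT i ha ht).symm
  obtain ⟨v₂, hv₂, h2⟩ := k.dec_p j (q := v₁ * a) (mul_mem (k.V_le_QQ' j hv₁) (k.V'_le_Q j ha)) fun t ht => by
    rw [mul_assoc, ← k.V'_TT j ha ht, ← mul_assoc, ← (mem_TT.1 ht).2 v₁ hv₁, mul_assoc]
  obtain ⟨r, hr, r', hr', rfl⟩ := R_sup (Ne.symm hji) hv₂
  have hrV := k.sideW.R_V i hr
  have hr'V := k.sideW.R_V j hr'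
  have hrr' : r * r' = r' * r := M₁.comm hrV hr'V
  refine ⟨r * v₁, mul_mem hrV hv₁, ?_⟩
  have h3 : ∀ b ∈ LL V₂ R (pt M₁ i), b * (r * v₁ * a) = r * v₁ * a * b := by
    intro b hb
    have h4 : b * r = r * b := k.QR' i (k.B_le_QQ i hb) hr
    have h5 := h1 b hb
    calc b * (r * v₁ * a) = b * r * (v₁ * a) := by group
      _ = r * (b * (v₁ * a)) := by rw [h4]; group
      _ = r * v₁ * a * b := by rw [h5]; group
  have h4 : ∀ b ∈ LL V₂ R (pt M₁ j), b * (r * v₁ * a) = r * v₁ * a * b := by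
    intro b hb
    have h4 : b * r'⁻¹ = r'⁻¹ * b := k.QR' j (k.B_le_QQ j hb) (inv_mem hr')
    have h5 := h2 b hb
    have e : r * v₁ * a = r'⁻¹ * (r * r' * (v₁ * a)) := by rw [hrr']; group
    rw [e]
    calc b * (r'⁻¹ * (r * r' * (v₁ * a))) = b * r'⁻¹ * (r * r' * (v₁ * a)) := by group
      _ = r'⁻¹ * (b * (r * r' * (v₁ * a))) := by rw [h4]; group
      _ = r'⁻¹ * (r * r' * (v₁ * a)) * b := by rw [h5]; group
  exact fun p b hb => k.sideW.comm_all (Ne.symm hji) h3 h4 p b hb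

/-- **(6)** `C_T(V₁)` centralises `V'` -/
theorem T_V' {t a : G} (ht : t ∈ T) (hV : ∀ v ∈ V₁, t * v = v * t) (ha : a ∈ cj w V₁) : t * a = a * t := by
  obtain ⟨i, hi⟩ := k.exists_i
  obtain ⟨j, hji, -⟩ := k.sideW.third i i
  obtain ⟨v, hv, h1⟩ := k.exists_f ha
  have h2 := k.T_comm ht hV ha
  have htc : t ∈ centralizer (V₁ : Set G) := mem_centralizer_iff.2 fun v hv => (hV v hv).symm
  -- `[t, v a] = [t, a]`
  have e1 : t * (v * a) * t⁻¹ * (v * a)⁻¹ = t * a * t⁻¹ * a⁻¹ := by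
    have h3 := M₁.comm hv (k.toMixedQ.RV h2)
    calc t * (v * a) * t⁻¹ * (v * a)⁻¹ = (t * v) * a * t⁻¹ * a⁻¹ * v⁻¹ := by group
      _ = v * (t * a * t⁻¹ * a⁻¹) * v⁻¹ := by rw [hV v hv]; group
      _ = t * a * t⁻¹ * a⁻¹ := by rw [h3, mul_inv_cancel_right]
  have h3 : ∀ p, ∀ b ∈ LL V₂ R (pt M₁ p), b * (t * a * t⁻¹ * a⁻¹) = t * a * t⁻¹ * a⁻¹ * b := by
    intro p b hb
    have h4 : t⁻¹ * b * t ∈ LL V₂ R (pt M₁ p) :=
      conj_inv_mem_of_normalizer (normalizer_le_LL V₂ R (pt M₁ p) (k.cV_le p htc)) hb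
    have h5 := h1 p _ h4
    have h6 := h1 p b hb
    have h7 : b * (t * (v * a) * t⁻¹) = t * (v * a) * t⁻¹ * b := by
      calc b * (t * (v * a) * t⁻¹) = t * (t⁻¹ * b * t * (v * a)) * t⁻¹ := by group
        _ = t * (v * a * (t⁻¹ * b * t)) * t⁻¹ := by rw [h5]
        _ = t * (v * a) * t⁻¹ * b := by group
    have h8 : b * (v * a)⁻¹ = (v * a)⁻¹ * b := by
      rw [mul_inv_eq_iff_eq_mul, mul_assoc, h6, inv_mul_cancel_left]
    rw [← e1]
    calc b * (t * (v * a) * t⁻¹ * (v * a)⁻¹) = b * (t * (v * a) * t⁻¹) * (v * a)⁻¹ := by group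
      _ = t * (v * a) * t⁻¹ * (b * (v * a)⁻¹) := by rw [h7]; group
      _ = t * (v * a) * t⁻¹ * (v * a)⁻¹ * b := by rw [h8]; group
  have h4 : t * a * t⁻¹ * a⁻¹ ∈ pt M₁ i ⊓ pt M₁ j :=
    ⟨by rw [hi]; exact h2, k.sideW.VB j _ (k.toMixedQ.RV h2) (h3 j)⟩
  rw [k.sideW.R_inf i j (Ne.symm hji), mem_bot] at h4
  exact comm_of_eq_one h4

end Kill

end Cfsg.Agent.Omega.IId.MQ

end

section


/-!
# WrCv, mixed partners, CASE 2: (2a) is impossible for `q ≥ 4`, END (helper330)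

`Kill.norm : Kill M₁ M₂ R T T₁ w x → w ∈ N_G(V₁)`.
-/

set_option autoImplicit false
set_option linter.unusedSectionVars false

namespace Cfsg.Agent.Omega.IId.MQ

open Subgroup Cfsg.Agent.Lib.SL2Mat Cfsg.Agent.Omega.BTwo Cfsg.Agent.Omega.Mix Cfsg.Agent.Omega.MixOne
open Cfsg.Agent.Omega.NatPair (dt dt_add dt_smul exists_smul_of_dt exists_comb ap ap_smul ap_add ap_zero' ap_one'
  ap_mul ap_inv_ap ap_ap_inv ap_one exists_ap exists_ap_e ap_up_e ext2)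

variable {G : Type*} [Group G]

/-! ### General lemmas -/

/-- the elements of `N(A) ∩ N(B)` with `[A, g] ≤ B` -/
def St (A B : Subgroup G) : Subgroup G where
  carrier := {g | g ∈ normalizer (A : Set G) ∧ g ∈ normalizer (B : Set G) ∧ ∀ y ∈ A, g * y * g⁻¹ * y⁻¹ ∈ B}
  one_mem' := ⟨one_mem _, one_mem _, fun y _ => by
    have e : (1 : G) * y * 1⁻¹ * y⁻¹ = 1 := by group
    rw [e]; exact one_mem _⟩
  mul_mem' := by
    rintro g h ⟨g1, g2, g3⟩ ⟨h1, h2, h3⟩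
    refine ⟨mul_mem g1 h1, mul_mem g2 h2, fun y hy => ?_⟩
    have e : g * h * y * (g * h)⁻¹ * y⁻¹ = g * (h * y * h⁻¹ * y⁻¹) * g⁻¹ * (g * y * g⁻¹ * y⁻¹) := by group
    rw [e]
    exact mul_mem (conj_mem_of_normalizer g2 (h3 y hy)) (g3 y hy)
  inv_mem' := by
    rintro g ⟨g1, g2, g3⟩
    refine ⟨inv_mem g1, inv_mem g2, fun y hy => ?_⟩
    have e : g⁻¹ * y * g⁻¹⁻¹ * y⁻¹ = g⁻¹ * (g * y * g⁻¹ * y⁻¹)⁻¹ * g := by group
    rw [e]
    exact conj_inv_mem_of_normalizer g2 (inv_mem (g3 y hy))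

theorem mem_St {A B : Subgroup G} {g : G} : g ∈ St A B ↔ g ∈ normalizer (A : Set G) ∧ g ∈ normalizer (B : Set G) ∧
    ∀ y ∈ A, g * y * g⁻¹ * y⁻¹ ∈ B := Iff.rfl

theorem St_conj {A B : Subgroup G} {g h : G} (g1 : g ∈ normalizer (A : Set G)) (g2 : g ∈ normalizer (B : Set G))
    (hh : h ∈ St A B) : g * h * g⁻¹ ∈ St A B := by
  obtain ⟨h1, h2, h3⟩ := hh
  refine ⟨mul_mem (mul_mem g1 h1) (inv_mem g1), mul_mem (mul_mem g2 h2) (inv_mem g2), fun y hy => ?_⟩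
  have h4 := conj_mem_of_normalizer g2 (h3 _ (conj_inv_mem_of_normalizer g1 hy))
  have e : g * (h * (g⁻¹ * y * g) * h⁻¹ * (g⁻¹ * y * g)⁻¹) * g⁻¹ = g * h * g⁻¹ * y * (g * h * g⁻¹)⁻¹ * y⁻¹ := by
    group
  rwa [e] at h4

/-- a fixed-point-free `b` on the abelian group `A` : every element is a commutator -/
theorem exists_comm_eq [Finite G] {A : Subgroup G} {b : G}
    (hb : b ∈ normalizer (A : Set G)) (hf : ∀ a ∈ A, b * a = a * b → a = 1) {a : G} (ha : a ∈ A) :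
    ∃ c ∈ A, b * c * b⁻¹ * c⁻¹ = a := by
  let f : A → A := fun c => ⟨b * c * b⁻¹ * (c : G)⁻¹, mul_mem (conj_mem_of_normalizer hb c.2) (inv_mem c.2)⟩
  have hinj : Function.Injective f := by
    rintro ⟨c, hc⟩ ⟨d, hd⟩ h
    have h1 : b * c * b⁻¹ * c⁻¹ = b * d * b⁻¹ * d⁻¹ := congrArg Subtype.val h
    have hbc := conj_mem_of_normalizer hb hc
    have hbd := conj_mem_of_normalizer hb hd
    have h2 : b * (d⁻¹ * c) = d⁻¹ * c * b := by
      have h3 : b * d⁻¹ * b⁻¹ ∈ A := conj_mem_of_normalizer hb (inv_mem hd)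
      have h4 : b * (d⁻¹ * c) * b⁻¹ = d⁻¹ * c := by
        calc b * (d⁻¹ * c) * b⁻¹ = (b * d⁻¹ * b⁻¹) * (b * c * b⁻¹ * c⁻¹) * c := by group
          _ = (b * d⁻¹ * b⁻¹) * (b * d * b⁻¹ * d⁻¹) * c := by rw [h1]
          _ = d⁻¹ * c := by group
      exact mul_inv_eq_iff_eq_mul.1 h4
    have h3 := hf _ (mul_mem (inv_mem hd) hc) h2
    exact Subtype.ext (inv_mul_eq_one.1 h3).symm
  obtain ⟨c, hc⟩ := (Finite.injective_iff_surjective.1 hinj) ⟨a, ha⟩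
  exact ⟨c, c.2, congrArg Subtype.val hc⟩

/-- `X = (T₁ ∩ X) N` if `X / N` is a 2-group -/
theorem exists_mul_of_sylow [Finite G] {X N : Subgroup G} (T₁ : Sylow 2 G)
    (hT : (T₁ : Subgroup G) ≤ normalizer (X : Set G)) (hN : N ≤ X) (hXN : X ≤ normalizer (N : Set G))
    (h2 : ∀ g ∈ X, ∃ n : ℕ, g ^ 2 ^ n ∈ N) {g : G} (hg : g ∈ X) :
    ∃ s ∈ (T₁ : Subgroup G), s ∈ X ∧ ∃ c ∈ N, g = s * c := by
  have : Fact (Nat.Prime 2) := ⟨Nat.prime_two⟩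
  have hodd : Odd (((T₁ : Subgroup G) ⊓ X).relIndex X) := by
    refine M4.odd_rel (H := ⊤) le_top ?_ le_top hT
    rw [relIndex_top_right]
    exact T₁.not_dvd_index
  have hNn : (N.subgroupOf X).Normal := normal_subgroupOf_of_le_normalizer hXN
  have hp : IsPGroup 2 (X ⧸ N.subgroupOf X) := by
    intro q
    obtain ⟨⟨g, hg⟩, rfl⟩ := QuotientGroup.mk_surjective q
    obtain ⟨n, hn⟩ := h2 g hg
    refine ⟨n, ?_⟩
    rw [← QuotientGroup.mk_pow, QuotientGroup.eq_one_iff]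
    exact hn
  obtain ⟨m, hm⟩ := IsPGroup.iff_card.1 hp
  set Y : Subgroup G := ((T₁ : Subgroup G) ⊓ X) ⊔ N with hY
  have hYX : Y ≤ X := sup_le inf_le_right hN
  have h3 : Y.relIndex X ∣ 2 ^ m := by
    rw [← hm]
    exact relIndex_dvd_of_le_left X (le_sup_right : N ≤ Y)
  have h4 : Y.relIndex X ∣ ((T₁ : Subgroup G) ⊓ X).relIndex X :=
    relIndex_dvd_of_le_left X (le_sup_left : (T₁ : Subgroup G) ⊓ X ≤ Y)
  have h5 : Y.relIndex X = 1 := by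
    have h6 : Nat.Coprime (2 ^ m) (((T₁ : Subgroup G) ⊓ X).relIndex X) :=
      Nat.Coprime.pow_left m (Nat.coprime_two_left.2 hodd)
    exact Nat.dvd_one.1 (h6 ▸ Nat.dvd_gcd h3 h4)
  have h7 : g ∈ Y := (relIndex_eq_one.1 h5) hg
  have h8 : ((T₁ : Subgroup G) ⊓ X) ≤ normalizer (N : Set G) := inf_le_right.trans hXN
  rw [hY, ← SetLike.mem_coe, coe_mul_of_left_le_normalizer_right _ _ h8] at h7
  obtain ⟨s, hs, c, hc, rfl⟩ := h7
  exact ⟨s, hs.1, hs.2, c, hc, rfl⟩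

/-! ### The kill -/

namespace Kill

variable {F₁ F₂ : Type*} [Field F₁] [Field F₂] {V₁ V₂ N₁ N₂ : Subgroup G} {M₁ : RMod F₁ V₁ N₁}
  {M₂ : RMod F₂ V₂ N₂} {R T : Subgroup G} {T₁ : Sylow 2 G} {w x : G}
  [Finite G] [Finite F₁] [Finite F₂] [CharP F₁ 2] [CharP F₂ 2] (k : Kill M₁ M₂ R T T₁ w x)

/-- `V₁V'` -/
def PI : Subgroup G := NN V₁ (cj w V₁) fun _ hv _ ha => k.VV' hv ha

/-- `C_{V₁V'}(W₂(R))` -/
def CP : Subgroup G := k.PI ⊓ centralizer (LL V₂ R R : Set G)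

include k

theorem V_le_PI : V₁ ≤ k.PI := fun v hv => ⟨v, hv, 1, one_mem _, (mul_one v).symm⟩

theorem V'_le_PI : cj w V₁ ≤ k.PI := fun a ha => ⟨1, one_mem _, a, ha, (one_mul a).symm⟩

theorem PI_le_U : k.PI ≤ UX x := by
  rintro _ ⟨v, hv, a, ha, rfl⟩
  exact mul_mem (k.V_le_U hv) (k.V'_le_U ha)

theorem PI_comm {y z : G} (hy : y ∈ k.PI) (hz : z ∈ k.PI) : y * z = z * y :=
  UX_comm (k.PI_le_U hy) (k.PI_le_U hz)

theorem PI_sq {y : G} (hy : y ∈ k.PI) : y * y = 1 := by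
  obtain ⟨v, hv, a, ha, rfl⟩ := hy
  have h1 : a * a = 1 := by
    have h2 := M₁.sq (mem_cj.1 ha)
    calc a * a = w * (w⁻¹ * a * w * (w⁻¹ * a * w)) * w⁻¹ := by group
      _ = 1 := by rw [h2]; group
  have h3 := k.VV' hv ha
  calc v * a * (v * a) = v * (a * v) * a := by group
    _ = v * (v * a) * a := by rw [h3]
    _ = v * v * (a * a) := by group
    _ = 1 := by rw [M₁.sq hv, h1, one_mul]

/-- `V₁V' = V₁ × C(X)` -/
theorem dec_PI {y : G} (hy : y ∈ k.PI) : ∃ v ∈ V₁, ∃ f ∈ k.PI,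
    (∀ p, ∀ b ∈ LL V₂ R (pt M₁ p), b * f = f * b) ∧ y = v * f := by
  obtain ⟨v, hv, a, ha, rfl⟩ := hy
  obtain ⟨u, hu, h⟩ := k.exists_f ha
  refine ⟨v * u⁻¹, mul_mem hv (inv_mem hu), u * a, mul_mem (k.V_le_PI hu) (k.V'_le_PI ha), h, by group⟩

theorem NB : normalizer (R : Set G) ≤ normalizer (LL V₂ R R : Set G) := normalizer_le_LL V₂ R R

theorem T_V {t : G} (ht : t ∈ T) : t ∈ normalizer (V₁ : Set G) := M₁.le (k.TN ht)

theorem T_V'n {t : G} (ht : t ∈ T) : t ∈ normalizer (cj w V₁ : Set G) := by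
  have h1 : w⁻¹ * t * w ∈ T := by rw [← mem_cj, k.cjT]; exact ht
  rw [← cj_eq_self_iff, ← cj_mul]
  have e : t * w = w * (w⁻¹ * t * w) := by group
  rw [e, cj_mul, cj_eq_self_iff.2 (k.T_V h1)]

theorem w_V' : cj w (cj w V₁) = V₁ := by
  rw [← cj_mul, cj_eq_self_iff.2 (k.T_V k.ww)]

theorem T_PI {t : G} (ht : t ∈ T) : t ∈ normalizer (k.PI : Set G) := by
  refine mem_normalizer_of_conj ?_
  rintro _ ⟨v, hv, a, ha, rfl⟩
  exact ⟨_, conj_mem_of_normalizer (k.T_V ht) hv, _, conj_mem_of_normalizer (k.T_V'n ht) ha, by group⟩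

theorem w_PI : w ∈ normalizer (k.PI : Set G) := by
  refine mem_normalizer_of_conj ?_
  rintro _ ⟨v, hv, a, ha, rfl⟩
  have h1 : w * a * w⁻¹ ∈ V₁ := by rw [← k.w_V']; exact conj_mem_cj ha
  have h2 : w * v * w⁻¹ ∈ cj w V₁ := conj_mem_cj hv
  refine ⟨_, h1, _, h2, ?_⟩
  rw [k.VV' h1 h2]
  group

theorem T₁_PI : (T₁ : Subgroup G) ≤ normalizer (k.PI : Set G) := by
  intro t ht
  rcases k.cov t ht with h | h
  · exact k.T_PI h
  · have h1 := mul_mem k.w_PI (k.T_PI h)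
    rwa [mul_inv_cancel_left] at h1

theorem B_PI (p : Pt M₁) : LL V₂ R (pt M₁ p) ≤ normalizer (k.PI : Set G) := by
  intro b hb
  refine mem_normalizer_of_conj ?_
  rintro _ ⟨v, hv, a, ha, rfl⟩
  have h1 := conj_mem_of_normalizer (k.sideW.B_NV p hb) hv
  have h2 := k.sideW.R_V p (k.V'_B p ha hb)
  refine ⟨b * v * b⁻¹ * (a * b * a⁻¹ * b⁻¹)⁻¹, mul_mem h1 (inv_mem h2), a, ha, by group⟩

theorem X_PI : (⨆ p, LL V₂ R (pt M₁ p)) ≤ normalizer (k.PI : Set G) := iSup_le k.B_PI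

theorem X_V : (⨆ p, LL V₂ R (pt M₁ p)) ≤ normalizer (V₁ : Set G) := iSup_le k.sideW.B_NV

omit k in
theorem X_f {f : G} (hf : ∀ p, ∀ b ∈ LL V₂ R (pt M₁ p), b * f = f * b) {g : G}
    (hg : g ∈ ⨆ p, LL V₂ R (pt M₁ p)) : g * f = f * g := by
  have h1 : (⨆ p, LL V₂ R (pt M₁ p)) ≤ centralizer ({f} : Set G) :=
    iSup_le fun p b hb => mem_centralizer_singleton_iff.2 (hf p b hb)
  exact mem_centralizer_singleton_iff.1 (h1 hg)

theorem BR (b : G) (hb : b ∈ LL V₂ R R) : ∃ p : Pt M₁, b ∈ LL V₂ R (pt M₁ p) := by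
  obtain ⟨i, hi⟩ := k.exists_i
  exact ⟨i, by rw [hi]; exact hb⟩

theorem f_CP {f : G} (hf : f ∈ k.PI) (h : ∀ p, ∀ b ∈ LL V₂ R (pt M₁ p), b * f = f * b) : f ∈ k.CP := by
  refine ⟨hf, mem_centralizer_iff.2 fun b hb => ?_⟩
  obtain ⟨p, hp⟩ := k.BR b hb
  exact h p b hp

theorem R_CP : R ≤ k.CP := fun _ hr => ⟨k.V_le_PI (k.toMixedQ.RV hr), mem_centralizer_iff.2 fun _ hb =>
  k.QR (k.symm.C_le_QQ hb) hr⟩

/-- an element of `V₁V'` which commutes with one root element is in `C` -/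
theorem mem_CP {e y : G} (he : e ∈ LL V₂ R R) (hne : ∃ v ∈ V₁, e * v ≠ v * e) (hy : y ∈ k.PI) (hc : e * y = y * e) :
    y ∈ k.CP := by
  obtain ⟨u, hu, hRu⟩ := k.line₁
  have a := k.toMixedQ.atR hu hRu
  obtain ⟨v, hv, f, hf, hfB, rfl⟩ := k.dec_PI hy
  obtain ⟨p, hp⟩ := k.BR e he
  have h1 := hfB p e hp
  have h2 : e * v = v * e := by
    have h3 : e * v * f = v * e * f := by
      calc e * v * f = e * (v * f) := by group
        _ = v * f * e := hc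
        _ = v * e * f := by rw [mul_assoc, ← h1, ← mul_assoc]
    exact mul_right_cancel h3
  exact mul_mem (k.R_CP (line_of_comm a he hne hv h2)) (k.f_CP hf hfB)

/-- the elements of `C` are `r f` -/
theorem dec_CP {y : G} (hy : y ∈ k.CP) : ∃ r ∈ R, ∃ f ∈ k.PI,
    (∀ p, ∀ b ∈ LL V₂ R (pt M₁ p), b * f = f * b) ∧ y = r * f := by
  obtain ⟨v, hv, f, hf, hfB, rfl⟩ := k.dec_PI hy.1
  obtain ⟨i, hi⟩ := k.exists_i
  refine ⟨v, ?_, f, hf, hfB, rfl⟩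
  rw [← hi]
  refine k.sideW.VB i v hv fun b hb => ?_
  have hb' : b ∈ LL V₂ R R := by rwa [hi] at hb
  have h1 : b * (v * f) = v * f * b := mem_centralizer_iff.1 hy.2 b hb'
  have h2 := hfB i b hb
  have h3 : b * v * f = v * b * f := by
    calc b * v * f = b * (v * f) := by group
      _ = v * f * b := h1
      _ = v * b * f := by rw [mul_assoc, ← h2, ← mul_assoc]
  exact mul_right_cancel h3

/-- what normalises `V₁V'` and `R` normalises `C` -/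
theorem N_CP {g : G} (h1 : g ∈ normalizer (k.PI : Set G)) (h2 : g ∈ normalizer (R : Set G)) :
    g ∈ normalizer (k.CP : Set G) := by
  rw [← cj_eq_self_iff, CP, cj_inf, ← centralizer_cj, cj_eq_self_iff.2 h1, cj_eq_self_iff.2 (k.NB h2)]

/-- the torus element on `V₁V'` -/
theorem exists_fq_PI {e e' : G} (he : e ∈ LL V₂ R R) (he' : e' ∈ LL V₂ R R) (hne : ∃ v ∈ V₁, e * v ≠ v * e)
    (hne' : ∃ v ∈ V₁, e' * v ≠ v * e') :
    ∃ b ∈ ⨆ i, LL V₂ R (pt M₁ i), b ∈ normalizer (R : Set G) ∧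
      (∀ y ∈ k.PI, e' * (b * y * b⁻¹) * e'⁻¹ * (b * y * b⁻¹)⁻¹ = e * y * e⁻¹ * y⁻¹ ∧
        b * (e * y * e⁻¹ * y⁻¹) * b⁻¹ = e' * y * e'⁻¹ * y⁻¹) ∧
      ((∃ v ∈ V₁, e⁻¹ * e' * v ≠ v * (e⁻¹ * e')) → ∀ v ∈ V₁, b * v = v * b → v = 1) := by
  obtain ⟨u, hu, hRu⟩ := k.line₁
  obtain ⟨b, hb, hbR, h1, h2⟩ := exists_fq (k.toMixedQ.atR hu hRu) he he' hne hne'
  refine ⟨b, hb, hbR, fun y hy => ?_, h2⟩
  obtain ⟨v, hv, f, hf, hfB, rfl⟩ := k.dec_PI hy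
  obtain ⟨p, hp⟩ := k.BR e he
  obtain ⟨p', hp'⟩ := k.BR e' he'
  have c1 := hfB p e hp
  have c2 := hfB p' e' hp'
  have c3 : b * f = f * b := X_f hfB hb
  have e1 : e * (v * f) * e⁻¹ * (v * f)⁻¹ = e * v * e⁻¹ * v⁻¹ := by
    have : f * e⁻¹ * f⁻¹ = e⁻¹ := by
      rw [mul_inv_eq_iff_eq_mul, eq_inv_mul_iff_mul_eq, ← mul_assoc, c1, mul_inv_cancel_right]
    calc e * (v * f) * e⁻¹ * (v * f)⁻¹ = e * v * (f * e⁻¹ * f⁻¹) * v⁻¹ := by group
      _ = e * v * e⁻¹ * v⁻¹ := by rw [this]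
  have e2 : e' * (v * f) * e'⁻¹ * (v * f)⁻¹ = e' * v * e'⁻¹ * v⁻¹ := by
    have : f * e'⁻¹ * f⁻¹ = e'⁻¹ := by
      rw [mul_inv_eq_iff_eq_mul, eq_inv_mul_iff_mul_eq, ← mul_assoc, c2, mul_inv_cancel_right]
    calc e' * (v * f) * e'⁻¹ * (v * f)⁻¹ = e' * v * (f * e'⁻¹ * f⁻¹) * v⁻¹ := by group
      _ = e' * v * e'⁻¹ * v⁻¹ := by rw [this]
  have e3 : b * (v * f) * b⁻¹ = b * v * b⁻¹ * f := by
    have : f * b⁻¹ = b⁻¹ * f := by
      rw [eq_inv_mul_iff_mul_eq, ← mul_assoc, c3, mul_inv_cancel_right]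
    calc b * (v * f) * b⁻¹ = b * v * (f * b⁻¹) := by group
      _ = b * v * b⁻¹ * f := by rw [this]; group
  have e4 : e' * (b * v * b⁻¹ * f) * e'⁻¹ * (b * v * b⁻¹ * f)⁻¹ =
      e' * (b * v * b⁻¹) * e'⁻¹ * (b * v * b⁻¹)⁻¹ := by
    have : f * e'⁻¹ * f⁻¹ = e'⁻¹ := by
      rw [mul_inv_eq_iff_eq_mul, eq_inv_mul_iff_mul_eq, ← mul_assoc, c2, mul_inv_cancel_right]
    calc e' * (b * v * b⁻¹ * f) * e'⁻¹ * (b * v * b⁻¹ * f)⁻¹ =
        e' * (b * v * b⁻¹) * (f * e'⁻¹ * f⁻¹) * (b * v * b⁻¹)⁻¹ := by group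
      _ = _ := by rw [this]
  rw [e3, e4, e1, e2]
  exact h1 v hv

/-- `w⁻¹ e w` moves `V₁` if `e` does -/
theorem move_conj {e : G} (he : e ∈ LL V₂ R R) (hne : ∃ v ∈ V₁, e * v ≠ v * e) :
    ∃ v ∈ V₁, w⁻¹ * e * w * v ≠ v * (w⁻¹ * e * w) := by
  by_contra hcon
  push Not at hcon
  obtain ⟨i, hi⟩ := k.exists_i
  have hwB : cj w (LL V₂ R R) = LL V₂ R R := cj_eq_self_iff.2 (k.NB (k.T₁R k.wT₁))
  have h1 : w⁻¹ * e * w ∈ TT V₁ (LL V₂ R (pt M₁ i)) := by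
    rw [mem_TT, hi]
    refine ⟨?_, hcon⟩
    rw [← mem_cj, hwB]
    exact he
  -- it commutes with `V' = V₁^w`, so `e` commutes with `V₁^{w²} = V₁`
  obtain ⟨v, hv, hev⟩ := hne
  apply hev
  have h2 : w⁻¹ * v * w ∈ cj w V₁ := by
    have h3 : v ∈ cj w (cj w V₁) := by rw [k.w_V']; exact hv
    exact mem_cj.1 h3
  have h3 := k.V'_TT i h2 h1
  calc e * v = w * (w⁻¹ * e * w * (w⁻¹ * v * w)) * w⁻¹ := by group
    _ = w * (w⁻¹ * v * w * (w⁻¹ * e * w)) * w⁻¹ := by rw [h3]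
    _ = v * e := by group

/-- **the kill** -/
theorem norm : cj w V₁ = V₁ := by
  by_contra hne0
  obtain ⟨u, hu, hRu⟩ := k.line₁
  have a := k.toMixedQ.atR hu hRu
  obtain ⟨c, hc0, hc1⟩ := exists_ne_zero_one k.q4
  obtain ⟨e, he, e', he', m1, m2, m3⟩ := exists_ee a hc0 hc1
  have hwR := k.T₁R k.wT₁
  have hwB : cj w (LL V₂ R R) = LL V₂ R R := cj_eq_self_iff.2 (k.NB hwR)
  have hwe : w⁻¹ * e * w ∈ LL V₂ R R := by rw [← mem_cj, hwB]; exact he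
  have hwe' : w⁻¹ * e' * w ∈ LL V₂ R R := by rw [← mem_cj, hwB]; exact he'
  obtain ⟨b, hb, hbR, p1, p2⟩ := k.exists_fq_PI he he' m1 m2
  obtain ⟨b₂, hb₂, hb₂R, q1, q2⟩ := k.exists_fq_PI hwe hwe' (k.move_conj he m1) (k.move_conj he' m2)
  have hbf := p2 m3
  have hb₂f := q2 (by
    obtain ⟨v, hv, h⟩ := k.move_conj (mul_mem (inv_mem he) he') m3
    refine ⟨v, hv, ?_⟩
    have e1 : (w⁻¹ * e * w)⁻¹ * (w⁻¹ * e' * w) = w⁻¹ * (e⁻¹ * e') * w := by group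
    rwa [e1])
  have hbPI : b ∈ normalizer (k.PI : Set G) := k.X_PI hb
  have hb₂PI : b₂ ∈ normalizer (k.PI : Set G) := k.X_PI hb₂
  have hbV : b ∈ normalizer (V₁ : Set G) := k.X_V hb
  have hb₂V : b₂ ∈ normalizer (V₁ : Set G) := k.X_V hb₂
  set b' := w * b₂ * w⁻¹ with hb'
  have hwPI := k.w_PI
  have hb'PI : b' ∈ normalizer (k.PI : Set G) := mul_mem (mul_mem hwPI hb₂PI) (inv_mem hwPI)
  have hb'R : b' ∈ normalizer (R : Set G) := mul_mem (mul_mem hwR hb₂R) (inv_mem hwR)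
  have r1 : ∀ y ∈ k.PI, e' * (b' * y * b'⁻¹) * e'⁻¹ * (b' * y * b'⁻¹)⁻¹ = e * y * e⁻¹ * y⁻¹ ∧
      b' * (e * y * e⁻¹ * y⁻¹) * b'⁻¹ = e' * y * e'⁻¹ * y⁻¹ := by
    intro y hy
    obtain ⟨h1, h2⟩ := q1 _ (conj_inv_mem_of_normalizer hwPI hy)
    constructor
    · calc e' * (b' * y * b'⁻¹) * e'⁻¹ * (b' * y * b'⁻¹)⁻¹ =
          w * (w⁻¹ * e' * w * (b₂ * (w⁻¹ * y * w) * b₂⁻¹) * (w⁻¹ * e' * w)⁻¹ * (b₂ * (w⁻¹ * y * w) * b₂⁻¹)⁻¹) *
            w⁻¹ := by rw [hb']; group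
        _ = e * y * e⁻¹ * y⁻¹ := by rw [h1]; group
    · calc b' * (e * y * e⁻¹ * y⁻¹) * b'⁻¹ =
          w * (b₂ * (w⁻¹ * e * w * (w⁻¹ * y * w) * (w⁻¹ * e * w)⁻¹ * (w⁻¹ * y * w)⁻¹) * b₂⁻¹) * w⁻¹ := by
            rw [hb']; group
        _ = e' * y * e'⁻¹ * y⁻¹ := by rw [h2]; group
  have hbC := k.N_CP hbPI hbR
  have hb'C := k.N_CP hb'PI hb'R
  have hwC := k.N_CP hwPI hwR
  -- `[C, b] ≤ R`
  have cst : ∀ g ∈ ⨆ i, LL V₂ R (pt M₁ i), g ∈ normalizer (k.PI : Set G) → g ∈ normalizer (R : Set G) →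
      g ∈ St k.CP R := by
    intro g hg h1 h2
    refine ⟨k.N_CP h1 h2, h2, fun y hy => ?_⟩
    obtain ⟨r, hr, f, hf, hfB, rfl⟩ := k.dec_CP hy
    have h3 : g * f = f * g := X_f hfB hg
    have h4 : f * g⁻¹ * f⁻¹ = g⁻¹ := by
      rw [mul_inv_eq_iff_eq_mul, eq_inv_mul_iff_mul_eq, ← mul_assoc, h3, mul_inv_cancel_right]
    have e1 : g * (r * f) * g⁻¹ * (r * f)⁻¹ = g * r * g⁻¹ * r⁻¹ := by
      calc g * (r * f) * g⁻¹ * (r * f)⁻¹ = g * r * (f * g⁻¹ * f⁻¹) * r⁻¹ := by group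
        _ = g * r * g⁻¹ * r⁻¹ := by rw [h4]
    rw [e1]
    exact mul_mem (conj_mem_of_normalizer h2 hr) (inv_mem hr)
  have s1 := cst b hb hbPI hbR
  have s2 : b' ∈ St k.CP R := St_conj hwC hwR (cst b₂ hb₂ hb₂PI hb₂R)
  -- `δ`
  set Sg : Subgroup G := St k.PI k.CP ⊓ St k.CP R ⊓ centralizer (R : Set G) with hSg
  set δ := b⁻¹ * b' with hδ
  have hδS : δ ∈ Sg := by
    refine ⟨⟨⟨mul_mem (inv_mem hbPI) hb'PI, mul_mem (inv_mem hbC) hb'C, fun y hy => ?_⟩,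
      (St k.CP R).mul_mem ((St k.CP R).inv_mem s1) s2⟩, mem_centralizer_iff.2 fun r hr => ?_⟩
    · -- `[V₁V', δ] ≤ C`
      have h1 : (b * y * b⁻¹)⁻¹ * (b' * y * b'⁻¹) ∈ k.CP := by
        have h2 := conj_mem_of_normalizer hbPI hy
        have h3 := conj_mem_of_normalizer hb'PI hy
        refine k.mem_CP he' m2 (mul_mem (inv_mem h2) h3) ?_
        have h4 := (p1 y hy).1.trans (r1 y hy).1.symm
        set y₁ := b * y * b⁻¹
        set y₂ := b' * y * b'⁻¹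
        -- `e' y₁ e'⁻¹ y₁⁻¹ = e' y₂ e'⁻¹ y₂⁻¹`
        have h5 : e' * (y₁⁻¹ * y₂) * e'⁻¹ = y₁⁻¹ * y₂ := by
          have h6 : e' * y₂ * e'⁻¹ = e' * y₁ * e'⁻¹ * y₁⁻¹ * y₂ := by rw [h4]; group
          have h7 : e' * y₁⁻¹ * e'⁻¹ = (e' * y₁ * e'⁻¹)⁻¹ := by group
          calc e' * (y₁⁻¹ * y₂) * e'⁻¹ = (e' * y₁⁻¹ * e'⁻¹) * (e' * y₂ * e'⁻¹) := by group
            _ = y₁⁻¹ * y₂ := by rw [h6, h7]; group
        exact mul_inv_eq_iff_eq_mul.1 h5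
      have h2 : (b' * y * b'⁻¹) * (b * y * b⁻¹)⁻¹ ∈ k.CP := by
        rwa [k.PI_comm (conj_mem_of_normalizer hb'PI hy) (inv_mem (conj_mem_of_normalizer hbPI hy))]
      have h3 := conj_inv_mem_of_normalizer hbC h2
      have e1 : b⁻¹ * (b' * y * b'⁻¹ * (b * y * b⁻¹)⁻¹) * b = δ * y * δ⁻¹ * y⁻¹ := by
        rw [hδ]; group
      rwa [e1] at h3
    · obtain ⟨v, hv, rfl⟩ := exists_comm_R a he m1 hr
      have h1 := (p1 v (k.V_le_PI hv)).2
      have h2 := (r1 v (k.V_le_PI hv)).2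
      set r := e * v * e⁻¹ * v⁻¹
      have h3 : b' * r * b'⁻¹ = b * r * b⁻¹ := by rw [h1, h2]
      calc r * δ = b⁻¹ * (b * r * b⁻¹) * b' := by rw [hδ]; group
        _ = b⁻¹ * (b' * r * b'⁻¹) * b' := by rw [h3]
        _ = δ * r := by rw [hδ]; group
  -- `J = W₂(R) C(V₁V')`
  set CPI : Subgroup G := centralizer (k.PI : Set G) with hCPI
  set J : Subgroup G := LL V₂ R R ⊔ CPI with hJ
  have hBR : LL V₂ R R ≤ normalizer (R : Set G) := k.symm.C_le_QQ.trans (O2_le _)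
  have hBPI : LL V₂ R R ≤ normalizer (k.PI : Set G) := fun b hb => by
    obtain ⟨p, hp⟩ := k.BR b hb
    exact k.B_PI p hp
  have hBX : LL V₂ R R ≤ ⨆ i, LL V₂ R (pt M₁ i) := fun b hb => by
    obtain ⟨p, hp⟩ := k.BR b hb
    exact le_iSup (fun i => LL V₂ R (pt M₁ i)) p hp
  have hRPI : R ≤ k.PI := (k.toMixedQ.RV).trans k.V_le_PI
  have hCPIV : CPI ≤ St k.PI V₁ := by
    intro g hg
    refine ⟨centralizer_le_normalizer _ hg, centralizer_le_normalizer _ (centralizer_le k.V_le_PI hg),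
      fun y hy => ?_⟩
    have h1 := mem_centralizer_iff.1 hg y hy
    rw [← h1, mul_inv_cancel_right, mul_inv_cancel]
    exact one_mem _
  have stV : ∀ g ∈ ⨆ i, LL V₂ R (pt M₁ i), g ∈ St k.PI V₁ := by
    intro g hg
    refine ⟨k.X_PI hg, k.X_V hg, fun y hy => ?_⟩
    obtain ⟨v, hv, f, hf, hfB, rfl⟩ := k.dec_PI hy
    have h3 : g * f = f * g := X_f hfB hg
    have h4 : f * g⁻¹ * f⁻¹ = g⁻¹ := by
      rw [mul_inv_eq_iff_eq_mul, eq_inv_mul_iff_mul_eq, ← mul_assoc, h3, mul_inv_cancel_right]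
    have e1 : g * (v * f) * g⁻¹ * (v * f)⁻¹ = g * v * g⁻¹ * v⁻¹ := by
      calc g * (v * f) * g⁻¹ * (v * f)⁻¹ = g * v * (f * g⁻¹ * f⁻¹) * v⁻¹ := by group
        _ = g * v * g⁻¹ * v⁻¹ := by rw [h4]
    rw [e1]
    exact mul_mem (conj_mem_of_normalizer (k.X_V hg) hv) (inv_mem hv)
  have hJV : J ≤ St k.PI V₁ := sup_le (fun g hg => stV g (hBX hg)) hCPIV
  have hJb : b ∈ normalizer (J : Set G) := by
    rw [← cj_eq_self_iff, hJ, cj_sup, cj_eq_self_iff.2 (k.NB hbR), hCPI, ← centralizer_cj, cj_eq_self_iff.2 hbPI]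
  -- `T ∩ Sg ≤ J`
  have hTJ : ∀ t ∈ T, t ∈ Sg → t ∈ J := by
    intro t ht htS
    have htR : ∀ r ∈ R, t * r = r * t := fun r hr => (mem_centralizer_iff.1 htS.2 r hr).symm
    obtain ⟨A, hA, hA'⟩ := k.T_UW ht htR hu hRu
    obtain ⟨y, hy, hyA⟩ := a.full A hA
    have hyT : y ∈ T := k.QT (k.symm.C_le_QQ hy)
    have h1 : ∀ v ∈ V₁, y⁻¹ * t * v = v * (y⁻¹ * t) := by
      intro v hv
      obtain ⟨z, rfl⟩ := (M₁.mem_iff v).1 hv
      have h2 : y * M₁.e z * y⁻¹ = t * M₁.e z * t⁻¹ := by rw [hyA, hA']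
      calc y⁻¹ * t * M₁.e z = y⁻¹ * (t * M₁.e z * t⁻¹) * t := by group
        _ = y⁻¹ * (y * M₁.e z * y⁻¹) * t := by rw [h2]
        _ = M₁.e z * (y⁻¹ * t) := by group
    have h2 : y⁻¹ * t ∈ CPI := by
      rw [hCPI, mem_centralizer_iff]
      rintro _ ⟨v, hv, c, hc, rfl⟩
      have h3 := k.T_V' (mul_mem (inv_mem hyT) ht) h1 hc
      calc v * c * (y⁻¹ * t) = v * (c * (y⁻¹ * t)) := by group
        _ = v * (y⁻¹ * t * c) := by rw [h3]
        _ = v * (y⁻¹ * t) * c := by group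
        _ = y⁻¹ * t * v * c := by rw [h1 v hv]
        _ = y⁻¹ * t * (v * c) := by group
    have h3 := mul_mem ((le_sup_left : _ ≤ J) hy) ((le_sup_right : CPI ≤ J) h2)
    rwa [mul_inv_cancel_left] at h3
  -- `Sg = (T₁ ∩ Sg) C(V₁V')`
  have hT₁C : (T₁ : Subgroup G) ≤ normalizer (k.CP : Set G) := fun t ht => k.N_CP (k.T₁_PI ht) (k.T₁R ht)
  have nSg : ∀ g, g ∈ normalizer (k.PI : Set G) → g ∈ normalizer (R : Set G) → ∀ h ∈ Sg, g * h * g⁻¹ ∈ Sg := by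
    rintro g g1 g2 h ⟨⟨h1, h2⟩, h3⟩
    have g3 := k.N_CP g1 g2
    exact ⟨⟨St_conj g1 g3 h1, St_conj g3 g2 h2⟩,
      conj_mem_of_normalizer (normalizer_le_normalizer_centralizer R g2) h3⟩
  have hCS : CPI ≤ Sg := by
    intro g hg
    have hgc := mem_centralizer_iff.1 hg
    have g1 : g ∈ normalizer (k.PI : Set G) := centralizer_le_normalizer _ hg
    have g2 : g ∈ centralizer (R : Set G) := centralizer_le hRPI hg
    have g3 := k.N_CP g1 (centralizer_le_normalizer _ g2)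
    have key : ∀ {A : Subgroup G}, ∀ y ∈ k.PI, g * y * g⁻¹ * y⁻¹ ∈ A := by
      intro A y hy
      rw [← hgc y hy, mul_inv_cancel_right, mul_inv_cancel]
      exact one_mem _
    exact ⟨⟨⟨g1, g3, fun y hy => key y hy⟩, ⟨g3, centralizer_le_normalizer _ g2, fun y hy => key y hy.1⟩⟩, g2⟩
  have hpow : ∀ g ∈ Sg, ∃ n : ℕ, g ^ 2 ^ n ∈ CPI := by
    rintro g ⟨⟨g1, g2⟩, g3⟩
    refine ⟨2, ?_⟩
    rw [hCPI, mem_centralizer_iff]
    -- `g² y g⁻² y⁻¹ ∈ R` for `y ∈ V₁V'`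
    have h1 : ∀ y ∈ k.PI, g * g * y * (g * g)⁻¹ * y⁻¹ ∈ R := by
      intro y hy
      set c := g * y * g⁻¹ * y⁻¹ with hc
      have hcC : c ∈ k.CP := g1.2.2 y hy
      have h2 : g * c * g⁻¹ * c⁻¹ ∈ R := g2.2.2 c hcC
      have h3 : g * g * y * (g * g)⁻¹ * y⁻¹ = g * c * g⁻¹ * c⁻¹ * (c * c) := by
        rw [hc]; group
      rw [h3, k.PI_sq hcC.1, mul_one]
      exact h2
    intro y hy
    set r := g * g * y * (g * g)⁻¹ * y⁻¹ with hr
    have hrR : r ∈ R := h1 y hy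
    have h2 : g * g * r = r * (g * g) := by
      have h3 := mem_centralizer_iff.1 g3 r hrR
      rw [mul_assoc, ← h3, ← mul_assoc, ← h3, mul_assoc]
    have h4 : r * r = 1 := k.PI_sq (hRPI hrR)
    have h5 : g * g * y * (g * g)⁻¹ = r * y := by rw [hr]; group
    have e : g ^ 2 ^ 2 = (g * g) * (g * g) := by
      rw [show (2 : ℕ) ^ 2 = 2 + 2 from rfl, pow_add, pow_two]
    have h6 : g * g * (g * g) * y * (g * g * (g * g))⁻¹ = y := by
      calc g * g * (g * g) * y * (g * g * (g * g))⁻¹ = g * g * (g * g * y * (g * g)⁻¹) * (g * g)⁻¹ := by group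
        _ = (g * g * r) * y * (g * g)⁻¹ := by rw [h5]; group
        _ = r * (g * g * y * (g * g)⁻¹) := by rw [h2]; group
        _ = r * r * y := by rw [h5]; group
        _ = y := by rw [h4, one_mul]
    rw [e]
    exact (mul_inv_eq_iff_eq_mul.1 h6).symm
  have hSn : (T₁ : Subgroup G) ≤ normalizer (Sg : Set G) := fun t ht =>
    mem_normalizer_of_conj fun h hh => nSg t (k.T₁_PI ht) (k.T₁R ht) h hh
  have hSC : Sg ≤ normalizer (CPI : Set G) := fun g hg =>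
    normalizer_le_normalizer_centralizer _ hg.1.1.1
  have fac : ∀ g ∈ Sg, ∃ s ∈ (T₁ : Subgroup G), s ∈ Sg ∧ ∃ c ∈ CPI, g = s * c := fun g hg =>
    exists_mul_of_sylow T₁ hSn hCS hSC hpow hg
  -- `[δ, b] ∈ J`
  have hδb : b⁻¹ * δ * b ∈ Sg := by
    have := nSg b⁻¹ (inv_mem hbPI) (inv_mem hbR) δ hδS
    rwa [inv_inv] at this
  have hCJ : CPI ≤ J := le_sup_right
  have hcomm : δ⁻¹ * (b⁻¹ * δ * b) ∈ J := by
    obtain ⟨s, hs, hsS, d, hd, e1⟩ := fac δ hδS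
    obtain ⟨s', hs', hs'S, d', hd', e2⟩ := fac _ hδb
    have hJδ : δ ∈ J → δ⁻¹ * (b⁻¹ * δ * b) ∈ J := fun h =>
      mul_mem (inv_mem h) (conj_inv_mem_of_normalizer hJb h)
    by_cases h1 : s ∈ T
    · apply hJδ
      rw [e1]
      exact mul_mem (hTJ s h1 hsS) (hCJ hd)
    by_cases h2 : s' ∈ T
    · apply hJδ
      have h3 : b⁻¹ * δ * b ∈ J := by
        rw [e2]
        exact mul_mem (hTJ s' h2 hs'S) (hCJ hd')
      have h4 := conj_mem_of_normalizer hJb h3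
      have e : b * (b⁻¹ * δ * b) * b⁻¹ = δ := by group
      rwa [e] at h4
    · have h3 : s⁻¹ * s' ∈ T := by
        have h4 := (k.cov s hs).resolve_left h1
        have h5 := (k.cov s' hs').resolve_left h2
        have h6 := mul_mem (inv_mem h4) h5
        have e : (w⁻¹ * s)⁻¹ * (w⁻¹ * s') = s⁻¹ * s' := by group
        rwa [e] at h6
      have h4 := hTJ _ h3 (Sg.mul_mem (Sg.inv_mem hsS) hs'S)
      rw [e2, e1]
      have e : (s * d)⁻¹ * (s' * d') = d⁻¹ * (s⁻¹ * s') * d' := by group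
      rw [e]
      exact mul_mem (mul_mem (inv_mem (hCJ hd)) h4) (hCJ hd')
  -- `δ` normalises `V₁`
  have hβ : δ⁻¹ * b * δ ∈ St k.PI V₁ := by
    have e : δ⁻¹ * b * δ = b * (δ⁻¹ * (b⁻¹ * δ * b))⁻¹ := by group
    rw [e]
    exact (St k.PI V₁).mul_mem (stV b hb) ((St k.PI V₁).inv_mem (hJV hcomm))
  have hδPI : δ ∈ normalizer (k.PI : Set G) := hδS.1.1.1
  have hδV' : δ⁻¹ ∈ normalizer (V₁ : Set G) := by
    refine mem_normalizer_of_conj fun v hv => ?_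
    obtain ⟨v₁, hv₁, e1⟩ := exists_comm_eq hbV hbf hv
    have h1 := conj_inv_mem_of_normalizer hδPI (k.V_le_PI hv₁)
    have h2 := hβ.2.2 _ h1
    have e2 : δ⁻¹ * b * δ * (δ⁻¹ * v₁ * δ) * (δ⁻¹ * b * δ)⁻¹ * (δ⁻¹ * v₁ * δ)⁻¹ = δ⁻¹ * v * δ⁻¹⁻¹ := by
      rw [← e1]; group
    rwa [e2] at h2
  have hδV : δ ∈ normalizer (V₁ : Set G) := inv_mem_iff.1 hδV'
  have hδst : δ ∈ St k.PI V₁ := by
    refine ⟨hδPI, hδV, fun y hy => ?_⟩
    obtain ⟨v, hv, f, hf, hfB, rfl⟩ := k.dec_PI hy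
    have h1 := hδS.1.2.2.2 f (k.f_CP hf hfB)
    have e1 : δ * (v * f) * δ⁻¹ * (v * f)⁻¹ = (δ * v * δ⁻¹) * (δ * f * δ⁻¹ * f⁻¹) * v⁻¹ := by group
    rw [e1]
    exact mul_mem (mul_mem (conj_mem_of_normalizer hδV hv) (k.toMixedQ.RV h1)) (inv_mem hv)
  have hb'st : b' ∈ St k.PI V₁ := by
    have e : b' = b * δ := by rw [hδ]; group
    rw [e]
    exact (St k.PI V₁).mul_mem (stV b hb) hδst
  -- `V' = [V', b'] ≤ V₁`
  apply hne0
  refine eq_of_le_of_card_ge ?_ (card_cj w V₁).ge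
  intro y hy
  have hb'V' : b' ∈ normalizer (cj w V₁ : Set G) := by
    rw [← cj_eq_self_iff, hb', ← cj_mul]
    have e : w * b₂ * w⁻¹ * w = w * b₂ := by group
    rw [e, cj_mul, cj_eq_self_iff.2 hb₂V]
  have hb'f : ∀ c ∈ cj w V₁, b' * c = c * b' → c = 1 := by
    intro c hc h
    have h1 := hb₂f _ (mem_cj.1 hc) (by
      calc b₂ * (w⁻¹ * c * w) = w⁻¹ * (b' * c) * w := by rw [hb']; group
        _ = w⁻¹ * (c * b') * w := by rw [h]
        _ = w⁻¹ * c * w * b₂ := by rw [hb']; group)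
    have e : c = w * (w⁻¹ * c * w) * w⁻¹ := by group
    rw [e, h1]; group
  obtain ⟨c, hc, e1⟩ := exists_comm_eq hb'V' hb'f hy
  rw [← e1]
  exact hb'st.2.2 c (k.V'_le_PI hc)

end Kill

end Cfsg.Agent.Omega.IId.MQ

end

section


/-!
# WrCv, mixed partners, CASE 2, `q ≥ 4`: the two sides (helper330, bb OMEGA #18683, #18786)

* `mixedQ_of` : `MixedQ` from `LineD`;
* `zc_dec` : `Ω₁(Z(stab M i)) ≤ line M i × C(grp M {i})`;
* `exists_transfer` : **LEMMA X**: an element of `Ω₁(Z(T₁)) ∩ C(grp M {i})` is conjugate in `N_G(R)` to one of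
  `Ω₁(Z(T₁')) ∩ C(grp M' {i'})`;
* `exists_norm4` : `fac M i` and `line M i` are normalised by a Sylow 2-subgroup of `G`.
-/

set_option autoImplicit false
set_option linter.unusedSectionVars false

namespace Cfsg.Agent.Omega.IId.NV

open Subgroup Cfsg Cfsg.Agent.Lib.SL2Mat Cfsg.Agent.MinSimple
open Cfsg.Agent.ZN (o2 zc zl)
open Cfsg.Agent.Omega.BTwo (cj mem_cj cj_mono cj_eq_self_iff conj_mem_cj QQ card_cj)
open Cfsg.Agent.Omega.Mix (RMod LL LL_conj V_le_LL char2_normalizer pt Pt)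
open Cfsg.Agent.Omega.IId.M4 (toRMod toRMod_line nmG exists_cj_eq LL_comm mem_nmG)
open Cfsg.Agent.Omega.IId.FourSide (vec_ne)
open Cfsg.Agent.Omega.IId.Cv (LineD UnM)
open Cfsg.Agent.Omega.IId.MQ (MixedQ Kill)

universe u

variable {G : Type u} [Group G] [Finite G] {F F' : Type} [Field F] [Finite F] [CharP F 2] [Field F'] [Finite F']
  [CharP F' 2] {S S' : Sylow 2 G} {P V D P' V' D' : Subgroup G} {k k' : ℕ}

/-- `MixedQ` from `LineD` -/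
theorem mixedQ_of {M : NatD F S P V D k} {M' : NatD F' S' P' V' D' k'} (hk : k = 1 ∨ k = 2) (hk' : k' = 1 ∨ k' = 2)
    {i : Fin k} {i' : Fin k'} (hl : line M.toNatV i = line M'.toNatV i')
    (hne : ∃ v ∈ fac M.toNatV i, ∃ w ∈ fac M'.toNatV i', v * w ≠ w * v) (hu : ¬ UnM M i) (hu' : ¬ UnM M' i') :
    MixedQ (toRMod (pre M.toNatV i)) (toRMod (pre M'.toNatV i')) (line M.toNatV i) where
  line₁ := ⟨![1, 0], vec_ne, by rw [toRMod_line, pre_line]⟩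
  line₂ := ⟨![1, 0], vec_ne, by rw [toRMod_line, pre_line]; exact hl⟩
  QN₁ := (o2_line_le' M hk i).trans (stab_le_nmG (SP M) M.toNatV i)
  QN₂ := by
    rw [hl]
    exact (o2_line_le' M' hk' i').trans (stab_le_nmG (SP M') M'.toNatV i')
  char := fun K hK hK1 => char2_normalizer M.hG hK hK1
  comm₁ := LL_comm (comm_of_not_unM hu)
  comm₂ := by
    rw [hl]
    exact LL_comm (comm_of_not_unM hu')
  ne := by
    obtain ⟨v, hv, w, hw, hvw⟩ := hne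
    exact ⟨v, V_le_LL _ _ hv, w, V_le_LL _ _ hw, hvw⟩

section side

variable (M : NatD F S P V D k)

/-- an element of the line centralised by the stabilizer of the line in `grp M {i}` is `1` for `|F| ≥ 3` -/
theorem line_eq_one (q4 : 4 ≤ Nat.card F) {i : Fin k} {r : G} (hr : r ∈ line M.toNatV i)
    (h : ∀ g ∈ grp M.toNatV {i}, g ∈ normalizer (line M.toNatV i : Set G) → g * r = r * g) : r = 1 := by
  by_contra hr1
  obtain ⟨w, hw, hw1, hwr⟩ : ∃ w ∈ line M.toNatV i, w ≠ 1 ∧ w ≠ r := by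
    by_contra hcon
    push Not at hcon
    have h1 : Nat.card (line M.toNatV i) ≤ 2 := by
      have h2 : (line M.toNatV i : Set G) ⊆ {1, r} := by
        intro y hy
        by_cases hy1 : y = 1
        · left; exact hy1
        · right; exact hcon y hy hy1
      have h3 : Set.ncard (line M.toNatV i : Set G) ≤ Set.ncard ({1, r} : Set G) :=
        Set.ncard_le_ncard h2 (Set.toFinite _)
      have h4 : Set.ncard ({1, r} : Set G) ≤ 2 := (Set.ncard_insert_le _ _).trans (by rw [Set.ncard_singleton])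
      exact h3.trans h4
    rw [card_line] at h1
    omega
  obtain ⟨g, hg, hgn, hgr⟩ := exists_tor M.toNatV hr hw hr1 hw1
  apply hwr
  rw [← hgr, h g hg hgn, mul_inv_cancel_right]

/-- `Ω₁(Z(stab M i)) ≤ line M i × C(grp M {i})`, `k = 1, 2` -/
theorem zc_dec (hk : k = 1 ∨ k = 2) {i : Fin k} {f : G} (hf : f ∈ zc (stab M.toNatV i)) :
    ∃ u ∈ line M.toNatV i, ∃ z, f = u * z ∧ (∀ g ∈ grp M.toNatV {i}, g * z = z * g) := by
  rcases hk with rfl | rfl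
  · rw [stab_one M i] at hf
    obtain ⟨n, hn, d, hd, rfl⟩ := M.dec f (VModule.zc_le_zl _ _ hf)
    have hn' : n ∈ fac M.toNatV i := by rw [fac_one M i]; exact hn
    have hdS : ∀ t ∈ (S : Subgroup G), t * d = d * t := fun t ht => (mem_centralizer_iff.1 (M.cD (SP M ht)) d hd).symm
    refine ⟨n, fix_le_line M.toNatV (SP M) hn' fun t ht => ?_, d, rfl, fun g hg =>
      (mem_centralizer_iff.1 (M.cD (grp_le _ _ hg)) d hd).symm⟩
    have h1 := (VModule.mem_zc.1 hf).2.1 t (stab_le _ _ ht)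
    have h2 := hdS t (stab_le _ _ ht)
    have h3 : t * n * d = n * t * d := by
      calc t * n * d = t * (n * d) := by group
        _ = n * (d * t) := by rw [h1]; group
        _ = n * t * d := by rw [← h2]; group
    exact mul_right_cancel h3
  · obtain ⟨a, ha, c, hc, haz, hcc, rfl⟩ := XZ.zc_stb' (M := M) (blk_two M i) hf
    exact ⟨a, fix_le_line M.toNatV (SP M) ha fun t ht => (VModule.mem_zc.1 haz).2.1 t ht, c, rfl, fun g hg =>
      hcc g (mem_sup_left hg)⟩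

end side

theorem mem_zc_conj {T T' : Subgroup G} {h x : G} (hT : cj h T = T') (hx : x ∈ zc T) : h * x * h⁻¹ ∈ zc T' := by
  subst hT
  obtain ⟨h1, h2, h3⟩ := VModule.mem_zc.1 hx
  refine VModule.mem_zc.2 ⟨conj_mem_cj h1, fun y hy => ?_, ?_⟩
  · have h4 := h2 _ (mem_cj.1 hy)
    calc y * (h * x * h⁻¹) = h * (h⁻¹ * y * h * x) * h⁻¹ := by group
      _ = h * (x * (h⁻¹ * y * h)) * h⁻¹ := by rw [h4]
      _ = _ := by group
  · calc (h * x * h⁻¹) ^ 2 = h * x ^ 2 * h⁻¹ := by rw [pow_two, pow_two]; group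
      _ = 1 := by rw [h3]; group

/-- an element of `Ω₁(Z(T₁))`, `T₁` a Sylow 2-subgroup of `G` in `N_G(R)`, is in `Ω₁(Z(T))` if
`O₂(N_G(R)) ≤ T ≤ T₁`. -/
theorem mem_zc_stab {M : NatD F S P V D k} {T₁ : Sylow 2 G} (hk : k = 1 ∨ k = 2) {i : Fin k}
    (hT₁ : (T₁ : Subgroup G) ≤ normalizer (line M.toNatV i : Set G)) (hle : stab M.toNatV i ≤ T₁) {x : G}
    (hx : x ∈ zc (T₁ : Subgroup G)) : x ∈ zc (stab M.toNatV i) := by
  obtain ⟨h1, h2, h3⟩ := VModule.mem_zc.1 hx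
  refine VModule.mem_zc.2 ⟨o2_line_le' M hk i (char2_line' M i ⟨hT₁ h1, ?_⟩), fun t ht => h2 t (hle ht), h3⟩
  exact mem_centralizer_iff.2 fun y hy => h2 y (hle (o2_line_le' M hk i hy))

/-- **LEMMA X** -/
theorem exists_transfer {M : NatD F S P V D k} {M' : NatD F' S' P' V' D' k'} (hk' : k' = 1 ∨ k' = 2)
    {i : Fin k} {i' : Fin k'} (hl : line M.toNatV i = line M'.toNatV i') (q4 : 4 ≤ Nat.card F)
    (q4' : 4 ≤ Nat.card F') {T₁ : Sylow 2 G} (hT₁ : (T₁ : Subgroup G) ≤ normalizer (line M.toNatV i : Set G))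
    {x : G} (hx : x ∈ zc (T₁ : Subgroup G)) (hx1 : x ≠ 1) (hxg : ∀ g ∈ grp M.toNatV {i}, g * x = x * g)
    {T₂ : Sylow 2 G} (hT₂ : (T₂ : Subgroup G) ≤ normalizer (line M'.toNatV i' : Set G))
    (hle : stab M'.toNatV i' ≤ T₂) :
    ∃ y ∈ zc (T₂ : Subgroup G), y ≠ 1 ∧ ∀ g ∈ grp M'.toNatV {i'}, g * y = y * g := by
  have hfact : Fact (Nat.Prime 2) := ⟨Nat.prime_two⟩
  have hT₂' : (T₂ : Subgroup G) ≤ normalizer (line M.toNatV i : Set G) := by rw [hl]; exact hT₂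
  obtain ⟨h, hh, hhT⟩ := exists_cj_eq hT₂' hT₁ T₂.isPGroup' T₁.isPGroup'
    (MinSimple.Basic.not_dvd_relIndex T₂ hT₂') (MinSimple.Basic.not_dvd_relIndex T₁ hT₁)
  set R := line M.toNatV i with hR
  set y := h * x * h⁻¹ with hy
  have hyz : y ∈ zc (T₂ : Subgroup G) := mem_zc_conj hhT hx
  have hyz' : y ∈ zc (stab M'.toNatV i') := mem_zc_stab hk' hT₂ hle hyz
  have hRT : R ≤ T₂ := by
    rw [hl]
    exact (((line_le _ _).trans (fac_le_o2 M' hk' i')).trans (o2_line_le' M' hk' i')).trans hle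
  have hRc : ∀ a ∈ R, ∀ b ∈ R, a * b = b * a := fun a ha b hb =>
    NV.comm M.toNatV (fac_le _ _ (line_le _ _ ha)) (fac_le _ _ (line_le _ _ hb))
  have hRsq : ∀ a ∈ R, a * a = 1 := fun a ha => NV.sq M.toNatV (fac_le _ _ (line_le _ _ ha))
  have hyR : ∀ a ∈ R, a * y = y * a := fun a ha => (VModule.mem_zc.1 hyz).2.1 a (hRT ha)
  obtain ⟨u, hu, z, e, hz⟩ := zc_dec M' hk' hyz'
  rw [← hl] at hu
  have hzR : ∀ a ∈ R, a * z = z * a := by
    intro a ha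
    have h1 := hyR a ha
    rw [e] at h1
    have h2 : u * (a * z) = u * (z * a) := by
      calc u * (a * z) = u * a * z := by group
        _ = a * (u * z) := by rw [hRc u hu a ha]; group
        _ = u * (z * a) := by rw [h1]; group
    exact mul_left_cancel h2
  let N : Subgroup G :=
    { carrier := {g | g ∈ normalizer (R : Set G) ∧ y⁻¹ * g * y * g⁻¹ ∈ R}
      one_mem' := ⟨one_mem _, by
        have e1 : y⁻¹ * 1 * y * 1⁻¹ = 1 := by group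
        rw [e1]; exact one_mem _⟩
      mul_mem' := by
        rintro a b ⟨ha, ha1⟩ ⟨hb, hb1⟩
        refine ⟨mul_mem ha hb, ?_⟩
        have e1 : y⁻¹ * (a * b) * y * (a * b)⁻¹ = (y⁻¹ * a * y * a⁻¹) * (a * (y⁻¹ * b * y * b⁻¹) * a⁻¹) := by group
        rw [e1]
        exact mul_mem ha1 ((mem_normalizer_iff.1 ha _).1 hb1)
      inv_mem' := by
        rintro a ⟨ha, ha1⟩
        refine ⟨inv_mem ha, ?_⟩
        have e1 : y⁻¹ * a⁻¹ * y * a⁻¹⁻¹ = a⁻¹ * (y⁻¹ * a * y * a⁻¹)⁻¹ * a⁻¹⁻¹ := by group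
        rw [e1]
        exact (mem_normalizer_iff.1 (inv_mem ha) _).1 (inv_mem ha1) }
  have hNmem : ∀ g, g ∈ N ↔ g ∈ normalizer (R : Set G) ∧ y⁻¹ * g * y * g⁻¹ ∈ R := fun g => Iff.rfl
  have hcomm : ∀ g, g * y = y * g → y⁻¹ * g * y * g⁻¹ = 1 := by
    intro g hg
    rw [mul_assoc y⁻¹, hg]; group
  have hTN : (T₂ : Subgroup G) ≤ N := by
    intro t ht
    refine (hNmem t).2 ⟨by rw [hl]; exact hT₂ ht, ?_⟩
    rw [hcomm t ((VModule.mem_zc.1 hyz).2.1 t ht)]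
    exact one_mem _
  have hodd : Odd ((T₂ : Subgroup G).relIndex N) := by
    rw [← Nat.not_even_iff_odd, even_iff_two_dvd]
    exact MinSimple.Basic.not_dvd_relIndex T₂ hTN
  obtain ⟨c, hc, hcN⟩ := BTwo.Avg.avg (X := N) (P := (T₂ : Subgroup G)) (Y := R) (D := ⊥) (c := y) hTN hodd bot_le
    (fun g hg a ha => (mem_normalizer_iff.1 hg.1 a).1 ha)
    (fun g _ a ha => by rw [mem_bot] at ha ⊢; rw [ha]; group)
    (fun g _ a ha => by rw [mem_bot] at ha ⊢; rw [ha]; group)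
    (fun a ha => by rw [mem_bot]; exact hRsq a ha)
    (fun g hg => hg.2)
    (fun t ht => by rw [mem_bot]; exact hcomm t ((VModule.mem_zc.1 hyz).2.1 t ht))
  have hcN' : ∀ g ∈ N, g * (y * c) = y * c * g := by
    intro g hg
    have h1 := hcN g hg
    rw [mem_bot, mul_inv_eq_one] at h1
    calc g * (y * c) = y * c * ((y * c)⁻¹ * g * (y * c)) := by group
      _ = y * c * g := by rw [h1]
  -- `c = 1`
  have hc1 : c = 1 := by
    have h1 : h⁻¹ * c * h = 1 := by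
      refine line_eq_one M q4 (i := i) ?_ fun g hg hgn => ?_
      · have := (mem_normalizer_iff.1 (inv_mem hh) c).1 hc
        rwa [inv_inv] at this
      · have h2 : h * g * h⁻¹ * y = y * (h * g * h⁻¹) := by
          calc h * g * h⁻¹ * (h * x * h⁻¹) = h * (g * x) * h⁻¹ := by group
            _ = h * (x * g) * h⁻¹ := by rw [hxg g hg]
            _ = h * x * h⁻¹ * (h * g * h⁻¹) := by group
        have h3 : h * g * h⁻¹ ∈ N := by
          refine (hNmem _).2 ⟨mul_mem (mul_mem hh hgn) (inv_mem hh), ?_⟩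
          rw [hcomm _ h2]
          exact one_mem _
        have h4 := hcN' _ h3
        have h5 : h * g * h⁻¹ * c = c * (h * g * h⁻¹) := by
          have h6 : y * (h * g * h⁻¹ * c) = y * (c * (h * g * h⁻¹)) := by
            calc y * (h * g * h⁻¹ * c) = y * (h * g * h⁻¹) * c := by group
              _ = h * g * h⁻¹ * (y * c) := by rw [← h2]; group
              _ = y * (c * (h * g * h⁻¹)) := by rw [h4]; group
          exact mul_left_cancel h6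
        calc g * (h⁻¹ * c * h) = h⁻¹ * (h * g * h⁻¹ * c) * h := by group
          _ = h⁻¹ * (c * (h * g * h⁻¹)) * h := by rw [h5]
          _ = h⁻¹ * c * h * g := by group
    calc c = h * (h⁻¹ * c * h) * h⁻¹ := by group
      _ = 1 := by rw [h1]; group
  subst hc1
  -- `u = 1`
  have hu1 : u = 1 := by
    refine line_eq_one M' q4' (i := i') (by rw [← hl]; exact hu) fun g hg hgn => ?_
    have hgn' : g ∈ normalizer (R : Set G) := by rw [hl]; exact hgn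
    have hgu : u⁻¹ * (g * u * g⁻¹) ∈ R := mul_mem (inv_mem hu) ((mem_normalizer_iff.1 hgn' u).1 hu)
    have h1 : y⁻¹ * g * y * g⁻¹ = u⁻¹ * (g * u * g⁻¹) := by
      calc y⁻¹ * g * y * g⁻¹ = z⁻¹ * (u⁻¹ * (g * u * z) * g⁻¹) := by rw [e]; group
        _ = z⁻¹ * (u⁻¹ * (g * u * g⁻¹) * (g * z) * g⁻¹) := by group
        _ = z⁻¹ * (u⁻¹ * (g * u * g⁻¹) * z) := by rw [hz g hg]; group
        _ = z⁻¹ * (z * (u⁻¹ * (g * u * g⁻¹))) := by rw [hzR _ hgu]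
        _ = _ := by group
    have h2 : g ∈ N := (hNmem g).2 ⟨hgn', by rw [h1]; exact hgu⟩
    have h3 := hcN' g h2
    rw [mul_one, e] at h3
    have h4 : g * u * z = u * g * z := by
      calc g * u * z = g * (u * z) := by group
        _ = u * (z * g) := by rw [h3]; group
        _ = u * g * z := by rw [← hz g hg]; group
    exact mul_right_cancel h4
  refine ⟨y, hyz, fun h1 => hx1 ?_, fun g hg => ?_⟩
  · rw [hy, mul_inv_eq_one, mul_eq_left] at h1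
    exact h1
  · rw [e, hu1, one_mul]
    exact hz g hg

/-- `grp M {i}` is transitive on the lines of `fac M i` -/
theorem exists_grp_pt (M : NatD F S P V D k) (i : Fin k) (p : Pt (toRMod (pre M.toNatV i))) :
    ∃ g ∈ grp M.toNatV {i}, cj g (line M.toNatV i) = pt (toRMod (pre M.toNatV i)) p := by
  obtain ⟨w, hw, hp⟩ := p.2
  obtain ⟨A, hA⟩ := NatPair.exists_ap_e hw
  obtain ⟨g, hg, hgA⟩ := exists_lift M.toNatV i A
  refine ⟨g, hg, ?_⟩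
  have hind : (toRMod (pre M.toNatV i)).Ind g A := by
    intro x
    change g * (pre M.toNatV i).e x * g⁻¹ = (pre M.toNatV i).e (NatPair.ap A x)
    exact ext_fac M.toNatV (grp_conj_fac hg ((pre M.toNatV i).e_mem x)) ((pre M.toNatV i).e_mem _)
      ((hgA _ ((pre M.toNatV i).e_mem x).1).trans (by rw [pre_e, pre_e]))
  have h1 := (toRMod (pre M.toNatV i)).cj_line_of_ind hind ![1, 0]
  rw [toRMod_line, pre_line, hA] at h1
  exact h1.trans hp.symm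

/-- **(2a) is impossible for `q ≥ 4`, mixed partners.** -/
theorem exists_norm4 {M : NatD F S P V D 2} {M' : NatD F' S' P' V' D' k'} {i : Fin 2} {i' : Fin k'}
    (m : MixedQ (toRMod (pre M.toNatV i)) (toRMod (pre M'.toNatV i')) (line M.toNatV i)) (q4 : 4 ≤ Nat.card F)
    {T₁ : Sylow 2 G} {w : G} (h : Over M i T₁ w) (hT₁ : (T₁ : Subgroup G) ≤ normalizer (line M.toNatV i : Set G))
    {x : G} (hx : x ∈ zc (T₁ : Subgroup G)) (hx1 : x ≠ 1) (hxg : ∀ g ∈ grp M.toNatV {i}, g * x = x * g) :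
    ∃ T₂ : Sylow 2 G,
      (T₂ : Subgroup G) ≤ normalizer (fac M.toNatV i : Set G) ⊓ normalizer (line M.toNatV i : Set G) := by
  by_contra hno
  have hsyl := syl_fac_of M (i := i) fun ⟨T₂, _, h⟩ => hno ⟨T₂, h⟩
  obtain ⟨j, hij⟩ : ∃ j : Fin 2, i ≠ j := ⟨i + 1, by omega⟩
  have hT2 : IsPGroup 2 (stab M.toNatV i) := S.isPGroup'.to_le (stab_le _ _)
  have hxc : ∀ t ∈ (T₁ : Subgroup G), t * x = x * t := fun t ht => (VModule.mem_zc.1 hx).2.1 t ht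
  have hOT : BTwo.O2 (centralizer (fac M.toNatV i : Set G)) ≤ stab M.toNatV i := by
    refine le_trans ?_ (VModule.o2_le_of_sylow hT2 hsyl)
    refine BTwo.le_O2_of_normal ((BTwo.O2_le _).trans (centralizer_le_normalizer _)) (BTwo.O2_isPGroup _) ?_
    intro g hg a ha
    have h1 : cj g (centralizer (fac M.toNatV i : Set G)) = centralizer (fac M.toNatV i : Set G) :=
      cj_eq_self_iff.2 (BTwo.normalizer_le_normalizer_centralizer _ hg)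
    have h2 : cj g (BTwo.O2 (centralizer (fac M.toNatV i : Set G))) =
        BTwo.O2 (centralizer (fac M.toNatV i : Set G)) := by rw [BTwo.cj_O2, h1]
    exact (mem_normalizer_iff.1 (cj_eq_self_iff.1 h2) a).1 ha
  obtain ⟨c1, c2⟩ := cent_half M hij (VModule.mem_zc.1 hx).2.2 hx1 (fun t ht => hxc t (h.le ht)) hxg
  have hQT : QQ (line M.toNatV i) ≤ stab M.toNatV i := o2_line_le' M (Or.inr rfl) i
  have kl : Kill (toRMod (pre M.toNatV i)) (toRMod (pre M'.toNatV i')) (line M.toNatV i) (stab M.toNatV i) T₁ w x :=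
    { m with
      q4 := q4
      T₁R := hT₁
      TT₁ := h.le
      TN := stab_le_nmG (SP M) M.toNatV i
      QT := hQT
      OT := hOT
      wT₁ := h.mem
      cov := fun t ht => h.cov ht
      ww := h.sq
      nT := h.norm
      x1 := hx1
      xT₁ := VModule.zc_le _ hx
      xc := hxc
      xB := by
        intro p b hb
        obtain ⟨g, hg, hgp⟩ := exists_grp_pt M i p
        rw [← Mix.cj_LL hgp, mem_cj] at hb
        have h1 := hxc _ (h.le (hQT (m.symm.C_le_QQ hb)))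
        have h2 := hxg g hg
        have h3 : g⁻¹ * x = x * g⁻¹ := by rw [inv_mul_eq_iff_eq_mul, ← mul_assoc, h2, mul_inv_cancel_right]
        calc b * x = g * (g⁻¹ * b * g * (g⁻¹ * x)) := by group
          _ = g * (g⁻¹ * b * g * x) * g⁻¹ := by rw [h3]; group
          _ = g * x * (g⁻¹ * b * g) * g⁻¹ := by rw [h1]; group
          _ = x * b := by rw [h2]; group
      VU := c1
      UV := c2 }
  have h1 := kl.norm
  apply hno
  refine ⟨T₁, le_inf (fun t ht => ?_) hT₁⟩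
  rcases h.cov ht with h2 | h2
  · exact stab_normalizes _ _ h2
  · have h3 := mul_mem (cj_eq_self_iff.1 h1) (stab_normalizes _ _ h2)
    rwa [mul_inv_cancel_left] at h3

end Cfsg.Agent.Omega.IId.NV

end
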