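import Cfsg.Agent.Mrg.Omega.BTwo.Entry
import Cfsg.Agent.Mrg.Omega.BTwo.Conj

section


/-!
# THEOREM MIX2 (helper994): mixed pairs, the orbit argument (abstract part)

`s : MixOne.SideW V R B C`: the line `V` with points `R k`, `B k`, `C k` elementary abelian.  `I k = B k ∩ C_G(B k C k)`,
`B₀ = ⨅ B k`, `InK R B k x` : `x ∈ (R k) B₀`.

* `inK_of_comm` : (2) `u ∈ I j`, `[u, I i] = 1` imply `u ∈ (R j) B₀`;
* `two_of_index` : (3) a 2-group `T ≤ N(R i)` with `4 ∤ |N(R i) : T|` and `[b, T] ≤ R i`, `b ∈ B i` moves `V`, implies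
  `|I j : (R j) B₀| ≤ 2`;
* `II_le` : `I i = (R i) B₀`;
* `TwoS` : two sides without a common 2-group; `TwoS.false_of` : the contradiction (4).
-/

set_option autoImplicit false
set_option linter.unusedSectionVars false

namespace Cfsg.Agent.Omega.IId.MixAny

open Subgroup Cfsg.Agent.Omega.BTwo Cfsg.Agent.Omega.Mix Cfsg.Agent.Omega.MixOne
open Cfsg.Agent.Omega.MixOne.TwoW (Sq cj_Sq Sq_eq)
open Cfsg.Agent.Omega.IId.SylIdx

variable {G : Type*} [Group G] {ι κ : Type*}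

/-- `x ∈ (R k) B₀` -/
def InK (R B : ι → Subgroup G) (k : ι) (x : G) : Prop := ∃ r ∈ R k, ∃ y ∈ ⨅ m, B m, x = r * y

section side

variable {V : Subgroup G} {R B C : ι → Subgroup G} (s : SideW V R B C)
include s

/-- `[B i, I j] ≤ I i` -/
theorem comm_II {i j : ι} {b u : G} (hb : b ∈ B i) (hu : u ∈ YY (B j) (C j)) :
    b * u * b⁻¹ * u⁻¹ ∈ B i ⊓ YY (B i) (C i) :=
  ⟨TT_le _ _ (s.comm_mem_T' (s.Y_V hu) hb), s.comm_B_Y hb hu⟩

theorem nII (i : ι) : normalizer (R i : Set G) ≤ normalizer ((B i ⊓ YY (B i) (C i) : Subgroup G) : Set G) := by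
  intro g hg
  rw [← cj_eq_self_iff, cj_inf, cj_eq_self_iff.2 (s.nB i hg), cj_eq_self_iff.2 (s.nY i hg)]

/-- `t ∈ T i` commutes with `[c, t]`, `c ∈ B j` -/
theorem alt {i j : ι} {c t : G} (hc : c ∈ B j) (ht : t ∈ B i) (htV : ∀ v ∈ V, t * v = v * t) :
    t * (c * t * c⁻¹ * t⁻¹) = (c * t * c⁻¹ * t⁻¹) * t := by
  have h1 : c * t * c⁻¹ * t⁻¹ ∈ B j := TT_le _ _ (s.comm_mem_T' htV hc)
  have h2 := s.B_sq j _ h1
  have h3 : t * t = 1 := s.B_sq i t ht
  set x := c * t * c⁻¹ * t⁻¹ with hx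
  have e : x * t = c * t * c⁻¹ := by rw [hx]; group
  have h4 : x * t * (x * t) = 1 := by
    rw [e]
    calc c * t * c⁻¹ * (c * t * c⁻¹) = c * (t * t) * c⁻¹ := by group
      _ = 1 := by rw [h3]; group
  have h5 : (x * t)⁻¹ = x * t := inv_eq_of_mul_eq_one_left h4
  have h6 : x⁻¹ = x := inv_eq_of_mul_eq_one_left h2
  have h7 : t⁻¹ = t := inv_eq_of_mul_eq_one_left h3
  rw [mul_inv_rev, h6, h7] at h5
  exact h5

/-- for `b ∈ B i` outside `C(V)`, `t ∈ B j`, `[b, t] ∈ (R i) B₀` : `t ∈ (R j) B₀` -/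
theorem mem_RB [Finite G] {i j : ι} (hij : i ≠ j) {b : G} (hb : b ∈ B i)
    (hbV : ¬ ∀ v ∈ V, b * v = v * b) {t : G} (ht : t ∈ B j) (h : InK R B i (b * t * b⁻¹ * t⁻¹)) :
    InK R B j t := by
  obtain ⟨r, hr, y, hy, e⟩ := h
  have key : ∀ r ∈ R j, b * r * b⁻¹ * r⁻¹ ∈ R i := by
    intro r hr
    have h1 := s.CB i r (s.V_C i (s.R_V j hr)) b hb
    have e : b * r * b⁻¹ * r⁻¹ = (r * b * r⁻¹ * b⁻¹)⁻¹ := by group
    rw [e]; exact inv_mem h1
  let f : R j → R i := fun r => ⟨b * (r : G) * b⁻¹ * (r : G)⁻¹, key r r.2⟩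
  have hf : Function.Injective f := by
    intro x y hxy
    have h1 : b * (x : G) * b⁻¹ * (x : G)⁻¹ = b * (y : G) * b⁻¹ * (y : G)⁻¹ := congrArg Subtype.val hxy
    have h2 : b * ((y : G)⁻¹ * x) = (y : G)⁻¹ * x * b := comm_of_comm_eq h1
    have h4 := s.inj hij hb hbV (mul_mem (inv_mem (s.R_B j y.2)) (s.R_B j x.2)) h2
    have h5 := s.D_R (i := j) (s.B0_le_D h4) (mul_mem (inv_mem y.2) x.2)
    exact Subtype.ext (inv_mul_eq_one.1 h5).symm
  have hfs : Function.Surjective f := (Nat.bijective_iff_injective_and_card f).2 ⟨hf, s.card_R j i⟩ |>.2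
  obtain ⟨r0, hr0⟩ := hfs ⟨r, hr⟩
  have h1 : b * (r0 : G) * b⁻¹ * (r0 : G)⁻¹ = r := congrArg Subtype.val hr0
  have hyr : y * (r0 : G) = r0 * y := (s.B0_comm hy j _ (s.R_B j r0.2)).symm
  have h2 : b * ((r0 : G)⁻¹ * t) * b⁻¹ * ((r0 : G)⁻¹ * t)⁻¹ = y := by
    have e1 : b * t * b⁻¹ = r * y * t := by rw [← e]; group
    have e2 : b * (r0 : G) * b⁻¹ = r * r0 := by rw [← h1]; group
    calc b * ((r0 : G)⁻¹ * t) * b⁻¹ * ((r0 : G)⁻¹ * t)⁻¹
        = (b * (r0 : G) * b⁻¹)⁻¹ * (b * t * b⁻¹) * t⁻¹ * r0 := by group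
      _ = (r0 : G)⁻¹ * (y * r0) := by rw [e1, e2]; group
      _ = y := by rw [hyr]; group
  have h3 := s.inj0 hij hb hbV (mul_mem (inv_mem (s.R_B j r0.2)) ht) (by rw [h2]; exact hy)
  exact ⟨r0, r0.2, _, h3, by group⟩

/-- an element of `I i` commutes with `(R j) B₀` -/
theorem comm_InK {i j : ι} {t x : G} (ht : t ∈ YY (B i) (C i)) (hx : InK R B j x) : t * x = x * t := by
  obtain ⟨r, hr, y, hy, rfl⟩ := hx
  have h1 := s.Y_V ht r (s.R_V j hr)
  have h2 := SideW.Y_B0 ht hy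
  calc t * (r * y) = (t * r) * y := by group
    _ = r * (t * y) := by rw [h1]; group
    _ = r * y * t := by rw [h2]; group

/-- if `|I j : (R j) B₀| ≤ 2`, then `[I i, I j] = 1` -/
theorem comm_of_two [Finite G] {i j : ι} (hij : i ≠ j)
    (h2 : ∀ u ∈ B j ⊓ YY (B j) (C j), ∀ w ∈ B j ⊓ YY (B j) (C j), InK R B j u ∨ InK R B j w ∨ InK R B j (u * w))
    {u t : G} (hu : u ∈ B j ⊓ YY (B j) (C j)) (ht : t ∈ B i ⊓ YY (B i) (C i)) : t * u = u * t := by
  obtain ⟨c, hc, hcV⟩ := s.exists_move (Ne.symm hij)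
  have hs := comm_II s hc ht.2
  have ha := alt s hc ht.1 (s.Y_V ht.2)
  rcases h2 u hu _ hs with h | h | h
  · exact comm_InK s ht.2 h
  · have h3 := mem_RB s (Ne.symm hij) hc hcV ht.1 h
    exact (comm_InK s hu.2 h3).symm
  · have h3 := comm_InK s ht.2 h
    set x := c * t * c⁻¹ * t⁻¹ with hx
    have h4 : t * u * x = u * t * x := by
      calc t * u * x = t * (u * x) := by group
        _ = u * (x * t) := by rw [h3]; group
        _ = u * t * x := by rw [← ha]; group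
    exact mul_right_cancel h4

/-- **(2)** `u ∈ I j`, `[u, I i] = 1` imply `u ∈ (R j) B₀` -/
theorem inK_of_comm [Finite G] {i j : ι} (hij : i ≠ j) (hY2 : ∀ y ∈ YY (B i) (C i), y * y = 1)
    (hQ : ∀ q ∈ O2 (normalizer (R i : Set G)), ∀ b ∈ B i, b * q * b⁻¹ * q⁻¹ ∈ R i)
    {u : G} (hu : u ∈ B j ⊓ YY (B j) (C j)) (hc : ∀ t ∈ B i ⊓ YY (B i) (C i), t * u = u * t) :
    InK R B j u := by
  set Y := YY (B i) (C i) with hYdef
  set H := normalizer (R i : Set G) with hH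
  have hnB : H ≤ normalizer (B i : Set G) := s.nB i
  have hnC : H ≤ normalizer (C i : Set G) := s.nC i
  have hnY : H ≤ normalizer (Y : Set G) := s.nY i
  have inv_aux : ∀ (A : Subgroup G), H ≤ normalizer (A : Set G) → ∀ a ∈ H, (∀ w ∈ A, a * w * a⁻¹ * w⁻¹ ∈ Y) →
      ∀ w ∈ A, a⁻¹ * w * a⁻¹⁻¹ * w⁻¹ ∈ Y := by
    intro A hA a ha h w hw
    have h1 : a⁻¹ * w * a ∈ A := conj_inv_mem_of_normalizer (hA ha) hw
    have h2 := inv_mem (h _ h1)
    have e : (a * (a⁻¹ * w * a) * a⁻¹ * (a⁻¹ * w * a)⁻¹)⁻¹ = a⁻¹ * w * a⁻¹⁻¹ * w⁻¹ := by group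
    rwa [e] at h2
  have mul_aux : ∀ a b w : G, (∀ y ∈ Y, a * y = y * a) → a * w * a⁻¹ * w⁻¹ ∈ Y → b * w * b⁻¹ * w⁻¹ ∈ Y →
      a * b * w * (a * b)⁻¹ * w⁻¹ ∈ Y := by
    intro a b w ha h1 h2
    have e : a * b * w * (a * b)⁻¹ * w⁻¹ = (b * w * b⁻¹ * w⁻¹) * (a * w * a⁻¹ * w⁻¹) := by
      calc a * b * w * (a * b)⁻¹ * w⁻¹ = (a * (b * w * b⁻¹ * w⁻¹)) * w * a⁻¹ * w⁻¹ := by group
        _ = (b * w * b⁻¹ * w⁻¹) * (a * w * a⁻¹ * w⁻¹) := by rw [ha _ h2]; group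
    rw [e]
    exact mul_mem h2 h1
  let Ω : Subgroup G :=
    { carrier := {g | g ∈ H ∧ (∀ w ∈ B i, g * w * g⁻¹ * w⁻¹ ∈ Y) ∧ (∀ w ∈ C i, g * w * g⁻¹ * w⁻¹ ∈ Y) ∧
        ∀ y ∈ Y, g * y = y * g}
      one_mem' := by
        refine ⟨one_mem _, fun w _ => ?_, fun w _ => ?_, fun y _ => by rw [one_mul, mul_one]⟩ <;>
        · have e : 1 * w * 1⁻¹ * w⁻¹ = 1 := by group
          rw [e]; exact one_mem _
      mul_mem' := by
        rintro a b ⟨a1, a2, a3, a4⟩ ⟨b1, b2, b3, b4⟩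
        refine ⟨mul_mem a1 b1, fun w hw => mul_aux a b w a4 (a2 w hw) (b2 w hw),
          fun w hw => mul_aux a b w a4 (a3 w hw) (b3 w hw), fun y hy => ?_⟩
        calc a * b * y = a * (b * y) := by group
          _ = (a * y) * b := by rw [b4 y hy]; group
          _ = y * (a * b) := by rw [a4 y hy]; group
      inv_mem' := by
        rintro a ⟨a1, a2, a3, a4⟩
        refine ⟨inv_mem a1, inv_aux _ hnB a a1 a2, inv_aux _ hnC a a1 a3, fun y hy => ?_⟩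
        have h1 := a4 y hy
        calc a⁻¹ * y = a⁻¹ * (y * a) * a⁻¹ := by group
          _ = a⁻¹ * (a * y) * a⁻¹ := by rw [h1]
          _ = y * a⁻¹ := by group }
  have hΩ2 : IsPGroup 2 Ω := by
    rintro ⟨g, g1, g2, g3, g4⟩
    have sq_comm : ∀ w : G, g * w * g⁻¹ * w⁻¹ ∈ Y → (g * g) * w = w * (g * g) := by
      intro w hw
      have h1 := g4 _ hw
      have h2 := hY2 _ hw
      set y := g * w * g⁻¹ * w⁻¹ with hy
      have e1 : g * w * g⁻¹ = y * w := by rw [hy]; group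
      have e2 : g * g * w * (g * g)⁻¹ = w := by
        calc g * g * w * (g * g)⁻¹ = g * (g * w * g⁻¹) * g⁻¹ := by group
          _ = (g * y) * w * g⁻¹ := by rw [e1]; group
          _ = y * (g * w * g⁻¹) := by rw [h1]; group
          _ = (y * y) * w := by rw [e1]; group
          _ = w := by rw [h2, one_mul]
      exact mul_inv_eq_iff_eq_mul.1 e2
    have h5 : g * g ∈ Y := by
      rw [hYdef, mem_YY]
      exact ⟨fun w hw => sq_comm w (g2 w hw), fun w hw => sq_comm w (g3 w hw)⟩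
    have h6 := hY2 _ h5
    refine ⟨2, ?_⟩
    apply Subtype.ext
    change g ^ 2 ^ 2 = 1
    have e4 : g ^ 2 ^ 2 = g * g * (g * g) := by
      rw [show (2 : ℕ) ^ 2 = 2 + 2 from rfl, pow_add, pow_two]
    rw [e4]
    exact h6
  have hΩH : Ω ≤ H := fun g hg => hg.1
  have hΩn : ∀ h ∈ H, ∀ a ∈ Ω, h * a * h⁻¹ ∈ Ω := by
    rintro h hh a ⟨a1, a2, a3, a4⟩
    have aux : ∀ (A : Subgroup G), H ≤ normalizer (A : Set G) → (∀ w ∈ A, a * w * a⁻¹ * w⁻¹ ∈ Y) →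
        ∀ w ∈ A, h * a * h⁻¹ * w * (h * a * h⁻¹)⁻¹ * w⁻¹ ∈ Y := by
      intro A hA hw w hwA
      have h1 := conj_mem_of_normalizer (hnY hh) (hw _ (conj_inv_mem_of_normalizer (hA hh) hwA))
      have e : h * (a * (h⁻¹ * w * h) * a⁻¹ * (h⁻¹ * w * h)⁻¹) * h⁻¹ =
          h * a * h⁻¹ * w * (h * a * h⁻¹)⁻¹ * w⁻¹ := by group
      rwa [e] at h1
    refine ⟨H.mul_mem (H.mul_mem hh a1) (H.inv_mem hh), aux _ hnB a2, aux _ hnC a3, fun y hy => ?_⟩
    have h1 := a4 _ (conj_inv_mem_of_normalizer (hnY hh) hy)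
    calc h * a * h⁻¹ * y = h * (a * (h⁻¹ * y * h)) * h⁻¹ := by group
      _ = h * (h⁻¹ * y * h * a) * h⁻¹ := by rw [h1]
      _ = y * (h * a * h⁻¹) := by group
  have huΩ : u ∈ Ω := by
    refine ⟨s.cV_le_NR (s.Y_V hu.2) i, fun w hw => ?_, fun w hw => ?_, fun y hy => ?_⟩
    · have h1 := (YY (B i) (C i)).inv_mem (comm_II s hw hu.2).2
      have e : (w * u * w⁻¹ * u⁻¹)⁻¹ = u * w * u⁻¹ * w⁻¹ := by group
      rwa [e] at h1
    · exact mem_iInf.1 (s.B0_le_D (s.Y_C0 hu.2 hw)) i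
    · obtain ⟨u', h1, h2, d, hd, rfl⟩ := s.exists_D hy
      have h3 := hc u' ⟨TT_le _ _ h1, h2⟩
      have h4 := SideW.D_comm hd j u hu.1
      calc u * (u' * d) = (u * u') * d := by group
        _ = u' * (u * d) := by rw [← h3]; group
        _ = u' * d * u := by rw [← h4]; group
  have huQ : u ∈ O2 H := le_O2_of_normal hΩH hΩ2 hΩn huΩ
  obtain ⟨b, hb, hbV⟩ := s.exists_move hij
  exact s.mem_R_of_comm hij hb hbV hu.1 (hQ u huQ b hb)

/-- **(3)** `|I j : (R j) B₀| ≤ 2` -/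
theorem two_of_index [Finite G] {i j : ι} (hij : i ≠ j) {T : Subgroup G} (hTR : T ≤ normalizer (R i : Set G))
    (h4 : ¬ 4 ∣ T.relIndex (normalizer (R i : Set G))) {b : G} (hb : b ∈ B i)
    (hbV : ¬ ∀ v ∈ V, b * v = v * b) (hbT : ∀ t ∈ T, b * t * b⁻¹ * t⁻¹ ∈ R i) :
    ∀ u ∈ B j ⊓ YY (B j) (C j), ∀ w ∈ B j ⊓ YY (B j) (C j), InK R B j u ∨ InK R B j w ∨ InK R B j (u * w) := by
  set H := normalizer (R i : Set G) with hH
  set I := B i ⊓ YY (B i) (C i) with hI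
  have hnB : H ≤ normalizer (B i : Set G) := s.nB i
  have hnI : H ≤ normalizer (I : Set G) := nII s i
  let O : Subgroup G :=
    { carrier := {g | g ∈ H ∧ ∀ w ∈ B i, g * w * g⁻¹ * w⁻¹ ∈ I}
      one_mem' := ⟨one_mem _, fun w _ => by
        have e : 1 * w * 1⁻¹ * w⁻¹ = 1 := by group
        rw [e]; exact one_mem _⟩
      mul_mem' := by
        rintro a c ⟨a1, a2⟩ ⟨c1, c2⟩
        refine ⟨mul_mem a1 c1, fun w hw => ?_⟩
        have e : a * c * w * (a * c)⁻¹ * w⁻¹ = (a * (c * w * c⁻¹ * w⁻¹) * a⁻¹) * (a * w * a⁻¹ * w⁻¹) := by group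
        rw [e]
        exact mul_mem (conj_mem_of_normalizer (hnI a1) (c2 w hw)) (a2 w hw)
      inv_mem' := by
        rintro a ⟨a1, a2⟩
        refine ⟨inv_mem a1, fun w hw => ?_⟩
        have h1 : a⁻¹ * w * a ∈ B i := conj_inv_mem_of_normalizer (hnB a1) hw
        have h2 := inv_mem (a2 _ h1)
        have e : (a * (a⁻¹ * w * a) * a⁻¹ * (a⁻¹ * w * a)⁻¹)⁻¹ = a⁻¹ * w * a⁻¹⁻¹ * w⁻¹ := by group
        rwa [e] at h2 }
  let A : Subgroup G :=
    { carrier := {g | g ∈ O ∧ g * b * g⁻¹ * b⁻¹ ∈ R i}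
      one_mem' := ⟨one_mem _, by
        have e : 1 * b * 1⁻¹ * b⁻¹ = 1 := by group
        rw [e]; exact one_mem _⟩
      mul_mem' := by
        rintro a c ⟨a1, a2⟩ ⟨c1, c2⟩
        refine ⟨mul_mem a1 c1, ?_⟩
        have e : a * c * b * (a * c)⁻¹ * b⁻¹ = (a * (c * b * c⁻¹ * b⁻¹) * a⁻¹) * (a * b * a⁻¹ * b⁻¹) := by group
        rw [e]
        exact mul_mem (conj_mem_of_normalizer a1.1 c2) a2
      inv_mem' := by
        rintro a ⟨a1, a2⟩
        refine ⟨inv_mem a1, ?_⟩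
        have h1 := conj_inv_mem_of_normalizer a1.1 (inv_mem a2)
        have e : a⁻¹ * b * a⁻¹⁻¹ * b⁻¹ = a⁻¹ * (a * b * a⁻¹ * b⁻¹)⁻¹ * a := by group
        rw [e]; exact h1 }
  have hOH : O ≤ H := fun g hg => hg.1
  have hAO : A ≤ O := fun g hg => hg.1
  have hOn : H ≤ normalizer (O : Set G) := by
    intro h hh
    refine mem_normalizer_of_conj fun a ha => ?_
    refine ⟨H.mul_mem (H.mul_mem hh ha.1) (H.inv_mem hh), fun w hw => ?_⟩
    have h1 := conj_mem_of_normalizer (hnI hh) (ha.2 _ (conj_inv_mem_of_normalizer (hnB hh) hw))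
    have e : h * (a * (h⁻¹ * w * h) * a⁻¹ * (h⁻¹ * w * h)⁻¹) * h⁻¹ =
        h * a * h⁻¹ * w * (h * a * h⁻¹)⁻¹ * w⁻¹ := by group
    rwa [e] at h1
  have hTA : T ⊓ O ≤ A := by
    rintro t ⟨ht, htO⟩
    refine ⟨htO, ?_⟩
    have h1 := inv_mem (hbT t ht)
    have e : (b * t * b⁻¹ * t⁻¹)⁻¹ = t * b * t⁻¹ * b⁻¹ := by group
    rwa [e] at h1
  have hA4 : ¬ 4 ∣ A.relIndex O := by
    intro h
    apply h4
    refine h.trans ((relIndex_dvd_of_le_left O hTA).trans ?_)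
    rw [inf_relIndex_right, relIndex_sup_of_normalizes (hTR.trans hOn)]
    exact Dvd.intro _ (relIndex_mul_relIndex _ _ _ le_sup_left (sup_le hTR hOH))
  have hJO : B j ⊓ YY (B j) (C j) ≤ O := by
    intro u hu
    refine ⟨s.cV_le_NR (s.Y_V hu.2) i, fun w hw => ?_⟩
    have h1 := inv_mem (comm_II s hw hu.2)
    have e : (w * u * w⁻¹ * u⁻¹)⁻¹ = u * w * u⁻¹ * w⁻¹ := by group
    rwa [e] at h1
  have hJ2 : IsPGroup 2 (B j ⊓ YY (B j) (C j) : Subgroup G) := fun x => ⟨1, by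
    apply Subtype.ext
    change (x : G) ^ 2 ^ 1 = 1
    rw [pow_one, pow_two]
    exact s.B_sq j _ x.2.1⟩
  obtain ⟨g, hg, hidx⟩ := exists_conj hAO hJO hJ2 hA4
  have key : ∀ u ∈ B j ⊓ YY (B j) (C j), u ∈ cj g A → InK R B j u := by
    intro u hu hug
    rw [mem_cj] at hug
    have h1 := conj_mem_of_normalizer hg.1 hug.2
    set b' := g * b * g⁻¹ with hb'
    have e1 : g * (g⁻¹ * u * g * b * (g⁻¹ * u * g)⁻¹ * b⁻¹) * g⁻¹ = u * b' * u⁻¹ * b'⁻¹ := by rw [hb']; group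
    rw [e1] at h1
    have h2 := hg.2 b hb
    have hb'B : b' ∈ B i := conj_mem_of_normalizer (hnB hg.1) hb
    have hb'V : ¬ ∀ v ∈ V, b' * v = v * b' := by
      intro hall
      apply hbV
      intro v hv
      have h3 := s.Y_V h2.2 v hv
      have e : b = (g * b * g⁻¹ * b⁻¹)⁻¹ * b' := by rw [hb']; group
      have h4 : (g * b * g⁻¹ * b⁻¹)⁻¹ * v = v * (g * b * g⁻¹ * b⁻¹)⁻¹ := by
        rw [inv_mul_eq_iff_eq_mul, ← mul_assoc, h3, mul_inv_cancel_right]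
      rw [e]
      calc (g * b * g⁻¹ * b⁻¹)⁻¹ * b' * v = (g * b * g⁻¹ * b⁻¹)⁻¹ * (b' * v) := by group
        _ = ((g * b * g⁻¹ * b⁻¹)⁻¹ * v) * b' := by rw [hall v hv]; group
        _ = v * ((g * b * g⁻¹ * b⁻¹)⁻¹ * b') := by rw [h4]; group
    have h5 := inv_mem h1
    have e2 : (u * b' * u⁻¹ * b'⁻¹)⁻¹ = b' * u * b'⁻¹ * u⁻¹ := by group
    rw [e2] at h5
    exact s.mem_R_of_comm hij hb'B hb'V hu.1 h5
  intro u hu w hw
  rcases mul_mem_of_le_two hidx hu hw with h | h | h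
  · exact Or.inl (key u hu h)
  · exact Or.inr (Or.inl (key w hw h))
  · exact Or.inr (Or.inr (key _ (mul_mem hu hw) h))

/-- **(3)** `I i = (R i) B₀` -/
theorem II_le [Finite G] {i : ι} (hY2 : ∀ y ∈ YY (B i) (C i), y * y = 1)
    (hQ : ∀ q ∈ O2 (normalizer (R i : Set G)), ∀ b ∈ B i, b * q * b⁻¹ * q⁻¹ ∈ R i)
    {T : Subgroup G} (hTR : T ≤ normalizer (R i : Set G))
    (h4 : ¬ 4 ∣ T.relIndex (normalizer (R i : Set G))) {b : G} (hb : b ∈ B i)
    (hbV : ¬ ∀ v ∈ V, b * v = v * b) (hbT : ∀ t ∈ T, b * t * b⁻¹ * t⁻¹ ∈ R i) :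
    ∀ t ∈ B i ⊓ YY (B i) (C i), InK R B i t := by
  obtain ⟨j, hji, -⟩ := s.third i i
  have hij := Ne.symm hji
  have h2 := two_of_index s hij hTR h4 hb hbV hbT
  have hJ : ∀ u ∈ B j ⊓ YY (B j) (C j), InK R B j u := fun u hu =>
    inK_of_comm s hij hY2 hQ hu fun t ht => comm_of_two s hij h2 hu ht
  intro t ht
  obtain ⟨m, -, -, x, hx, e⟩ := s.trans_B i j
  have h3 : x * t * x⁻¹ ∈ B j ⊓ YY (B j) (C j) := by
    have e1 : B j ⊓ YY (B j) (C j) = cj x (B i ⊓ YY (B i) (C i)) := by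
      rw [cj_inf, s.cB x i j e, s.cY e]
    rw [e1]
    exact conj_mem_cj ht
  obtain ⟨r, hr, y, hy, h5⟩ := hJ _ h3
  rw [← e, mem_cj] at hr
  refine ⟨x⁻¹ * r * x, hr, y, hy, ?_⟩
  have h6 := s.B0_comm hy m x hx
  calc t = x⁻¹ * (x * t * x⁻¹) * x := by group
    _ = x⁻¹ * r * (y * x) := by rw [h5]; group
    _ = x⁻¹ * r * x * y := by rw [← h6]; group

end side

/-! ### Two sides -/

/-- two sides of a mixed pair with `W₁`, `W₂` abelian, without a common 2-group -/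
structure TwoS (V₁ V₂ : Subgroup G) (R₁ B₁ C₁ : ι → Subgroup G) (R₂ B₂ C₂ : κ → Subgroup G) (i : ι) (j : κ) :
    Prop where
  s₁ : SideW V₁ R₁ B₁ C₁
  s₂ : SideW V₂ R₂ B₂ C₂
  hR : R₁ i = R₂ j
  hB : B₁ i = C₂ j
  hC : C₁ i = B₂ j
  ch : Char2 (normalizer (R₁ i : Set G))
  NL : ∀ K : Subgroup G, IsPGroup 2 K → ST V₁ R₁ ≤ normalizer (K : Set G) →
    ST V₂ R₂ ≤ normalizer (K : Set G) → normalizer (R₁ i : Set G) ≤ normalizer (K : Set G) → K = ⊥

namespace TwoS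

variable {V₁ V₂ : Subgroup G} {R₁ B₁ C₁ : ι → Subgroup G} {R₂ B₂ C₂ : κ → Subgroup G} {i : ι} {j : κ}
  (t : TwoS V₁ V₂ R₁ B₁ C₁ R₂ B₂ C₂ i j)
include t

theorem YY_eq_YY : YY (B₁ i) (C₁ i) = YY (B₂ j) (C₂ j) := by
  rw [YY, YY, t.hB, t.hC, sup_comm]

/-- `C_G(W₁ W₂)` is a 2-group -/
theorem Y_isPGroup [Finite G] : IsPGroup 2 (YY (B₁ i) (C₁ i)) := by
  set D := OD (YY (B₁ i) (C₁ i)) with hD
  have h1 : ST V₁ R₁ ≤ normalizer (D : Set G) := t.s₁.nOD i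
  have h2 : ST V₂ R₂ ≤ normalizer (D : Set G) := by
    rw [hD, t.YY_eq_YY]; exact t.s₂.nOD j
  have h3 : normalizer (R₁ i : Set G) ≤ normalizer (D : Set G) := by
    intro g hg
    rw [← cj_eq_self_iff, hD, cj_OD, cj_eq_self_iff.2 (t.s₁.nY i hg)]
  have hN : normalizer (D : Set G) ≤ normalizer (O2 D : Set G) := by
    intro g hg
    rw [← cj_eq_self_iff, cj_O2, cj_eq_self_iff.2 hg]
  have h4 : O2 D = ⊥ := t.NL _ (O2_isPGroup D) (h1.trans hN) (h2.trans hN) (h3.trans hN)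
  have hDR : D ≤ normalizer (R₁ i : Set G) := by
    intro x hx
    exact t.s₁.cV_le_NR (t.s₁.Y_V (OD_le _ hx)) i
  set Q := O2 (normalizer (R₁ i : Set G)) with hQ
  have hQR : Q ≤ normalizer (R₁ i : Set G) := O2_le _
  have h5 : D ⊓ Q ≤ O2 D := by
    refine le_O2_of_normal inf_le_left ((O2_isPGroup _).to_le inf_le_right) ?_
    rintro g hg a ⟨haD, haQ⟩
    exact ⟨D.mul_mem (D.mul_mem hg haD) (D.inv_mem hg),
      conj_mem_of_normalizer (le_normalizer_O2 _ (hDR hg)) haQ⟩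
  rw [h4] at h5
  have h6 : D ≤ Q := by
    intro d hd
    refine t.ch d (hDR hd) fun q hq => ?_
    apply comm_of_eq_one
    have : d * q * d⁻¹ * q⁻¹ ∈ D ⊓ Q := by
      refine ⟨?_, Q.mul_mem (conj_mem_of_normalizer (le_normalizer_O2 _ (hDR hd)) hq) (Q.inv_mem hq)⟩
      have e : d * q * d⁻¹ * q⁻¹ = d * (q * d⁻¹ * q⁻¹) := by group
      rw [e]
      exact D.mul_mem hd (conj_mem_of_normalizer (h3 (hQR hq)) (D.inv_mem hd))
    exact mem_bot.1 (h5 this)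
  have h7 : D = ⊥ := by
    rw [eq_bot_iff]
    exact fun d hd => h5 ⟨hd, h6 hd⟩
  exact isPGroup_of_OD h7

/-- `Y` has exponent 2 -/
theorem Y_sq [Finite G] {y : G} (hy : y ∈ YY (B₁ i) (C₁ i)) : y * y = 1 := by
  have h1 : ST V₁ R₁ ≤ normalizer (Sq (YY (B₁ i) (C₁ i)) : Set G) := by
    intro g hg
    rw [Sq_eq t.s₁ i, ← cj_eq_self_iff, cj_Sq, cj_eq_self_iff.2 (t.s₁.nD hg)]
  have h2 : ST V₂ R₂ ≤ normalizer (Sq (YY (B₁ i) (C₁ i)) : Set G) := by
    intro g hg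
    rw [t.YY_eq_YY, Sq_eq t.s₂ j, ← cj_eq_self_iff, cj_Sq, cj_eq_self_iff.2 (t.s₂.nD hg)]
  have h3 : normalizer (R₁ i : Set G) ≤ normalizer (Sq (YY (B₁ i) (C₁ i)) : Set G) := by
    intro g hg
    rw [← cj_eq_self_iff, cj_Sq, cj_eq_self_iff.2 (t.s₁.nY i hg)]
  have h4 : Sq (YY (B₁ i) (C₁ i)) ≤ YY (B₁ i) (C₁ i) := by
    rw [Sq, closure_le]
    rintro _ ⟨y, hy, rfl⟩
    exact mul_mem hy hy
  have h5 := t.NL _ (t.Y_isPGroup.to_le h4) h1 h2 h3
  have h6 : y * y ∈ Sq (YY (B₁ i) (C₁ i)) := subset_closure ⟨y, hy, rfl⟩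
  rw [h5] at h6
  exact mem_bot.1 h6

/-- **THEOREM MIX2, abstract form.** -/
theorem false_of [Finite G] {n : G} (mem_R : ∀ g, g ∈ R₂ j ↔ g = 1 ∨ g = n)
    (hQ : ∀ q ∈ O2 (normalizer (R₂ j : Set G)), ∀ b ∈ B₂ j, b * q * b⁻¹ * q⁻¹ ∈ R₂ j)
    {T : Subgroup G} (hTR : T ≤ normalizer (R₂ j : Set G))
    (h4 : ¬ 4 ∣ T.relIndex (normalizer (R₂ j : Set G))) {b : G} (hb : b ∈ B₂ j)
    (hbV : ¬ ∀ v ∈ V₂, b * v = v * b) (hbT : ∀ t ∈ T, b * t * b⁻¹ * t⁻¹ ∈ R₂ j)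
    {x y : G} (hx : x ∈ B₂ j ⊓ YY (B₂ j) (C₂ j)) (hy : y ∈ B₂ j ⊓ YY (B₂ j) (C₂ j))
    (good : ∀ z : G, z = x ∨ z = y ∨ z = x * y → n ∈ O2 (centralizer ({z} : Set G)) ∧
      ∀ q ∈ O2 (centralizer ({z} : Set G)), b * q = q * b) : False := by
  have hY2 : ∀ y ∈ YY (B₂ j) (C₂ j), y * y = 1 := by
    intro y hy
    rw [← t.YY_eq_YY] at hy
    exact t.Y_sq hy
  have hI := II_le t.s₂ hY2 hQ hTR h4 hb hbV hbT
  -- `z ∈ B₀`
  obtain ⟨z, hz, hzB⟩ : ∃ z, (z = x ∨ z = y ∨ z = x * y) ∧ z ∈ ⨅ k, B₂ k := by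
    obtain ⟨r, hr, x', hx', ex⟩ := hI x hx
    obtain ⟨r', hr', y', hy', ey⟩ := hI y hy
    rcases (mem_R r).1 hr with rfl | rfl
    · exact ⟨x, Or.inl rfl, by rw [ex, one_mul]; exact hx'⟩
    rcases (mem_R r').1 hr' with rfl | rfl
    · exact ⟨y, Or.inr (Or.inl rfl), by rw [ey, one_mul]; exact hy'⟩
    refine ⟨x * y, Or.inr (Or.inr rfl), ?_⟩
    have h1 : r' * x' = x' * r' := t.s₂.B0_comm hx' j r' (t.s₂.R_B j hr')
    have h2 : r' * r' = 1 := t.s₂.B_sq j r' (t.s₂.R_B j hr')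
    have e : x * y = x' * y' := by
      calc x * y = (r' * x') * r' * y' := by rw [ex, ey]; group
        _ = x' * (r' * r') * y' := by rw [h1]; group
        _ = x' * y' := by rw [h2, mul_one]
    rw [e]
    exact mul_mem hx' hy'
  obtain ⟨g1, g2⟩ := good z hz
  have hBz : ∀ k, ∀ c ∈ B₂ k, c ∈ centralizer ({z} : Set G) := fun k c hc =>
    mem_centralizer_singleton_iff.2 (t.s₂.B0_comm hzB k c hc)
  obtain ⟨k, hkj, -⟩ := t.s₂.third j j
  obtain ⟨m, -, -, w, hw, e⟩ := t.s₂.trans_B j k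
  have hRk : ∀ r ∈ R₂ k, b * r = r * b := by
    intro r hr
    rw [← e, mem_cj] at hr
    apply g2
    rcases (mem_R _).1 hr with h | h
    · have h1 : r = 1 := by
        calc r = w * (w⁻¹ * r * w) * w⁻¹ := by group
          _ = 1 := by rw [h]; group
      rw [h1]; exact one_mem _
    · have h1 : r = w * n * w⁻¹ := by
        calc r = w * (w⁻¹ * r * w) * w⁻¹ := by group
          _ = w * n * w⁻¹ := by rw [h]
      rw [h1]
      exact conj_mem_of_normalizer (le_normalizer_O2 _ (hBz m w hw)) g1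
  apply hbV
  refine t.s₂.free j k hkj b hb ?_
  rw [cj_eq_self_iff]
  refine mem_normalizer_of_conj fun r hr => ?_
  rw [hRk r hr, mul_inv_cancel_right]
  exact hr

end TwoS

end Cfsg.Agent.Omega.IId.MixAny

end

section


/-!
# THEOREM MIX2: the side of a four-group (helper994)

`V` a four-group with `N_G(V)` transitive on `V#`, `n ∈ V#`; `A`, `C₀` elementary abelian, normalised by `C_G(n)`,
`n ∈ A`, `V ≤ C₀`, `[C₀, A] ≤ ⟨n⟩`, `A` moves `V`.  `tr A n x` is the conjugate `A^g`, `x = n^g`.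

* `Node.side` : `SideW V R B C` with the three points `⟨x⟩`, `x ∈ V#`, `B x = A^g`, `C x = C₀^g`.
-/

set_option autoImplicit false
set_option linter.unusedSectionVars false

namespace Cfsg.Agent.Omega.IId.MixAny

open Subgroup Cfsg.Agent.Omega.BTwo Cfsg.Agent.Omega.Mix Cfsg.Agent.Omega.MixOne

variable {G : Type*} [Group G]

/-- the nontrivial elements of `V` -/
abbrev Pt (V : Subgroup G) := {x : G // x ∈ V ∧ x ≠ 1}

/-- the conjugates `A^g`, `n^g = x` -/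
def tr (A : Subgroup G) (n x : G) : Subgroup G :=
  closure {y | ∃ g a, g * n * g⁻¹ = x ∧ a ∈ A ∧ y = g * a * g⁻¹}

theorem tr_eq {A : Subgroup G} {n : G} (hA : ∀ c, c * n = n * c → ∀ a ∈ A, c * a * c⁻¹ ∈ A) {g x : G}
    (e : g * n * g⁻¹ = x) : tr A n x = cj g A := by
  apply le_antisymm
  · rw [tr, closure_le]
    rintro _ ⟨h, a, e', ha, rfl⟩
    change h * a * h⁻¹ ∈ cj g A
    rw [mem_cj]
    have h1 : (g⁻¹ * h) * n = n * (g⁻¹ * h) := by
      have e1 : h * n * h⁻¹ = g * n * g⁻¹ := by rw [e', e]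
      calc (g⁻¹ * h) * n = g⁻¹ * (h * n * h⁻¹) * h := by group
        _ = n * (g⁻¹ * h) := by rw [e1]; group
    have h2 := hA _ h1 a ha
    have e2 : g⁻¹ * h * a * (g⁻¹ * h)⁻¹ = g⁻¹ * (h * a * h⁻¹) * g := by group
    rwa [e2] at h2
  · rw [cj_le_iff]
    intro a ha
    exact subset_closure ⟨g, a, e, ha, rfl⟩

theorem cj_tr_le (A : Subgroup G) (n x g : G) : cj g (tr A n x) ≤ tr A n (g * x * g⁻¹) := by
  rw [cj, map_le_iff_le_comap, tr, closure_le]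
  rintro _ ⟨h, a, e, ha, rfl⟩
  change (MulAut.conj g) (h * a * h⁻¹) ∈ tr A n (g * x * g⁻¹)
  rw [MulAut.conj_apply]
  refine subset_closure ⟨g * h, a, ?_, ha, ?_⟩
  · rw [← e]; group
  · group

theorem cj_tr (A : Subgroup G) (n x g : G) : cj g (tr A n x) = tr A n (g * x * g⁻¹) := by
  refine le_antisymm (cj_tr_le A n x g) ?_
  have h1 := cj_tr_le A n (g * x * g⁻¹) g⁻¹
  have e : g⁻¹ * (g * x * g⁻¹) * g⁻¹⁻¹ = x := by group
  rw [e] at h1
  have h2 := cj_mono (g := g) h1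
  rwa [cj_cj_inv] at h2

theorem mem_zp {x : G} (hx : x * x = 1) {y : G} : y ∈ zpowers x ↔ y = 1 ∨ y = x := by
  constructor
  · rintro ⟨m, rfl⟩
    change x ^ m = 1 ∨ x ^ m = x
    have h2 : x ^ (2 : ℤ) = 1 := by
      rw [zpow_two]; exact hx
    rcases Int.even_or_odd' m with ⟨k, rfl | rfl⟩
    · left; rw [zpow_mul, h2, one_zpow]
    · right; rw [zpow_add, zpow_mul, h2, one_zpow, one_mul, zpow_one]
  · rintro (rfl | rfl)
    · exact one_mem _
    · exact mem_zpowers _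

/-- `cj g ⟨x⟩ = ⟨y⟩` for involutions -/
theorem cj_zp {x y : G} (hx : x * x = 1) (hy : y * y = 1) {g : G} :
    cj g (zpowers x) = zpowers y ↔ g * x * g⁻¹ = y := by
  have e : cj g (zpowers x) = zpowers (g * x * g⁻¹) := by
    rw [cj, MonoidHom.map_zpowers]
    rfl
  rw [e]
  have hx' : g * x * g⁻¹ * (g * x * g⁻¹) = 1 := by
    calc g * x * g⁻¹ * (g * x * g⁻¹) = g * (x * x) * g⁻¹ := by group
      _ = 1 := by rw [hx]; group
  constructor
  · intro h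
    have h1 : g * x * g⁻¹ ∈ zpowers y := by rw [← h]; exact mem_zpowers _
    rcases (mem_zp hy).1 h1 with h2 | h2
    · have h3 : y ∈ zpowers (g * x * g⁻¹) := by rw [h]; exact mem_zpowers _
      rcases (mem_zp hx').1 h3 with h4 | h4
      · rw [h2, h4]
      · exact h4.symm
    · exact h2
  · intro h
    rw [h]

/-- the situation at a four-group -/
structure Node (V A C₀ : Subgroup G) (n : G) : Prop where
  card : Nat.card V = 4
  sq : ∀ v ∈ V, v * v = 1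
  n_mem : n ∈ V
  n_ne : n ≠ 1
  trans : ∀ v ∈ V, v ≠ 1 → ∃ g ∈ normalizer (V : Set G), g * n * g⁻¹ = v
  nA : ∀ c, c * n = n * c → ∀ a ∈ A, c * a * c⁻¹ ∈ A
  nC : ∀ c, c * n = n * c → ∀ a ∈ C₀, c * a * c⁻¹ ∈ C₀
  A_comm : ∀ a ∈ A, ∀ b ∈ A, a * b = b * a
  A_sq : ∀ a ∈ A, a * a = 1
  C_comm : ∀ a ∈ C₀, ∀ b ∈ C₀, a * b = b * a
  C_sq : ∀ a ∈ C₀, a * a = 1
  n_A : n ∈ A
  V_C : V ≤ C₀
  CA : ∀ c ∈ C₀, ∀ a ∈ A, c * a * c⁻¹ * a⁻¹ = 1 ∨ c * a * c⁻¹ * a⁻¹ = n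
  move : ∃ a ∈ A, ∃ v ∈ V, a * v ≠ v * a

namespace Node

variable {V A C₀ : Subgroup G} {n : G} (N : Node V A C₀ n)
include N

theorem comm {v w : G} (hv : v ∈ V) (hw : w ∈ V) : v * w = w * v := N.C_comm v (N.V_C hv) w (N.V_C hw)

theorem all [Finite G] {i j : G} (hi : i ∈ V) (hj : j ∈ V) (hi1 : i ≠ 1) (hj1 : j ≠ 1) (hij : i ≠ j) :
    ∀ v ∈ V, v = 1 ∨ v = i ∨ v = j ∨ v = i * j := by
  classical
  have h1 : ({1, i, j, i * j} : Finset G).card = 4 := by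
    rw [Finset.card_insert_of_notMem, Finset.card_insert_of_notMem, Finset.card_insert_of_notMem,
      Finset.card_singleton]
    · simp only [Finset.mem_singleton]
      intro h
      exact hi1 (by simpa using h)
    · simp only [Finset.mem_insert, Finset.mem_singleton, not_or]
      exact ⟨hij, fun h => hj1 (by simpa using h)⟩
    · simp only [Finset.mem_insert, Finset.mem_singleton, not_or]
      refine ⟨Ne.symm hi1, Ne.symm hj1, fun h => hij ?_⟩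
      have h2 : i = j⁻¹ := eq_inv_of_mul_eq_one_left h.symm
      rw [h2]
      exact inv_eq_of_mul_eq_one_left (N.sq j hj)
  have h2 : (({1, i, j, i * j} : Finset G) : Set G) ⊆ (V : Set G) := by
    intro x hx
    simp only [Finset.coe_insert, Finset.coe_singleton, Set.mem_insert_iff, Set.mem_singleton_iff] at hx
    rcases hx with rfl | rfl | rfl | rfl
    · exact one_mem _
    · exact hi
    · exact hj
    · exact mul_mem hi hj
  have h3 : (({1, i, j, i * j} : Finset G) : Set G) = (V : Set G) := by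
    refine Set.eq_of_subset_of_ncard_le h2 ?_ (Set.toFinite _)
    rw [Set.ncard_coe_finset, h1]
    have h4 : (V : Set G).ncard = Nat.card V := rfl
    rw [h4, N.card]
  intro v hv
  have h5 : v ∈ (({1, i, j, i * j} : Finset G) : Set G) := by rw [h3]; exact hv
  simpa using h5

theorem exists_move {x : G} (hx : x ∈ V) (hx1 : x ≠ 1) : ∃ b ∈ tr A n x, ∃ v ∈ V, b * v ≠ v * b := by
  obtain ⟨g, hg, e⟩ := N.trans x hx hx1
  obtain ⟨a, ha, v, hv, hne⟩ := N.move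
  refine ⟨g * a * g⁻¹, ?_, g * v * g⁻¹, conj_mem_of_normalizer hg hv, fun h => hne ?_⟩
  · rw [tr_eq N.nA e]
    exact conj_mem_cj ha
  · calc a * v = g⁻¹ * (g * a * g⁻¹ * (g * v * g⁻¹)) * g := by group
      _ = g⁻¹ * (g * v * g⁻¹ * (g * a * g⁻¹)) * g := by rw [h]
      _ = v * a := by group

theorem x_mem {x : G} (hx : x ∈ V) (hx1 : x ≠ 1) : x ∈ tr A n x := by
  obtain ⟨g, hg, e⟩ := N.trans x hx hx1
  rw [tr_eq N.nA e, ← e]
  exact conj_mem_cj N.n_A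

theorem B_comm {x : G} (hx : x ∈ V) (hx1 : x ≠ 1) {a b : G} (ha : a ∈ tr A n x) (hb : b ∈ tr A n x) :
    a * b = b * a := by
  obtain ⟨g, hg, e⟩ := N.trans x hx hx1
  rw [tr_eq N.nA e] at ha hb
  obtain ⟨a, ha, rfl⟩ := ha
  obtain ⟨b, hb, rfl⟩ := hb
  have := N.A_comm a ha b hb
  change (MulAut.conj g) a * (MulAut.conj g) b = (MulAut.conj g) b * (MulAut.conj g) a
  rw [← map_mul, this, map_mul]

theorem B_sq {x : G} (hx : x ∈ V) (hx1 : x ≠ 1) {a : G} (ha : a ∈ tr A n x) : a * a = 1 := by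
  obtain ⟨g, hg, e⟩ := N.trans x hx hx1
  rw [tr_eq N.nA e] at ha
  obtain ⟨a, ha, rfl⟩ := ha
  have := N.A_sq a ha
  change (MulAut.conj g) a * (MulAut.conj g) a = 1
  rw [← map_mul, this, map_one]

theorem CC_comm {x : G} (hx : x ∈ V) (hx1 : x ≠ 1) {a b : G} (ha : a ∈ tr C₀ n x) (hb : b ∈ tr C₀ n x) :
    a * b = b * a := by
  obtain ⟨g, hg, e⟩ := N.trans x hx hx1
  rw [tr_eq N.nC e] at ha hb
  obtain ⟨a, ha, rfl⟩ := ha
  obtain ⟨b, hb, rfl⟩ := hb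
  have := N.C_comm a ha b hb
  change (MulAut.conj g) a * (MulAut.conj g) b = (MulAut.conj g) b * (MulAut.conj g) a
  rw [← map_mul, this, map_mul]

theorem CC_sq {x : G} (hx : x ∈ V) (hx1 : x ≠ 1) {a : G} (ha : a ∈ tr C₀ n x) : a * a = 1 := by
  obtain ⟨g, hg, e⟩ := N.trans x hx hx1
  rw [tr_eq N.nC e] at ha
  obtain ⟨a, ha, rfl⟩ := ha
  have := N.C_sq a ha
  change (MulAut.conj g) a * (MulAut.conj g) a = 1
  rw [← map_mul, this, map_one]

theorem V_CC {x : G} (hx : x ∈ V) (hx1 : x ≠ 1) : V ≤ tr C₀ n x := by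
  obtain ⟨g, hg, e⟩ := N.trans x hx hx1
  rw [tr_eq N.nC e]
  calc V = cj g V := (cj_eq_self_iff.2 hg).symm
    _ ≤ cj g C₀ := cj_mono N.V_C

theorem CCA {x : G} (hx : x ∈ V) (hx1 : x ≠ 1) {c a : G} (hc : c ∈ tr C₀ n x) (ha : a ∈ tr A n x) :
    c * a * c⁻¹ * a⁻¹ = 1 ∨ c * a * c⁻¹ * a⁻¹ = x := by
  obtain ⟨g, hg, e⟩ := N.trans x hx hx1
  rw [tr_eq N.nA e] at ha
  rw [tr_eq N.nC e] at hc
  obtain ⟨a, ha, rfl⟩ := ha
  obtain ⟨c, hc, rfl⟩ := hc
  have h1 : (MulAut.conj g) c * (MulAut.conj g) a * ((MulAut.conj g) c)⁻¹ * ((MulAut.conj g) a)⁻¹ =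
    g * (c * a * c⁻¹ * a⁻¹) * g⁻¹ := by
    simp only [MulAut.conj_apply]
    group
  change (MulAut.conj g) c * (MulAut.conj g) a * ((MulAut.conj g) c)⁻¹ * ((MulAut.conj g) a)⁻¹ = 1 ∨
    (MulAut.conj g) c * (MulAut.conj g) a * ((MulAut.conj g) c)⁻¹ * ((MulAut.conj g) a)⁻¹ = x
  rw [h1]
  rcases N.CA c hc a ha with h | h
  · left; rw [h]; group
  · right; rw [h, e]

/-- `b ∈ B i` centralising a second point centralises `V` -/
theorem cent_of [Finite G] {i j : G} (hi : i ∈ V) (hi1 : i ≠ 1) (hj : j ∈ V) (hj1 : j ≠ 1) (hij : i ≠ j)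
    {b : G} (hb : b ∈ tr A n i) (h : b * j = j * b) : ∀ v ∈ V, b * v = v * b := by
  have h1 : b * i = i * b := N.B_comm hi hi1 hb (N.x_mem hi hi1)
  intro v hv
  rcases N.all hi hj hi1 hj1 hij v hv with rfl | rfl | rfl | rfl
  · rw [mul_one, one_mul]
  · exact h1
  · exact h
  · calc b * (i * j) = (b * i) * j := by group
      _ = i * (b * j) := by rw [h1]; group
      _ = i * j * b := by rw [h]; group

theorem conj_B [Finite G] {i j : G} (hi : i ∈ V) (hi1 : i ≠ 1) (hj : j ∈ V)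
    {b : G} (hb : b ∈ tr A n i) : b * j * b⁻¹ = j ∨ b * j * b⁻¹ = i * j := by
  have h1 := N.CCA hi hi1 (N.V_CC hi hi1 hj) hb
  have hii := N.sq i hi
  rcases h1 with h1 | h1
  · left
    calc b * j * b⁻¹ = (j * b * j⁻¹ * b⁻¹)⁻¹ * j := by group
      _ = j := by rw [h1]; group
  · right
    calc b * j * b⁻¹ = (j * b * j⁻¹ * b⁻¹)⁻¹ * j := by group
      _ = i * j := by rw [h1, inv_eq_of_mul_eq_one_left hii]

/-- the side -/
theorem side [Finite G] : SideW V (fun x : Pt V => zpowers x.1) (fun x => tr A n x.1) (fun x => tr C₀ n x.1) where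
  third := by
    rintro ⟨i, hi, hi1⟩ ⟨j, hj, hj1⟩
    by_cases hij : i = j
    · subst hij
      by_contra hcon
      push Not at hcon
      have h1 : ∀ v ∈ V, v = 1 ∨ v = i := by
        intro v hv
        by_contra h
        rw [not_or] at h
        have h2 := hcon ⟨v, hv, h.1⟩ (fun e => h.2 (congrArg Subtype.val e))
        exact h.2 (congrArg Subtype.val h2)
      obtain ⟨a, ha, v, hv, hne⟩ := N.exists_move hi hi1
      rcases h1 v hv with rfl | rfl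
      · exact hne (by rw [mul_one, one_mul])
      · exact hne (N.B_comm hi hi1 ha (N.x_mem hi hi1))
    · refine ⟨⟨i * j, mul_mem hi hj, fun h => hij ?_⟩, fun h => hj1 ?_, fun h => hi1 ?_⟩
      · have h2 : i = j⁻¹ := eq_inv_of_mul_eq_one_left h
        rw [h2]
        exact inv_eq_of_mul_eq_one_left (N.sq j hj)
      · have := congrArg Subtype.val h
        change i * j = i at this
        simpa using this
      · have := congrArg Subtype.val h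
        change i * j = j at this
        simpa using this
  V_C := fun x => N.V_CC x.2.1 x.2.2
  R_V := fun x => by
    rw [zpowers_le]
    exact x.2.1
  R_B := fun x => by
    rw [zpowers_le]
    exact N.x_mem x.2.1 x.2.2
  R_ne := fun x => by
    rw [Ne, zpowers_eq_bot]
    exact x.2.2
  R_inf := by
    rintro ⟨i, hi, hi1⟩ ⟨j, hj, hj1⟩ hij
    rw [eq_bot_iff]
    rintro y ⟨h1, h2⟩
    rw [mem_bot]
    rcases (mem_zp (N.sq i hi)).1 h1 with h3 | h3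
    · exact h3
    rcases (mem_zp (N.sq j hj)).1 h2 with h4 | h4
    · exact h4
    · exact absurd (Subtype.ext (h3.symm.trans h4)) hij
  B_comm := fun x a ha b hb => N.B_comm x.2.1 x.2.2 ha hb
  B_sq := fun x a ha => N.B_sq x.2.1 x.2.2 ha
  C_comm := fun x a ha b hb => N.CC_comm x.2.1 x.2.2 ha hb
  C_sq := fun x a ha => N.CC_sq x.2.1 x.2.2 ha
  CB := fun x c hc b hb => (mem_zp (N.sq _ x.2.1)).2 (N.CCA x.2.1 x.2.2 hc hb)
  B_NV := by
    intro x b hb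
    refine mem_normalizer_of_conj fun v hv => ?_
    rcases N.conj_B x.2.1 x.2.2 hv hb with h | h
    · rw [h]; exact hv
    · rw [h]; exact mul_mem x.2.1 hv
  nB := by
    intro x g hg
    have h1 : g * x.1 * g⁻¹ = x.1 := (cj_zp (N.sq _ x.2.1) (N.sq _ x.2.1)).1 (cj_eq_self_iff.2 hg)
    rw [← cj_eq_self_iff, cj_tr, h1]
  nC := by
    intro x g hg
    have h1 : g * x.1 * g⁻¹ = x.1 := (cj_zp (N.sq _ x.2.1) (N.sq _ x.2.1)).1 (cj_eq_self_iff.2 hg)
    rw [← cj_eq_self_iff, cj_tr, h1]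
  perm := by
    intro m g hg i
    have h1 : g * i.1 * g⁻¹ ∈ V := by
      rcases N.conj_B m.2.1 m.2.2 i.2.1 hg with h | h
      · rw [h]; exact i.2.1
      · rw [h]; exact mul_mem m.2.1 i.2.1
    refine ⟨⟨g * i.1 * g⁻¹, h1, fun h => i.2.2 ?_⟩, ?_⟩
    · calc i.1 = g⁻¹ * (g * i.1 * g⁻¹) * g := by group
        _ = 1 := by rw [h]; group
    · exact (cj_zp (N.sq _ i.2.1) (N.sq _ h1)).2 rfl
  cB := by
    intro g i j e
    rw [cj_tr, (cj_zp (N.sq _ i.2.1) (N.sq _ j.2.1)).1 e]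
  cC := by
    intro g i j e
    rw [cj_tr, (cj_zp (N.sq _ i.2.1) (N.sq _ j.2.1)).1 e]
  trans := by
    intro i j k hji hki
    by_cases hjk : j = k
    · subst hjk
      exact ⟨1, one_mem _, cj_one _⟩
    · obtain ⟨b, hb, v, hv, hne⟩ := N.exists_move i.2.1 i.2.2
      have hij : i.1 ≠ j.1 := fun h => hji (Subtype.ext h.symm)
      refine ⟨b, hb, (cj_zp (N.sq _ j.2.1) (N.sq _ k.2.1)).2 ?_⟩
      rcases N.conj_B i.2.1 i.2.2 j.2.1 hb with h | h
      · exfalso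
        apply hne
        exact N.cent_of i.2.1 i.2.2 j.2.1 j.2.2 hij hb (mul_inv_eq_iff_eq_mul.1 h) v hv
      · rw [h]
        rcases N.all i.2.1 j.2.1 i.2.2 j.2.2 hij k.1 k.2.1 with h1 | h1 | h1 | h1
        · exact absurd h1 k.2.2
        · exact absurd (Subtype.ext h1) hki
        · exact absurd (Subtype.ext h1.symm) hjk
        · exact h1.symm
  free := by
    intro i j hji b hb e
    have h1 := (cj_zp (N.sq _ j.2.1) (N.sq _ j.2.1)).1 e
    exact N.cent_of i.2.1 i.2.2 j.2.1 j.2.2 (fun h => hji (Subtype.ext h.symm)) hb (mul_inv_eq_iff_eq_mul.1 h1)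
  VB := by
    intro i v hv h
    rw [mem_zp (N.sq _ i.2.1)]
    by_contra hcon
    rw [not_or] at hcon
    obtain ⟨b, hb, w, hw, hne⟩ := N.exists_move i.2.1 i.2.2
    exact hne (N.cent_of i.2.1 i.2.2 hv hcon.1 (Ne.symm hcon.2) hb (h b hb) w hw)

theorem ST_eq [Finite G] : ST V (fun x : Pt V => zpowers x.1) = normalizer (V : Set G) := by
  refine le_antisymm (ST_le _ _) fun g hg => ⟨cj_eq_self_iff.2 hg, fun i => ?_, fun i => ?_⟩
  · have h1 : g * i.1 * g⁻¹ ∈ V := conj_mem_of_normalizer hg i.2.1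
    refine ⟨⟨g * i.1 * g⁻¹, h1, fun h => i.2.2 ?_⟩, ?_⟩
    · calc i.1 = g⁻¹ * (g * i.1 * g⁻¹) * g := by group
        _ = 1 := by rw [h]; group
    · exact (cj_zp (N.sq _ i.2.1) (N.sq _ h1)).2 rfl
  · have h1 : g⁻¹ * i.1 * g⁻¹⁻¹ ∈ V := conj_mem_of_normalizer (inv_mem hg) i.2.1
    refine ⟨⟨g⁻¹ * i.1 * g⁻¹⁻¹, h1, fun h => i.2.2 ?_⟩, ?_⟩
    · calc i.1 = g * (g⁻¹ * i.1 * g⁻¹⁻¹) * g⁻¹ := by group
        _ = 1 := by rw [h]; group
    · exact (cj_zp (N.sq _ i.2.1) (N.sq _ h1)).2 rfl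

theorem tr_n : tr A n n = A := by
  rw [tr_eq N.nA (g := 1) (by group), cj_one]

theorem tr_n' : tr C₀ n n = C₀ := by
  rw [tr_eq N.nC (g := 1) (by group), cj_one]

theorem norm_zp : normalizer (zpowers n : Set G) = centralizer ({n} : Set G) := by
  ext g
  rw [← cj_eq_self_iff, cj_zp (N.sq n N.n_mem) (N.sq n N.n_mem), mem_centralizer_singleton_iff,
    mul_inv_eq_iff_eq_mul]

end Node

end Cfsg.Agent.Omega.IId.MixAny

end

section


/-!
# THEOREM MIX-S (helper994): the count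

* `SylIdx.exists_conj_pow` : `2^(d+1) ∤ |O : A|`, `J` a 2-subgroup of `O`: `|J : J ∩ A^g| ≤ 2^d` for some `g ∈ O`;
* `MixAny.relIndex_B0_le` : `|I i : B₀| ≤ 2^(d+1)` if a 2-group `T ≤ N(R i)`, `2^(d+1) ∤ |N(R i) : T|`, fixes a coset
  `b (R i)`, `b ∈ B i` moving `V`;
* `MixAny.false_of_goodPt` : no `z ∈ B₀` with `n ∈ O₂(C_G(z))`, `[b, O₂(C_G(z))] = 1`, `b ∈ B i` moving `V`;
* `MixAny.exists_pigeon` : pigeonhole.
-/

set_option autoImplicit false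
set_option linter.unusedSectionVars false

namespace Cfsg.Agent.Omega.IId.SylIdx

open Subgroup Cfsg.Agent.Omega.BTwo

theorem exists_conj_top_pow {O : Type*} [Group O] [Finite O] {A J : Subgroup O} (hJ : IsPGroup 2 J) {d : ℕ}
    (h4 : ¬ 2 ^ (d + 1) ∣ A.index) : ∃ g : O, (cj g A).relIndex J ≤ 2 ^ d := by
  have : Fact (Nat.Prime 2) := ⟨Nat.prime_two⟩
  obtain ⟨Pa, hPa⟩ := hJ.exists_le_sylow
  obtain ⟨B⟩ : Nonempty (Sylow 2 A) := inferInstance
  have hB' : IsPGroup 2 ((B : Subgroup A).map A.subtype) := B.isPGroup'.map _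
  obtain ⟨Pb, hPb⟩ := hB'.exists_le_sylow
  obtain ⟨g, hg⟩ := MulAction.exists_smul_eq O Pb Pa
  refine ⟨g, ?_⟩
  set Bg := cj g ((B : Subgroup A).map A.subtype) with hBg
  have h1 : Bg ≤ cj g A := cj_mono (map_subtype_le _)
  have h2 : Bg ≤ (Pa : Subgroup O) := by
    rw [← hg]
    rw [Sylow.coe_subgroup_smul]
    rintro x ⟨y, hy, rfl⟩
    exact Subgroup.smul_mem_pointwise_smul _ (MulAut.conj g) _ (hPb hy)
  have c1 : Nat.card Bg = 2 ^ (Nat.card A).factorization 2 := by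
    rw [hBg, card_cj, ← B.card_eq_multiplicity]
    exact Nat.card_congr ((B : Subgroup A).equivMapOfInjective A.subtype A.subtype_injective).toEquiv.symm
  have c2 := Pa.card_eq_multiplicity
  have hc : Nat.card O = Nat.card A * A.index := (A.card_mul_index).symm
  have hi0 : A.index ≠ 0 := A.index_ne_zero_of_finite
  have hA0 : Nat.card A ≠ 0 := Nat.card_pos.ne'
  have hf : A.index.factorization 2 ≤ d := by
    by_contra h
    apply h4
    exact (Nat.prime_two.pow_dvd_iff_le_factorization hi0).2 (by omega)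
  have c3 : Nat.card (Pa : Subgroup O) ≤ 2 ^ d * Nat.card Bg := by
    rw [c2, c1, hc, Nat.factorization_mul hA0 hi0, Finsupp.add_apply, pow_add, mul_comm]
    exact Nat.mul_le_mul_right _ (Nat.pow_le_pow_right (by norm_num) hf)
  have c4 : Bg.relIndex (Pa : Subgroup O) ≤ 2 ^ d := by
    have h5 : Nat.card Bg * Bg.relIndex (Pa : Subgroup O) = Nat.card (Pa : Subgroup O) := by
      have h6 := relIndex_mul_relIndex ⊥ Bg (Pa : Subgroup O) bot_le h2
      rwa [relIndex_bot_left, relIndex_bot_left] at h6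
    have h7 : Nat.card Bg * Bg.relIndex (Pa : Subgroup O) ≤ Nat.card Bg * 2 ^ d := by
      rw [h5, mul_comm]; exact c3
    exact Nat.le_of_mul_le_mul_left h7 Nat.card_pos
  have fin : ∀ H K : Subgroup O, H.relIndex K ≠ 0 := fun H K => Subgroup.index_ne_zero_of_finite
  calc (cj g A).relIndex J ≤ Bg.relIndex J := relIndex_le_of_le_left h1 (fin _ _)
    _ ≤ Bg.relIndex (Pa : Subgroup O) := relIndex_le_of_le_right hPa (fin _ _)
    _ ≤ 2 ^ d := c4

theorem exists_conj_pow {G : Type*} [Group G] [Finite G] {O A J : Subgroup G} (hAO : A ≤ O) (hJO : J ≤ O)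
    (hJ : IsPGroup 2 J) {d : ℕ} (h4 : ¬ 2 ^ (d + 1) ∣ A.relIndex O) : ∃ g ∈ O, (cj g A).relIndex J ≤ 2 ^ d := by
  obtain ⟨g, hg⟩ := exists_conj_top_pow (O := O) (A := A.subgroupOf O) (J := J.subgroupOf O)
    (hJ.comap_of_injective _ O.subtype_injective) h4
  refine ⟨g, g.2, ?_⟩
  have e1 : (J.subgroupOf O).map O.subtype = J := by
    rw [subgroupOf_map_subtype, inf_eq_left.2 hJO]
  have e2 : (cj g (A.subgroupOf O)).map O.subtype = cj (g : G) A := by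
    rw [cj, map_map, cj]
    conv_rhs => rw [← inf_eq_left.2 hAO, ← subgroupOf_map_subtype, map_map]
    rfl
  have h1 := relIndex_map_map_of_injective (cj g (A.subgroupOf O)) (J.subgroupOf O) O.subtype_injective
  rw [e1, e2] at h1
  rw [h1]
  exact hg

theorem relIndex_cj {G : Type*} [Group G] (g : G) (A B : Subgroup G) :
    (cj g A).relIndex (cj g B) = A.relIndex B :=
  relIndex_map_map_of_injective A B (MulAut.conj g).injective

/-- `A ∩ J ≤ X`, `|X : X ∩ B| ≤ b`, `|J : J ∩ A| ≤ a` imply `|J : J ∩ B| ≤ b a` -/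
theorem relIndex_le_mul {G : Type*} [Group G] [Finite G] {A J X B : Subgroup G} (hX : A ⊓ J ≤ X) {a b : ℕ}
    (ha : A.relIndex J ≤ a) (hb : B.relIndex X ≤ b) : B.relIndex J ≤ b * a := by
  have fin : ∀ H K : Subgroup G, H.relIndex K ≠ 0 := fun H K => Subgroup.index_ne_zero_of_finite
  have h1 : (B ⊓ (A ⊓ J)).relIndex (A ⊓ J) * (A ⊓ J).relIndex J = (B ⊓ (A ⊓ J)).relIndex J :=
    relIndex_mul_relIndex _ _ _ inf_le_right inf_le_right
  rw [inf_relIndex_right, inf_relIndex_right] at h1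
  calc B.relIndex J ≤ (B ⊓ (A ⊓ J)).relIndex J := relIndex_le_of_le_left inf_le_left (fin _ _)
    _ = B.relIndex (A ⊓ J) * A.relIndex J := h1.symm
    _ ≤ b * a := Nat.mul_le_mul ((relIndex_le_of_le_right hX (fin _ _)).trans hb) ha

end Cfsg.Agent.Omega.IId.SylIdx

namespace Cfsg.Agent.Omega.IId.MixAny

open Subgroup Cfsg.Agent.Omega.BTwo Cfsg.Agent.Omega.Mix Cfsg.Agent.Omega.MixOne
open Cfsg.Agent.Omega.IId.SylIdx

variable {G : Type*} [Group G] {ι : Type*} {V : Subgroup G} {R B C : ι → Subgroup G} (s : SideW V R B C)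
include s

/-- `B₀` has index at most 2 in a subgroup of `(R j) B₀` -/
theorem B0_relIndex_le [Finite G] {j : ι} (hR2 : Nat.card (R j) = 2) {X : Subgroup G} (hX : ∀ x ∈ X, InK R B j x) :
    (⨅ k, B k).relIndex X ≤ 2 := by
  have fin : ∀ H K : Subgroup G, H.relIndex K ≠ 0 := fun H K => Subgroup.index_ne_zero_of_finite
  have h1 : X ≤ R j ⊔ ⨅ k, B k := by
    intro x hx
    obtain ⟨r, hr, y, hy, rfl⟩ := hX x hx
    exact mul_mem_sup hr hy
  have h2 : (⨅ k, B k) ≤ normalizer (R j : Set G) := by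
    intro y hy
    refine mem_normalizer_of_conj fun r hr => ?_
    rw [← s.B0_comm hy j r (s.R_B j hr), mul_inv_cancel_right]
    exact hr
  have h3 : (⨅ k, B k).relIndex (R j ⊔ ⨅ k, B k) = (⨅ k, B k).relIndex (R j) := by
    rw [sup_comm]
    exact (relIndex_sup_of_normalizes h2).symm
  calc (⨅ k, B k).relIndex X ≤ (⨅ k, B k).relIndex (R j ⊔ ⨅ k, B k) := relIndex_le_of_le_right h1 (fin _ _)
    _ = (⨅ k, B k).relIndex (R j) := h3
    _ ≤ (⊥ : Subgroup G).relIndex (R j) := relIndex_le_of_le_left bot_le (fin _ _)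
    _ = 2 := by rw [relIndex_bot_left, hR2]

/-- **The count.** -/
theorem relIndex_B0_le [Finite G] {i j : ι} (hij : i ≠ j) (hR2 : Nat.card (R j) = 2) {T : Subgroup G}
    (hTR : T ≤ normalizer (R i : Set G)) {d : ℕ}
    (h4 : ¬ 2 ^ (d + 1) ∣ T.relIndex (normalizer (R i : Set G))) {b : G} (hb : b ∈ B i)
    (hbV : ¬ ∀ v ∈ V, b * v = v * b) (hbT : ∀ t ∈ T, b * t * b⁻¹ * t⁻¹ ∈ R i) :
    (⨅ k, B k).relIndex (B i ⊓ YY (B i) (C i)) ≤ 2 ^ (d + 1) := by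
  set H := normalizer (R i : Set G) with hH
  set I := B i ⊓ YY (B i) (C i) with hI
  have hnB : H ≤ normalizer (B i : Set G) := s.nB i
  have hnI : H ≤ normalizer (I : Set G) := nII s i
  let O : Subgroup G :=
    { carrier := {g | g ∈ H ∧ ∀ w ∈ B i, g * w * g⁻¹ * w⁻¹ ∈ I}
      one_mem' := ⟨one_mem _, fun w _ => by
        have e : 1 * w * 1⁻¹ * w⁻¹ = 1 := by group
        rw [e]; exact one_mem _⟩
      mul_mem' := by
        rintro a c ⟨a1, a2⟩ ⟨c1, c2⟩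
        refine ⟨mul_mem a1 c1, fun w hw => ?_⟩
        have e : a * c * w * (a * c)⁻¹ * w⁻¹ = (a * (c * w * c⁻¹ * w⁻¹) * a⁻¹) * (a * w * a⁻¹ * w⁻¹) := by group
        rw [e]
        exact mul_mem (conj_mem_of_normalizer (hnI a1) (c2 w hw)) (a2 w hw)
      inv_mem' := by
        rintro a ⟨a1, a2⟩
        refine ⟨inv_mem a1, fun w hw => ?_⟩
        have h1 : a⁻¹ * w * a ∈ B i := conj_inv_mem_of_normalizer (hnB a1) hw
        have h2 := inv_mem (a2 _ h1)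
        have e : (a * (a⁻¹ * w * a) * a⁻¹ * (a⁻¹ * w * a)⁻¹)⁻¹ = a⁻¹ * w * a⁻¹⁻¹ * w⁻¹ := by group
        rwa [e] at h2 }
  let A : Subgroup G :=
    { carrier := {g | g ∈ O ∧ g * b * g⁻¹ * b⁻¹ ∈ R i}
      one_mem' := ⟨one_mem _, by
        have e : 1 * b * 1⁻¹ * b⁻¹ = 1 := by group
        rw [e]; exact one_mem _⟩
      mul_mem' := by
        rintro a c ⟨a1, a2⟩ ⟨c1, c2⟩
        refine ⟨mul_mem a1 c1, ?_⟩
        have e : a * c * b * (a * c)⁻¹ * b⁻¹ = (a * (c * b * c⁻¹ * b⁻¹) * a⁻¹) * (a * b * a⁻¹ * b⁻¹) := by group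
        rw [e]
        exact mul_mem (conj_mem_of_normalizer a1.1 c2) a2
      inv_mem' := by
        rintro a ⟨a1, a2⟩
        refine ⟨inv_mem a1, ?_⟩
        have h1 := conj_inv_mem_of_normalizer a1.1 (inv_mem a2)
        have e : a⁻¹ * b * a⁻¹⁻¹ * b⁻¹ = a⁻¹ * (a * b * a⁻¹ * b⁻¹)⁻¹ * a := by group
        rw [e]; exact h1 }
  have hOH : O ≤ H := fun g hg => hg.1
  have hAO : A ≤ O := fun g hg => hg.1
  have hOn : H ≤ normalizer (O : Set G) := by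
    intro h hh
    refine mem_normalizer_of_conj fun a ha => ?_
    refine ⟨H.mul_mem (H.mul_mem hh ha.1) (H.inv_mem hh), fun w hw => ?_⟩
    have h1 := conj_mem_of_normalizer (hnI hh) (ha.2 _ (conj_inv_mem_of_normalizer (hnB hh) hw))
    have e : h * (a * (h⁻¹ * w * h) * a⁻¹ * (h⁻¹ * w * h)⁻¹) * h⁻¹ =
        h * a * h⁻¹ * w * (h * a * h⁻¹)⁻¹ * w⁻¹ := by group
    rwa [e] at h1
  have hTA : T ⊓ O ≤ A := by
    rintro t ⟨ht, htO⟩
    refine ⟨htO, ?_⟩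
    have h1 := inv_mem (hbT t ht)
    have e : (b * t * b⁻¹ * t⁻¹)⁻¹ = t * b * t⁻¹ * b⁻¹ := by group
    rwa [e] at h1
  have hA4 : ¬ 2 ^ (d + 1) ∣ A.relIndex O := by
    intro h
    apply h4
    refine h.trans ((relIndex_dvd_of_le_left O hTA).trans ?_)
    rw [inf_relIndex_right, relIndex_sup_of_normalizes (hTR.trans hOn)]
    exact Dvd.intro _ (relIndex_mul_relIndex _ _ _ le_sup_left (sup_le hTR hOH))
  have hJO : B j ⊓ YY (B j) (C j) ≤ O := by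
    intro u hu
    refine ⟨s.cV_le_NR (s.Y_V hu.2) i, fun w hw => ?_⟩
    have h1 := inv_mem (comm_II s hw hu.2)
    have e : (w * u * w⁻¹ * u⁻¹)⁻¹ = u * w * u⁻¹ * w⁻¹ := by group
    rwa [e] at h1
  have hJ2 : IsPGroup 2 (B j ⊓ YY (B j) (C j) : Subgroup G) := fun x => ⟨1, by
    apply Subtype.ext
    change (x : G) ^ 2 ^ 1 = 1
    rw [pow_one, pow_two]
    exact s.B_sq j _ x.2.1⟩
  obtain ⟨g, hg, hidx⟩ := exists_conj_pow hAO hJO hJ2 hA4
  have key : ∀ u ∈ cj g A ⊓ (B j ⊓ YY (B j) (C j)), InK R B j u := by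
    intro u hu0
    obtain ⟨hug, hu⟩ := mem_inf.1 hu0
    rw [mem_cj] at hug
    have h1 := conj_mem_of_normalizer hg.1 hug.2
    set b' := g * b * g⁻¹ with hb'
    have e1 : g * (g⁻¹ * u * g * b * (g⁻¹ * u * g)⁻¹ * b⁻¹) * g⁻¹ = u * b' * u⁻¹ * b'⁻¹ := by rw [hb']; group
    rw [e1] at h1
    have h2 := hg.2 b hb
    have hb'B : b' ∈ B i := conj_mem_of_normalizer (hnB hg.1) hb
    have hb'V : ¬ ∀ v ∈ V, b' * v = v * b' := by
      intro hall
      apply hbV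
      intro v hv
      have h3 := s.Y_V h2.2 v hv
      have e : b = (g * b * g⁻¹ * b⁻¹)⁻¹ * b' := by rw [hb']; group
      have h4 : (g * b * g⁻¹ * b⁻¹)⁻¹ * v = v * (g * b * g⁻¹ * b⁻¹)⁻¹ := by
        rw [inv_mul_eq_iff_eq_mul, ← mul_assoc, h3, mul_inv_cancel_right]
      rw [e]
      calc (g * b * g⁻¹ * b⁻¹)⁻¹ * b' * v = (g * b * g⁻¹ * b⁻¹)⁻¹ * (b' * v) := by group
        _ = ((g * b * g⁻¹ * b⁻¹)⁻¹ * v) * b' := by rw [hall v hv]; group
        _ = v * ((g * b * g⁻¹ * b⁻¹)⁻¹ * b') := by rw [h4]; group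
    have h5 := inv_mem h1
    have e2 : (u * b' * u⁻¹ * b'⁻¹)⁻¹ = b' * u * b'⁻¹ * u⁻¹ := by group
    rw [e2] at h5
    exact s.mem_R_of_comm hij hb'B hb'V hu.1 h5
  have hJ : (⨅ k, B k).relIndex (B j ⊓ YY (B j) (C j)) ≤ 2 ^ (d + 1) := by
    have h1 := B0_relIndex_le s hR2 key
    have h2 := relIndex_le_mul le_rfl hidx h1
    rwa [← pow_succ'] at h2
  -- transport to `i`
  obtain ⟨m, -, -, x, hx, e⟩ := s.trans_B i j
  have e1 : B j ⊓ YY (B j) (C j) = cj x I := by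
    rw [hI, cj_inf, s.cB x i j e, s.cY e]
  have e2 : (⨅ k, B k) = cj x (⨅ k, B k) := by
    apply le_antisymm
    · intro y hy
      rw [mem_cj]
      have h1 := s.B0_comm hy m x hx
      rw [mul_assoc, ← h1, inv_mul_cancel_left]
      exact hy
    · rw [cj_le_iff]
      intro y hy
      rw [s.B0_comm hy m x hx, mul_inv_cancel_right]
      exact hy
  rw [e1, e2, relIndex_cj] at hJ
  exact hJ

/-- **The end**: a good `z ∈ B₀`. -/
theorem false_of_goodPt [Finite G] {i : ι} {n : G} (mem_R : ∀ g, g ∈ R i ↔ g = 1 ∨ g = n) {b z : G} (hb : b ∈ B i)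
    (hbV : ¬ ∀ v ∈ V, b * v = v * b) (hz : z ∈ ⨅ k, B k) (g1 : n ∈ O2 (centralizer ({z} : Set G)))
    (g2 : ∀ q ∈ O2 (centralizer ({z} : Set G)), b * q = q * b) : False := by
  have hBz : ∀ k, ∀ c ∈ B k, c ∈ centralizer ({z} : Set G) := fun k c hc =>
    mem_centralizer_singleton_iff.2 (s.B0_comm hz k c hc)
  obtain ⟨k, hki, -⟩ := s.third i i
  obtain ⟨m, -, -, w, hw, e⟩ := s.trans_B i k
  have hRk : ∀ r ∈ R k, b * r = r * b := by
    intro r hr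
    rw [← e, mem_cj] at hr
    apply g2
    rcases (mem_R _).1 hr with h | h
    · have h1 : r = 1 := by
        calc r = w * (w⁻¹ * r * w) * w⁻¹ := by group
          _ = 1 := by rw [h]; group
      rw [h1]; exact one_mem _
    · have h1 : r = w * n * w⁻¹ := by
        calc r = w * (w⁻¹ * r * w) * w⁻¹ := by group
          _ = w * n * w⁻¹ := by rw [h]
      rw [h1]
      exact conj_mem_of_normalizer (le_normalizer_O2 _ (hBz m w hw)) g1
  apply hbV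
  refine s.free i k hki b hb ?_
  rw [cj_eq_self_iff]
  refine mem_normalizer_of_conj fun r hr => ?_
  rw [hRk r hr, mul_inv_cancel_right]
  exact hr

omit s in
/-- pigeonhole -/
theorem exists_pigeon [Finite G] {B₀ I : Subgroup G} {α : Type*} [Finite α] (f : α → G) (hf : ∀ a, f a ∈ I)
    (hlt : B₀.relIndex I < Nat.card α) : ∃ a b, a ≠ b ∧ (f a)⁻¹ * f b ∈ B₀ := by
  by_contra hcon
  push Not at hcon
  have h1 : Function.Injective (fun a : α => (QuotientGroup.mk (⟨f a, hf a⟩ : I) : I ⧸ B₀.subgroupOf I)) := by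
    intro a b hab
    by_contra hne
    apply hcon a b hne
    have h2 := QuotientGroup.eq.1 hab
    exact h2
  have h2 := Nat.card_le_card_of_injective _ h1
  have h3 : Nat.card (I ⧸ B₀.subgroupOf I) = B₀.relIndex I := rfl
  omega

end Cfsg.Agent.Omega.IId.MixAny

end
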