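import Cfsg.Agent.Mrg.Omega.IId.Sup
import Cfsg.Agent.Mrg.Omega.F4Leaf.Split
import Cfsg.Agent.Mrg.Omega.SQT.Rank
import Cfsg.Agent.Mrg.Omega.IId.Cv.Cut

section


/-!
# II.d, `WrCv K`: the sub-leaf `CvMixSym` is void (helper592)

* `card_zc_le` : `P` free with `k` natural factors over `F`: `|Ω₁(Z(S))| ≤ |F|`;
* `card_two_split` : a partner with one factor `S_{2^m'+1}` (any `C_{V'}(O²(P'))`) gives `|F| = 2`;
* `cvMixSym : CvMixSym K`.
-/

set_option autoImplicit false
set_option linter.unusedSectionVars false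

namespace Cfsg.Agent.Omega.IId.Cv

open Subgroup Pointwise Cfsg Cfsg.Agent.ZN.ChoiceBase
open Cfsg.Agent.ZN (o2 zc zl)
open Cfsg.Agent.Omega.MinPar Cfsg.Agent.Omega.Frame Cfsg.Agent.Omega.FFThm Cfsg.Agent.Omega.FrameMulti
open Cfsg.Agent.Omega.FrameFF (cv Free)
open Cfsg.Agent.Omega.S5.Def
open scoped commutatorElement

universe u

section mix

variable {G : Type u} [Group G] [Finite G] {S S' : Sylow 2 G} {P P' : Subgroup G}

/-- `P` free: `|Ω₁(Z(S))| ≤ |F|`. -/
theorem card_zc_le {F : Type} [Field F] [Finite F] {k : ℕ} (M : NatK F (S : Subgroup G) P (zl (S : Subgroup G) P) ⊥ k)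
    (i : Fin k) : Nat.card (zc (S : Subgroup G)) ≤ Nat.card F := by
  have hz : zc (S : Subgroup G) ≤ zl (S : Subgroup G) P := Cfsg.Agent.ZN.ChoiceSit.zc_le_zl _ _
  have hex : ∀ z : zc (S : Subgroup G), M.e z i 1 = 0 := by
    intro z
    obtain ⟨t, ht, h2⟩ := M.unip fun _ => 1
    have h3 := h2.1 z (hz z.2) i
    have h4 : t * (z : G) * t⁻¹ = z := by
      rw [(MinSimple.VModule.mem_zc.1 z.2).2.1 t ht, mul_inv_cancel_right]
    rw [h4] at h3
    have h5 := congrFun h3 0
    rw [NatPair.ap_zero', Lib.SL2Mat.up_00, Lib.SL2Mat.up_01, one_mul, one_mul, left_eq_add] at h5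
    exact h5
  refine Nat.card_le_card_of_injective (fun z : zc (S : Subgroup G) => M.e z i 0) ?_
  intro z w hzw
  have h2 : M.e ((z : G) * (w : G)⁻¹) i = 0 := by
    apply NatPair.ext2
    · rw [M.mul _ (hz z.2) _ (inv_mem (hz w.2)), IId.e_inv M (hz w.2), Pi.add_apply, Pi.add_apply, Pi.neg_apply, Pi.neg_apply]
      have h3 : M.e (z : G) i 0 = M.e (w : G) i 0 := hzw
      rw [h3, add_neg_cancel]
      rfl
    · rw [M.mul _ (hz z.2) _ (inv_mem (hz w.2)), IId.e_inv M (hz w.2), Pi.add_apply, Pi.add_apply, Pi.neg_apply, Pi.neg_apply,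
        hex z, hex w, neg_zero, add_zero]
      rfl
  have h3 : (z : G) * (w : G)⁻¹ = 1 := by
    refine IId.eq_one_of_cent M (mul_mem (hz z.2) (inv_mem (hz w.2))) (fun s hs => ?_) h2
    exact (MinSimple.VModule.mem_zc.1 (mul_mem z.2 (inv_mem w.2))).2.1 s hs
  exact Subtype.ext (mul_inv_eq_one.1 h3)

/-- `V` does not centralise the even-subset module `A'`. -/
theorem not_le_cent (hc : IsCharacteristicTwoType G) (hp : Pair S S' P P') {m' : ℕ} {A : Subgroup G}
    {ε : (Fin (2 ^ m' + 1) → ZMod 2) → G} (h : F4Leaf.Def.Split (S' : Subgroup G) P' m' A ε) :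
    ¬ zl (S : Subgroup G) P ≤ centralizer (A : Set G) := by
  intro h1
  apply hp.ne
  rw [commutator_eq_bot_iff_le_centralizer]
  intro v hv
  rw [mem_centralizer_iff]
  intro x hx
  obtain ⟨d, hd, a, ha, rfl⟩ := h.mul_eq hc hp.star' hx
  have h2 := h.comm (hp.star'.le (hp.le' hv)) hd
  have h3 := mem_centralizer_iff.1 (h1 hv) a ha
  calc d * a * v = d * (a * v) := by group
    _ = d * v * a := by rw [h3, mul_assoc]
    _ = v * (d * a) := by rw [← h2, mul_assoc]

/-- The commutators of an element which induces a transposition of the labels. -/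
theorem comm_swap (hc : IsCharacteristicTwoType G) (hP' : IsParS (S' : Subgroup G) P') {m' : ℕ} {A : Subgroup G}
    {ε : (Fin (2 ^ m' + 1) → ZMod 2) → G} (h : F4Leaf.Def.Split (S' : Subgroup G) P' m' A ε) {b : G} (hb : b ∈ P')
    {i j : Fin (2 ^ m' + 1)} (hbs : Acts ε b (Equiv.swap i j)) {a : G} (ha : a ∈ zl (S' : Subgroup G) P') :
    ⁅b, a⁆ = 1 ∨ ⁅b, a⁆ = ε (Pi.single i 1 + Pi.single j 1) := by
  have e := elem_zl hc S' hP'.isLoc
  obtain ⟨d, hd, a, ha', rfl⟩ := h.mul_eq hc hP' ha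
  obtain ⟨u, rfl⟩ := h.even.surj a ha'
  have h2 := h.comm hb hd
  have hda : ∀ x ∈ A, d * x = x * d := fun x hx =>
    congrArg Subtype.val (e.1.1.comm ⟨d, Cfsg.Agent.Omega.HOne.cv_le _ _ hd⟩ ⟨x, h.A_le hx⟩)
  have h4 : ⁅b, d * ε u⁆ = ⁅b, ε u⁆ := by
    rw [commutatorElement_def, commutatorElement_def]
    have h5 : b * ε u * b⁻¹ * (ε u)⁻¹ ∈ A := by
      refine mul_mem ?_ (inv_mem (h.even.mem u))
      rw [hbs u]
      exact h.even.mem _
    calc b * (d * ε u) * b⁻¹ * (d * ε u)⁻¹ = (b * d) * ε u * b⁻¹ * (ε u)⁻¹ * d⁻¹ := by group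
      _ = d * (b * ε u * b⁻¹ * (ε u)⁻¹) * d⁻¹ := by rw [h2]; group
      _ = b * ε u * b⁻¹ * (ε u)⁻¹ := by rw [hda _ h5]; group
  rw [h4, commutatorElement_def]
  by_cases hu : u i = u j
  · left
    rw [(S5.Pair.acts_swap h.even hbs u).1 hu]
    group
  · right
    rw [(S5.Pair.acts_swap h.even hbs u).2 hu, h.even.comm]
    group

/-- **`|F| = 2`** (`P` free, `P'` with one factor `S_{2^m'+1}`). -/
theorem card_two_split (hc : IsCharacteristicTwoType G) (hp : Pair S S' P P')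
    (hN : NoOver (zl (S : Subgroup G) P) P) (hN' : NoOver (zl (S' : Subgroup G) P') P') {F : Type} [Field F]
    [Finite F] {k : ℕ} (M : NatK F (S : Subgroup G) P (zl (S : Subgroup G) P) ⊥ k) {m' : ℕ} (hm' : 2 ≤ m')
    {A : Subgroup G} {ε : (Fin (2 ^ m' + 1) → ZMod 2) → G} (h : F4Leaf.Def.Split (S' : Subgroup G) P' m' A ε) :
    Nat.card F = 2 := by
  have o1 := hp.off hc hN'
  have o2 := hp.symm.off hc hN
  have hn : 3 ≤ 2 ^ m' + 1 := (by norm_num : 3 ≤ 5).trans (S5.Syl.five_le hm')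
  obtain ⟨b, hb, i, j, hij, hbs⟩ := S5.Nat.exists_swap h.even (h.side _ hp.le' o2) (not_le_cent hc hp h)
  obtain ⟨I, hI⟩ := exists_ind M hp.le o1
  have hVP : zl (S' : Subgroup G) P' ≤ P := hp.le.trans hp.star.isLoc.le
  refine Sym.card_two_of hI hVP hb (a := ε (Pi.single i 1)) (h.A_le (h.even.mem _))
    (n := ε (Pi.single i 1 + Pi.single j 1)) ?_ ?_
  · intro h1
    have h2 := (S5.Pair.swap_comm_iff h.even hn hij hbs _).1 h1
    rw [Pi.single_eq_same, Pi.single_eq_of_ne hij.symm] at h2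
    exact one_ne_zero h2
  · intro a ha
    exact comm_swap hc hp.star' h (hp.star'.le (hp.le' hb)) hbs ha

end mix

/-- `P` free with `k` natural factors, `P'` with one factor `S_{2^m'+1}`, `C_{V'}(O²(P')) ≠ 1`. -/
def CvMixSym (K : Cls.{u}) : Prop :=
  ∀ (G : Type u) [Group G] [Finite G] (S S' : Sylow 2 G), Hyp K S → ∀ (P P' : Subgroup G), Pair S S' P P' →
    ∀ (F : Type) [Field F] [Finite F] [CharP F 2] (k m' : ℕ)
      (_ : NatK F (S : Subgroup G) P (zl (S : Subgroup G) P) ⊥ k)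
      (_ : SymK (S' : Subgroup G) P' (zl (S' : Subgroup G) P') (cv (S' : Subgroup G) P') 1 m'), 2 ≤ k → 2 ≤ m' →
      cv (S' : Subgroup G) P' ≠ ⊥ → IsKnownSimple' G

/-- **`CvMixSym K` is void**: `|Ω₁(Z(S))| = 2`, but `|Ω₁(Z(S'))| = 2 |C_{V'}(O²(P'))|`. -/
theorem cvMixSym (K : Cls.{u}) : CvMixSym K := by
  intro G _ _ S S' hH P P' hp F i1 i2 i3 k m' M M' hk hm' hcv
  exfalso
  have hc := hH.ctx.char2
  obtain ⟨t1, t2⟩ := Sym.typed_of hH.typed hp
  obtain ⟨A, ε, h⟩ := F4Leaf.Split.exists_split hc hp.star' (by omega) M'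
  have hF := card_two_split hc hp t1.noOver t2.noOver M hm' h
  have h1 := card_zc_le M ⟨0, by omega⟩
  have h2 := h.card_zc hc hp.star' (by omega : 1 ≤ m')
  have h3 : Nat.card (zc (S' : Subgroup G)) = Nat.card (zc (S : Subgroup G)) := by
    refine Half.card_zc_of_card_eq S S'.isPGroup' ?_
    rw [S.card_eq_multiplicity, S'.card_eq_multiplicity]
  have h4 : 1 < Nat.card (cv (S' : Subgroup G) P') := (Subgroup.one_lt_card_iff_ne_bot _).2 hcv
  omega

/-- `CvSymOne`, `C_V(O²(P)) ≠ 1`. -/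
def CvSymNat (K : Cls.{u}) : Prop :=
  ∀ (G : Type u) [Group G] [Finite G] (S S' : Sylow 2 G), HypN K S → ∀ (P P' : Subgroup G), Pair S S' P P' →
    ∀ (F : Type) [Field F] [Finite F] [CharP F 2] (k m' : ℕ)
      (_ : NatK F (S : Subgroup G) P (zl (S : Subgroup G) P) (cv (S : Subgroup G) P) k)
      (_ : SymK (S' : Subgroup G) P' (zl (S' : Subgroup G) P') (cv (S' : Subgroup G) P') 1 m'), 2 ≤ k → 2 ≤ m' →
      cv (S : Subgroup G) P ≠ ⊥ → IsKnownSimple' G

/-- `CvSymOne` from its part `C_V(O²(P)) ≠ 1`. -/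
theorem cvSymOne_of {K : Cls.{u}} (h : CvSymNat K) : CvSymOne K := by
  intro G _ _ S S' hH P P' hp F _ _ _ k m' M M' hk hm' hf
  by_cases hD : cv (S : Subgroup G) P = ⊥
  · refine cvMixSym K G S S' hH.toHyp P P' hp F k m' (hD ▸ M) M' hk hm' fun hD' => hf ⟨hD, hD'⟩
  · exact h G S S' hH P P' hp F k m' M M' hk hm' hD

end Cfsg.Agent.Omega.IId.Cv

end

section


/-!
# II.d, `CvSymNat`: `P` natural with `k` factors, `D = C_V(O²(P))` arbitrary, `P'` with one factor `S_{2^m'+1}` (helper592)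

* `card_two` : `|F| = 2`; so `P` is split (`splitPar_two`);
* `Pos M S' P' m' A ε l i j` : the position `[V_P, V_{P'}] = line M l = ⟨n⟩`, `n = ε (i) + ε (j)` a duad;
* `exists_pos` : for two factors.
-/

set_option autoImplicit false
set_option linter.unusedSectionVars false

namespace Cfsg.Agent.Omega.IId.Cv.SymD

open Subgroup Pointwise Cfsg Cfsg.Agent.ZN.ChoiceBase
open Cfsg.Agent.ZN (o2 zc zl)
open Cfsg.Agent.Omega.MinPar Cfsg.Agent.Omega.Frame Cfsg.Agent.Omega.FFThm Cfsg.Agent.Omega.FrameMulti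
open Cfsg.Agent.Omega.FrameFF (cv Free)
open Cfsg.Agent.Omega.S5.Def Cfsg.Agent.Lib.SL2Mat
open Cfsg.Agent.Omega.NatPair (ap ap_zero' ap_one' ext2)
open Cfsg.Agent.Omega.HOne (conj_mem_zl)
open scoped commutatorElement

universe u

variable {G : Type u} [Group G] [Finite G] {S S' : Sylow 2 G} {P P' : Subgroup G} {F : Type} [Field F] [Finite F]
  [CharP F 2] {k m' : ℕ} {A : Subgroup G} {ε : (Fin (2 ^ m' + 1) → ZMod 2) → G}

/-- coordinates of a commutator, `V / D` natural -/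
theorem e_comm (M : NatK F (S : Subgroup G) P (zl (S : Subgroup G) P) (cv (S : Subgroup G) P) k) {v a : G}
    (hv : v ∈ zl (S : Subgroup G) P) (ha : a ∈ P) {b : Fin k → F}
    (h : ActsSL M.e (zl (S : Subgroup G) P) (cv (S : Subgroup G) P) a fun i => up (b i)) (i : Fin k) :
    M.e ⁅v, a⁆ i 0 = - (b i * M.e v i 1) := by
  have e : ⁅v, a⁆ = v * (a * v⁻¹ * a⁻¹) := by rw [commutatorElement_def]; group
  have h1 : a * v⁻¹ * a⁻¹ ∈ zl (S : Subgroup G) P := conj_mem_zl ha (inv_mem hv)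
  have h2 := h.1 _ (inv_mem hv) i
  rw [e, M.mul v hv _ h1, Pi.add_apply, Pi.add_apply, h2, e_inv M hv, ap_zero', up_00, up_01, Pi.neg_apply,
    Pi.neg_apply, Pi.neg_apply]
  ring

section two

variable (hc : IsCharacteristicTwoType G) (hp : Pair S S' P P')
  (hN : NoOver (zl (S : Subgroup G) P) P) (hN' : NoOver (zl (S' : Subgroup G) P') P')
  (M : NatK F (S : Subgroup G) P (zl (S : Subgroup G) P) (cv (S : Subgroup G) P) k) (hk : 0 < k) (hm' : 2 ≤ m')
  (h : F4Leaf.Def.Split (S' : Subgroup G) P' m' A ε)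
include hc hp hN hN' hk hm' h

include M in
/-- **`|F| = 2`**, any `C_V(O²(P))`, any number of factors. -/
theorem card_two : Nat.card F = 2 := by
  classical
  have hP' := hp.star'.le
  obtain ⟨I, i1, i2⟩ := M.off _ hp.le (hp.off hc hN')
  have hside : S5.Pair.Side (zl (S : Subgroup G) P) ε := h.side _ hp.le' (hp.symm.off hc hN)
  have hVP : zl (S' : Subgroup G) P' ≤ P := hp.le.trans hp.star.le
  -- elements which centralise `A` centralise `V'`
  have hcA : ∀ v ∈ zl (S : Subgroup G) P, Acts ε v 1 → ∀ x ∈ zl (S' : Subgroup G) P', v * x = x * v := by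
    intro v hv hv1 x hx
    obtain ⟨d, hd, a, ha, rfl⟩ := h.mul_eq hc hp.star' hx
    have h1 := mem_centralizer_iff.1 (h.even.acts_one_iff.1 hv1) a ha
    have h2 := h.comm (hP' (hp.le' hv)) hd
    calc v * (d * a) = (v * d) * a := by group
      _ = d * (v * a) := by rw [h2]; group
      _ = d * a * v := by rw [← h1]; group
  -- some swap has a nonempty support
  obtain ⟨b, hb, i, j, hij, hbs, l, hl, hbl⟩ : ∃ b ∈ zl (S : Subgroup G) P, ∃ i j, i ≠ j ∧ Acts ε b (Equiv.swap i j) ∧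
      ∃ l ∈ I, M.e b l 1 ≠ 0 := by
    by_contra hcon
    push Not at hcon
    have key : ∀ n : ℕ, ∀ v ∈ zl (S : Subgroup G) P, ∀ τ, Acts ε v τ → τ.support.card = n →
        ∀ l ∈ I, M.e v l 1 = 0 := by
      intro n
      induction n using Nat.strong_induction_on with
      | _ n ih =>
        intro v hv τ hτ hn l hl
        by_cases h1 : τ = 1
        · subst h1
          obtain ⟨a, ha, hA⟩ := i2 (Pi.single l 1) fun x hx => Pi.single_eq_of_ne (fun e : x = l => hx (by rw [e]; exact hl)) 1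
          have h2 := e_comm M hv (hVP ha) hA l
          rw [commutatorElement_eq_one_iff_mul_comm.2 (hcA v hv hτ a ha), e_one M, Pi.single_eq_same, one_mul] at h2
          exact (neg_eq_zero.1 h2.symm)
        · obtain ⟨x, hx⟩ : ∃ x, τ x ≠ x := by
            by_contra h2
            push Not at h2
            exact h1 (Equiv.ext h2)
          obtain ⟨τ', hτ', hτ2⟩ := hside v hv
          have e1 := h.even.acts_unique (S5.Syl.three_le (by omega)) hτ hτ'
          subst e1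
          obtain ⟨-, b, hb, hbs⟩ := hτ2 x hx
          have h3 := ih _ (hn ▸ Equiv.Perm.card_support_swap_mul hx) (b * v) (mul_mem hb hv) _ (hbs.mul hτ) rfl l hl
          have h4 := hcon b hb x (τ x) (Ne.symm hx) hbs l hl
          rw [M.mul b hb v hv, Pi.add_apply, Pi.add_apply, h4, zero_add] at h3
          exact h3
    obtain ⟨l, hl⟩ : I.Nonempty := by
      by_contra h0
      rw [Set.not_nonempty_iff_eq_empty] at h0
      apply hp.ne
      rw [commutator_eq_bot_iff_le_centralizer]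
      intro v hv
      rw [mem_centralizer_iff]
      intro a ha
      obtain ⟨b, hb, hA⟩ := i1 a ha
      refine comm_of_quot hc S hp.star M hk (hp.le ha) ?_ v hv
      refine ⟨hVP ha, fun w hw => funext fun x => ?_⟩
      have h1 : up (b x) = (1 : Matrix.SpecialLinearGroup (Fin 2) F) := by
        rw [hb x (by rw [h0]; exact Set.notMem_empty x), up_zero]
      have h2 := hA.1 w hw x
      change _ = ap (up (b x)) _ at h2
      rw [h2, h1, NatPair.ap_one]
    obtain ⟨v, hv, he⟩ := M.surj fun _ => ![0, 1]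
    obtain ⟨τ, hτ⟩ := h.even.perm v (hP' (hp.le' hv))
    have h1 := key _ v hv τ hτ rfl l hl
    rw [he] at h1
    exact one_ne_zero h1
  have hex : ∀ c : F, ∃ a ∈ zl (S' : Subgroup G) P',
      ActsSL M.e (zl (S : Subgroup G) P) (cv (S : Subgroup G) P) a fun x => up ((Pi.single l c : Fin k → F) x) :=
    fun c => i2 (Pi.single l c) fun x hx => by
      rw [Pi.single_eq_of_ne (fun e : x = l => hx (by rw [e]; exact hl))]
  choose a ha hA using hex
  have hinj : Function.Injective fun c : F => ⁅b, a c⁆ := by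
    intro c c' h1
    have h2 := e_comm M hb (hVP (ha c)) (hA c) l
    have h3 := e_comm M hb (hVP (ha c')) (hA c') l
    have h4 : ⁅b, a c⁆ = ⁅b, a c'⁆ := h1
    rw [h4, h3, Pi.single_eq_same, Pi.single_eq_same, neg_inj] at h2
    exact (mul_right_cancel₀ hbl h2).symm
  have hval : ∀ c : F, ⁅b, a c⁆ = 1 ∨ ⁅b, a c⁆ = ε (Pi.single i 1 + Pi.single j 1) := fun c =>
    comm_swap hc hp.star' h (hP' (hp.le' hb)) hbs (ha c)
  have h1 : Nat.card F ≤ 2 := by
    have h2 : Function.Injective fun c : F =>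
        (⟨⁅b, a c⁆, hval c⟩ : {x : G // x = 1 ∨ x = ε (Pi.single i 1 + Pi.single j 1)}) := by
      intro c c' h3
      exact hinj (congrArg Subtype.val h3)
    refine (Nat.card_le_card_of_injective _ h2).trans ?_
    have h5 : Nat.card {x : G // x = 1 ∨ x = ε (Pi.single i 1 + Pi.single j 1)} ≤ Nat.card (Fin 2) := by
      refine Nat.card_le_card_of_surjective
        (fun x : Fin 2 => if x = 0 then (⟨1, Or.inl rfl⟩ : {x : G // x = 1 ∨ x = ε (Pi.single i 1 + Pi.single j 1)})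
          else ⟨_, Or.inr rfl⟩) ?_
      rintro ⟨x, rfl | rfl⟩
      · exact ⟨0, rfl⟩
      · exact ⟨1, rfl⟩
    simpa using h5
  have h2 : 1 < Nat.card F := Finite.one_lt_card
  omega

end two

end Cfsg.Agent.Omega.IId.Cv.SymD

end
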