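import Cfsg.Agent.Mrg.Omega.F4Leaf.Pos
import Cfsg.Agent.Mrg.Omega.IId.Cv.MixIdx
import Cfsg.Agent.Mrg.Omega.IId.Cv.MixAny
import Cfsg.Agent.Mrg.Omega.IId.Cv.SymPos
import Cfsg.Agent.Mrg.Omega.NSix.TkPair

section


/-!
# MIX3 (helper747): a line of a natural factor against `V_{P'}`, `P'` of type `S_{2^m'+1}`

`M : NatD F S P V D k`, `|F| = 2`, `[V_P, V_{P'}] = line M l = ⟨n⟩`, `n = r_ij` (`SPos`), `V_l ≤ O₂(C_G(n))`,
`C_{V'}(O²(P')) ≠ 1`: `⟨V_l ^ C_G(n)⟩` and `⟨V_{P'} ^ C_G(n)⟩` are not both abelian.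

* `relIndex_T` : `2 ^ m' ∤ |C_G(n) : C_{S'}(n)|`;
* `mix_three`.
-/

set_option autoImplicit false
set_option linter.unusedSectionVars false

namespace Cfsg.Agent.Omega.IId.Cv.MixThree

open Subgroup Pointwise Cfsg Cfsg.Agent.ZN.ChoiceBase
open Cfsg.Agent.ZN (o2 zc zl)
open Cfsg.Agent.Omega.MinPar Cfsg.Agent.Omega.Frame Cfsg.Agent.Omega.FFThm Cfsg.Agent.Omega.FrameMulti
open Cfsg.Agent.Omega.FrameFF (cv Free)
open Cfsg.Agent.Omega.S5.Def Cfsg.Agent.Omega.S5.Syl
open Cfsg.Agent.Omega.NSix.Base Cfsg.Agent.Omega.NSix.Basic Cfsg.Agent.Omega.NSix.FixApp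
open Cfsg.Agent.Omega.IId.MixAny (Node Pt tr mem_zp false_of_good)
open Cfsg.Agent.Omega.IId.NV (clC conj_mem_clC le_clC clC_conj clC_le clC_comm clC_sq)


universe u

variable {G : Type u} [Group G] [Finite G]

section index

variable {S : Sylow 2 G} {P : Subgroup G} {m : ℕ} {A : Subgroup G} {ε : (Fin (2 ^ m + 1) → ZMod 2) → G}

/-- the data of `NSix.CosetAct` (with `W = 1`) -/
theorem hyp_of (h : F4Leaf.Pos.Sit S P m A ε) {i j : Fin (2 ^ m + 1)} (hij : i ≠ j)
    (hsw : ∃ a ∈ (S : Subgroup G), Acts ε a (Equiv.swap i j)) : NSix.CosetAct.Hyp A P (S : Subgroup G) ⊥ ε i j where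
  even := h.split.even
  VP := h.A_le_P
  two_le := h.m2
  le := h.par.le
  isP := S.isPGroup'
  max := fun T hT => by
    obtain ⟨R, hR⟩ := hT.exists_le_sylow
    have h1 : Nat.card (R : Subgroup G) = Nat.card (S : Subgroup G) := by
      rw [R.card_eq_multiplicity, S.card_eq_multiplicity]
    rw [← h1]
    exact Subgroup.card_le_of_le hR
  fix0 := h.split.fix0
  ne := hij
  swap := hsw
  isPW := IsPGroup.of_bot
  leW := bot_le
  norm := by
    intro g _
    rw [mem_normalizer_iff]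
    intro x
    rw [mem_bot, mem_bot]
    constructor
    · rintro rfl
      group
    · intro hx
      calc x = g⁻¹ * (g * x * g⁻¹) * g := by group
        _ = 1 := by rw [hx]; group

/-- `2 ^ m ∤ |C_G(n) : C_S(n)|` -/
theorem relIndex_T (h : F4Leaf.Pos.Sit S P m A ε) {i j : Fin (2 ^ m + 1)} (hij : i ≠ j)
    (hsw : ∃ a ∈ (S : Subgroup G), Acts ε a (Equiv.swap i j)) :
    ¬ 2 ^ m ∣ ((S : Subgroup G) ⊓ NN ε i j).relIndex (NN ε i j) := by
  have hf : Fact (Nat.Prime 2) := ⟨Nat.prime_two⟩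
  intro hd
  have h1 := (hyp_of h hij hsw).relIndex_S_le
  set T := (S : Subgroup G) ⊓ NN ε i j with hT
  have h1' : T.relIndex (S : Subgroup G) ≤ 2 ^ (m - 1) := h1
  have h2 := Half.card_mul_relIndex (inf_le_left : T ≤ (S : Subgroup G))
  have h3 := Half.card_mul_relIndex (inf_le_right : T ≤ NN ε i j)
  obtain ⟨t, ht⟩ := IsPGroup.iff_card.1 (S.isPGroup'.to_le (inf_le_left : T ≤ (S : Subgroup G)))
  have h4 : 2 ^ (t + m) ∣ Nat.card G := by
    rw [pow_add, ← ht]
    exact ((Nat.mul_dvd_mul_left _ hd).trans (dvd_of_eq h3)).trans (Subgroup.card_subgroup_dvd_card _)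
  have h5 : 2 ^ (t + m) ∣ Nat.card S := S.pow_dvd_card_of_pow_dvd_card h4
  have h6 := Nat.le_of_dvd Nat.card_pos h5
  rw [← h2, ht, pow_add] at h6
  have h7 : 2 ^ m ≤ T.relIndex (S : Subgroup G) := Nat.le_of_mul_le_mul_left h6 (by positivity)
  have h8 : 2 ^ m ≤ 2 ^ (m - 1) := h7.trans h1'
  have h9 : m ≤ m - 1 := (Nat.pow_le_pow_iff_right (by norm_num : 1 < 2)).1 h8
  have := h.m2
  omega

/-- `r_iq` is moved by an element which acts as `(i j)`. -/
theorem move_of (h : EvenSet (2 ^ m + 1) A P ε) (hm : 1 ≤ m) {i j q : Fin (2 ^ m + 1)} (hij : i ≠ j) (hi : q ≠ i)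
    (hj : q ≠ j) {v : G} (hv : Acts ε v (Equiv.swap i j)) : rr ε i q * v ≠ v * rr ε i q := by
  intro h0
  have h1 := rr_conj hv i q
  rw [Equiv.swap_apply_left, Equiv.swap_apply_of_ne_of_ne hi hj, ← h0, mul_inv_cancel_right] at h1
  have h2 : rr ε i j = 1 := by
    rw [← rr_add h i q j, h1, rr_symm h j q]
    exact rr_sq h q j
  exact rr_ne_one h (three_le hm) hij h2

end index

variable {S S' : Sylow 2 G} {P P' V D : Subgroup G} {F : Type} [Field F]
  [Finite F] [CharP F 2] {k m' : ℕ} {A : Subgroup G} {ε : (Fin (2 ^ m' + 1) → ZMod 2) → G}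

/-- `N_G(line M l) = C_G(n)` -/
theorem normalizer_line {M : NatD F S P V D k} {l : Fin k} {i j : Fin (2 ^ m' + 1)}
    (h : SymD.SPos M S' P' m' A ε l i j) : normalizer (NV.line M.toNatV l : Set G) = NN ε i j := by
  have hm := h.mem
  have hn1 : rr ε i j ≠ 1 := rr_ne_one h.sit.split.even h.sit.three h.ne
  ext g
  rw [mem_NN']
  constructor
  · intro hg
    have h8 : g * rr ε i j * g⁻¹ ∈ NV.line M.toNatV l :=
      (mem_normalizer_iff.1 hg _).1 ((hm _).2 (Or.inr rfl))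
    rcases (hm _).1 h8 with h9 | h9
    · exfalso
      have h10 : rr ε i j = 1 := by
        have h11 : rr ε i j = g⁻¹ * (g * rr ε i j * g⁻¹) * g := by group
        rw [h11, h9]; group
      exact hn1 h10
    · exact h9
  · intro hg
    rw [mem_normalizer_iff]
    intro x
    have hg' : g⁻¹ * rr ε i j * g = rr ε i j := by
      calc g⁻¹ * rr ε i j * g = g⁻¹ * (g * rr ε i j * g⁻¹) * g := by rw [hg]
        _ = rr ε i j := by group
    change x ∈ NV.line M.toNatV l ↔ g * x * g⁻¹ ∈ NV.line M.toNatV l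
    rw [hm, hm]
    constructor
    · rintro (rfl | rfl)
      · left; group
      · right; exact hg
    · rintro (h8 | h8)
      · left
        have h9 : x = g⁻¹ * (g * x * g⁻¹) * g := by group
        rw [h9, h8]; group
      · right
        have h9 : x = g⁻¹ * (g * x * g⁻¹) * g := by group
        rw [h9, h8, hg']

/-- **MIX3** -/
theorem mix_three {M : NatD F S P V D k} {l : Fin k} {i j : Fin (2 ^ m' + 1)}
    (h : SymD.SPos M S' P' m' A ε l i j) (hD' : cv (S' : Subgroup G) P' ≠ ⊥)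
    (hle : NV.fac M.toNatV l ≤ o2 (NN ε i j)) (hu : ¬ UnM M l)
    (hw : ∀ g ∈ NN ε i j, ∀ v ∈ zl (S' : Subgroup G) P', ∀ w ∈ zl (S' : Subgroup G) P',
      v * (g * w * g⁻¹) = g * w * g⁻¹ * v) : False := by
  classical
  have hs := h.sit
  have hE := hs.split.even
  have hij := h.ne
  have hm2 := hs.m2
  set n := rr ε i j with hn
  set Q := o2 (NN ε i j) with hQ
  have hnn : n * n = 1 := rr_sq hE i j
  have hn1 : n ≠ 1 := rr_ne_one hE hs.three hij
  have hNl := normalizer_line h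
  have hu' : ∀ g ∈ NN ε i j, ∀ v ∈ NV.fac M.toNatV l, ∀ w ∈ NV.fac M.toNatV l,
      v * (g * w * g⁻¹) = g * w * g⁻¹ * v := by
    rw [← hNl]
    exact NV.comm_of_not_unM hu
  have hAz : A ≤ zl (S' : Subgroup G) P' := hs.split.A_le
  have hrz : ∀ a b, rr ε a b ∈ zl (S' : Subgroup G) P' := fun a b => hAz (rr_mem hE a b)
  have hsq' : ∀ v ∈ zl (S' : Subgroup G) P', v * v = 1 := fun v hv => by
    have := hs.V_sq hv
    rwa [pow_two] at this
  -- an element of `fac` which acts as `(i j)`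
  obtain ⟨v₀, hv₀, he₀⟩ := NV.exists_fac M.toNatV l ![0, 1]
  have hact : Acts ε v₀ (Equiv.swap i j) := h.fac v₀ hv₀ (by rw [he₀]; exact one_ne_zero)
  have hV₀S : v₀ ∈ (S' : Subgroup G) := h.pair.le' (M.V_le hv₀.1)
  have hsw : ∃ a ∈ (S' : Subgroup G), Acts ε a (Equiv.swap i j) := ⟨v₀, hV₀S, hact⟩
  have hyp := hyp_of hs hij hsw
  have hi0 : i ≠ 0 := hyp.i_ne_zero
  have hj0 : j ≠ 0 := hyp.j_ne_zero
  set W' := clC (NN ε i j) (zl (S' : Subgroup G) P') with hW'
  set W := clC (NN ε i j) (NV.fac M.toNatV l) with hW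
  have hzW' : zl (S' : Subgroup G) P' ≤ W' := le_clC
  have hWQ : W ≤ Q := clC_le (Cfsg.Agent.MinSimple.VModule.le_normalizer_o2 _) hle
  have hcC : ∀ g : G, g * n = n * g → g ∈ NN ε i j := fun g hg => mem_NN.2 hg
  have N : Node (NV.fac M.toNatV l) W' W n :=
    { card := by rw [NV.card_fac, h.two]; norm_num
      sq := fun v hv => NV.sq M.toNatV hv.1
      n_mem := NV.line_le M.toNatV l ((h.mem n).2 (Or.inr rfl))
      n_ne := hn1
      trans := by
        intro v hv hv1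
        obtain ⟨g, hg, e⟩ := NV.exists_grp M.toNatV (NV.line_le M.toNatV l ((h.mem n).2 (Or.inr rfl))) hv hn1 hv1
        exact ⟨g, NV.grp_normalizes _ {l} {l} hg, e⟩
      nA := fun c hc a ha => clC_conj (hcC c hc) ha
      nC := fun c hc a ha => clC_conj (hcC c hc) ha
      A_comm := clC_comm hw
      A_sq := clC_sq hw hsq'
      C_comm := clC_comm hu'
      C_sq := clC_sq hu' fun v hv => NV.sq M.toNatV hv.1
      n_A := hzW' (hrz i j)
      V_C := le_clC
      CA := by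
        intro c hc a ha
        have h1 := hs.ww_conj hij (w := a) (x := c) ha (hWQ hc)
        have hcn : c * n = n * c := mem_NN.1 (Cfsg.Agent.MinSimple.VModule.o2_le _ (hWQ hc))
        rcases h1 with h1 | h1
        · left
          have h2 : a * c = c * a := mul_inv_eq_iff_eq_mul.1 h1
          rw [← h2]
          group
        · right
          have h2 : a * c = c * n * a := mul_inv_eq_iff_eq_mul.1 h1
          have h3 : n * c * a = a * c := by rw [h2, hcn]
          have h4 : c * a = n * (a * c) := by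
            calc c * a = (n * n) * (c * a) := by rw [hnn, one_mul]
              _ = n * (n * c * a) := by group
              _ = n * (a * c) := by rw [h3]
          rw [h4]
          group
      move := by
        refine ⟨rr ε i 0, hzW' (hrz i 0), v₀, hv₀, ?_⟩
        exact move_of hE (by omega) hij hi0.symm hj0.symm hact }
  have s := N.side
  let x₀ : Pt (NV.fac M.toNatV l) := ⟨n, N.n_mem, hn1⟩
  have hB : tr W' n x₀.1 = W' := N.tr_n
  have hC : tr W n x₀.1 = W := N.tr_n'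
  have hmoveW : ∀ q, q ≠ i → q ≠ j → ¬ ∀ v ∈ NV.fac M.toNatV l, rr ε i q * v = v * rr ε i q := fun q hqi hqj hall =>
    move_of hE (by omega) hij hqi hqj hact (hall v₀ hv₀)
  -- labels
  let κ := {y : Fin (2 ^ m' + 1) // y ≠ i ∧ y ≠ j} × cv (S' : Subgroup G) P'
  let f : κ → G := fun p => rr ε 0 p.1.1 * (p.2 : G)
  have hcv : ∀ d ∈ cv (S' : Subgroup G) P', ∀ g ∈ P', g * d = d * g := fun d hd g hg => hs.V0_comm hd hg
  have hfz : ∀ p : κ, f p ∈ zl (S' : Subgroup G) P' := fun p => mul_mem (hrz _ _) (hs.V0_le p.2.2)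
  have hfQ : ∀ p : κ, ∀ x ∈ Q, f p * x = x * f p := by
    intro p x hx
    have h1 : rr ε 0 p.1.1 ∈ Vn ε i j := rr_mem_Vn ⟨hi0.symm, hj0.symm⟩ p.1.2
    have h2 := (hs.vn_cen hij h1).2 x hx
    have h3 := hs.comm_V0 hij hx p.2.2
    calc rr ε 0 p.1.1 * (p.2 : G) * x = rr ε 0 p.1.1 * ((p.2 : G) * x) := by group
      _ = rr ε 0 p.1.1 * x * p.2 := by rw [← h3]; group
      _ = x * (rr ε 0 p.1.1 * p.2) := by rw [h2]; group
  have hcard : 2 ^ m' < Nat.card κ := by
    have h1 : Nat.card κ = (2 ^ m' - 1) * Nat.card (cv (S' : Subgroup G) P') := by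
      rw [Nat.card_prod, Nat.card_eq_fintype_card, hyp.card_Lam]
    have h2 : 1 < Nat.card (cv (S' : Subgroup G) P') := (Subgroup.one_lt_card_iff_ne_bot _).2 hD'
    have h3 : 2 ^ 2 ≤ 2 ^ m' := Nat.pow_le_pow_right (by norm_num) hm2
    rw [h1]
    calc 2 ^ m' < (2 ^ m' - 1) * 2 := by omega
      _ ≤ _ := Nat.mul_le_mul_left _ h2
  have hR2 : Nat.card (zpowers x₀.1) = 2 := by
    rw [Nat.card_zpowers]
    refine orderOf_eq_prime ?_ hn1
    rw [pow_two]
    exact hnn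
  have hem : m' - 1 + 1 = m' := by omega
  have hzN : normalizer (zpowers x₀.1 : Set G) = NN ε i j := N.norm_zp
  refine false_of_good s (i := x₀) (n := n) hR2 (fun g hg => (mem_zp hnn).1 hg) (e := m' - 1)
    (T := (S' : Subgroup G) ⊓ NN ε i j) ?_ ?_ (b := rr ε i 0) ?_ (hmoveW 0 hi0.symm hj0.symm) ?_ f ?_ ?_ ?_
  · rw [hzN]; exact inf_le_right
  · rw [hem, hzN]
    exact relIndex_T hs hij hsw
  · change rr ε i 0 ∈ tr W' n x₀.1
    rw [hB]
    exact hzW' (hrz i 0)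
  · rintro t ⟨ht, htn⟩
    change rr ε i 0 * t * (rr ε i 0)⁻¹ * t⁻¹ ∈ zpowers n
    rw [mem_zp hnn]
    obtain ⟨σ, hσ⟩ := hE.perm t (hs.par.le ht)
    have h0 := hs.split.fix0 t ht σ hσ
    have hp := hyp.pair_of_acts hσ (mem_NN.1 htn)
    have h1 := rr_conj hσ i 0
    rw [h0] at h1
    have h2 : rr ε i 0 * t * (rr ε i 0)⁻¹ * t⁻¹ = rr ε i 0 * (t * rr ε i 0 * t⁻¹) := by
      rw [rr_inv hE]; group
    rw [h2, h1]
    rcases hp with ⟨h3, -⟩ | ⟨h3, -⟩
    · left
      rw [h3]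
      exact rr_sq hE i 0
    · right
      rw [h3, rr_symm hE j 0]
      exact rr_add hE i 0 j
  · intro p
    change f p ∈ tr W' n x₀.1 ⊓ Cfsg.Agent.Omega.Mix.YY (tr W' n x₀.1) (tr W n x₀.1)
    rw [hB, hC]
    refine mem_inf.2 ⟨hzW' (hfz p), ?_⟩
    rw [Cfsg.Agent.Omega.Mix.mem_YY]
    exact ⟨fun y hy => clC_comm hw _ (hzW' (hfz p)) y hy, fun y hy => hfQ p y (hWQ hy)⟩
  · rw [hem]; exact hcard
  · rintro ⟨⟨y, hy⟩, ⟨d, hd⟩⟩ ⟨⟨y', hy'⟩, ⟨d', hd'⟩⟩ hne
    have hd0 : d⁻¹ * d' ∈ cv (S' : Subgroup G) P' := mul_mem (inv_mem hd) hd'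
    have hrP : rr ε y y' ∈ P' := hs.A_le_P (rr_mem hE y y')
    have ez : (f (⟨y, hy⟩, ⟨d, hd⟩))⁻¹ * f (⟨y', hy'⟩, ⟨d', hd'⟩) = rr ε y y' * (d⁻¹ * d') := by
      change (rr ε 0 y * d)⁻¹ * (rr ε 0 y' * d') = _
      have h1 : rr ε y 0 * rr ε 0 y' = rr ε y y' := rr_add hE y 0 y'
      have h2 : rr ε y y' * d⁻¹ = d⁻¹ * rr ε y y' := hcv _ (inv_mem hd) _ hrP
      rw [mul_inv_rev, rr_inv hE, rr_symm hE 0 y]
      calc d⁻¹ * rr ε y 0 * (rr ε 0 y' * d') = d⁻¹ * (rr ε y 0 * rr ε 0 y') * d' := by group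
        _ = rr ε y y' * (d⁻¹ * d') := by rw [h1, ← h2]; group
    rw [ez]
    by_cases hyy : y = y'
    · subst hyy
      have h1 : rr ε y y = 1 := zz_sq hE y
      rw [h1, one_mul]
      have h2 : d⁻¹ * d' ≠ 1 := by
        intro h3
        apply hne
        have h4 : d = d' := inv_mul_eq_one.1 h3
        subst h4
        rfl
      obtain ⟨g1, g2⟩ := hs.cen_V hd0 h2
      refine ⟨rr ε i 0, ?_, hmoveW 0 hi0.symm hj0.symm, g1 (hrz i j), fun q hq => ?_⟩
      · change rr ε i 0 ∈ tr W' n x₀.1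
        rw [hB]
        exact hzW' (hrz i 0)
      · exact mem_centralizer_iff.1 (g2 hq) _ (hrz i 0)
    · obtain ⟨q, hq, hqy, hqy'⟩ := hyp.exists_third y y'
      have hVn : rr ε i j ∈ Vn ε y y' := rr_mem_Vn ⟨hy.1.symm, hy'.1.symm⟩ ⟨hy.2.symm, hy'.2.symm⟩
      have hVq : rr ε i q ∈ Vn ε y y' := rr_mem_Vn ⟨hy.1.symm, hy'.1.symm⟩ ⟨hqy, hqy'⟩
      refine ⟨rr ε i q, ?_, hmoveW q hq.1 hq.2, (VnD.vn_cen_mul hs hd0 hyy hVn).1,
        (VnD.vn_cen_mul hs hd0 hyy hVq).2⟩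
      change rr ε i q ∈ tr W' n x₀.1
      rw [hB]
      exact hzW' (hrz i q)

end Cfsg.Agent.Omega.IId.Cv.MixThree

end

section


/-!
# `CvSymMix` is proved: MIX2 for a partner of type `S_{2^m'+1}` (helper994)

`E' = {1, r_ij, r_ip, r_jp}`, `p ≠ i, j` (even subsets of `{i, j, p}`).
-/

set_option autoImplicit false
set_option linter.unusedSectionVars false

namespace Cfsg.Agent.Omega.IId.Cv

open Subgroup Pointwise Cfsg Cfsg.Agent.ZN.ChoiceBase
open Cfsg.Agent.ZN (o2 zc zl)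
open Cfsg.Agent.Omega.MinPar Cfsg.Agent.Omega.Frame Cfsg.Agent.Omega.FFThm Cfsg.Agent.Omega.FrameMulti
open Cfsg.Agent.Omega.FrameFF (cv Free)
open Cfsg.Agent.Omega.S5.Def
open Cfsg.Agent.Omega.NSix.Base Cfsg.Agent.Omega.NSix.Basic
open Cfsg.Agent.Omega.IId.NV (KX mem_KX)

universe u


/-- **`CvSymMix`** -/
theorem cvSymMix : CvSymMix.{u} := by
  intro G _ _ S S' P P' V D F _ _ _ M m' A ε l i j hp hD hu hw
  have hs := hp.sit
  have hij := hp.ne
  have hev := hs.split.even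
  have hn : 5 ≤ 2 ^ m' + 1 := S5.Syl.five_le hs.m2
  obtain ⟨p, hpi, hpj⟩ : ∃ p : Fin (2 ^ m' + 1), p ≠ i ∧ p ≠ j := by
    by_contra hc
    push Not at hc
    have h1 : (Finset.univ : Finset (Fin (2 ^ m' + 1))).card ≤ ({i, j} : Finset (Fin (2 ^ m' + 1))).card := by
      refine Finset.card_le_card fun x _ => ?_
      rw [Finset.mem_insert, Finset.mem_singleton]
      by_cases hx : x = i
      · exact Or.inl hx
      · exact Or.inr (hc x hx)
    have h2 : ({i, j} : Finset (Fin (2 ^ m' + 1))).card ≤ 2 := Finset.card_le_two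
    rw [Finset.card_univ, Fintype.card_fin] at h1
    omega
  obtain ⟨l', hl'⟩ := exists_ne l
  have hn1 : rr ε i j ≠ 1 := rr_ne_one hev (by omega) hij
  have hrl : rr ε i j ∈ NV.line M.toNatV l := (hp.mem _).2 (Or.inr rfl)
  have hN : normalizer (NV.line M.toNatV l : Set G) = NN ε i j :=
    NV.normalizer_line_eq M hp.two hrl hn1
  have hEA : E3 hev i j p ≤ A := by
    intro x hx
    rcases mem_E3.1 hx with rfl | rfl | rfl | rfl
    · exact one_mem _
    · exact rr_mem hev _ _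
    · exact rr_mem hev _ _
    · exact rr_mem hev _ _
  have hEV : E3 hev i j p ≤ zl (S' : Subgroup G) P' := hEA.trans hs.split.A_le
  have m1 : rr ε i j ∈ E3 hev i j p := mem_E3.2 (Or.inr (Or.inl rfl))
  have m2 : rr ε i p ∈ E3 hev i j p := mem_E3.2 (Or.inr (Or.inr (Or.inl rfl)))
  have m3 : rr ε j p ∈ E3 hev i j p := mem_E3.2 (Or.inr (Or.inr (Or.inr rfl)))
  refine NV.mix_two M hp.two hl'.symm (E := E3 hev i j p) ?_ (card_E3 hev hn hij hpi.symm hpj.symm) ?_ ?_ ?_ ?_ ?_ ?_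
  · -- `V_l` is mixed
    intro g hg v hv w hw'
    by_contra hne
    exact hu ⟨g, hg, v, hv, w, hw', hne⟩
  · intro e he
    exact hev.sq_mem (hEA he)
  · intro x hx
    rcases (hp.mem x).1 hx with rfl | rfl
    · exact one_mem _
    · exact m1
  · -- transitivity
    intro u hu' hu1 v hv hv1
    rcases (hp.mem u).1 hu' with rfl | rfl
    · exact absurd rfl hu1
    rcases mem_E3.1 hv with rfl | rfl | rfl | rfl
    · exact absurd rfl hv1
    · exact ⟨1, one_mem _, by group⟩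
    · obtain ⟨g, hg, hσ⟩ := hev.full (Equiv.swap j p)
      have e1 : Equiv.swap j p i = i := Equiv.swap_apply_of_ne_of_ne hij hpi.symm
      have e2 : Equiv.swap j p j = p := Equiv.swap_apply_left _ _
      have e3 : Equiv.swap j p p = j := Equiv.swap_apply_right _ _
      refine ⟨g, norm_E3 hev hσ ?_ ?_ ?_, ?_⟩
      · rw [e1, e2]; exact m2
      · rw [e1, e3]; exact m1
      · rw [e2, e3, rr_symm hev]; exact m3
      · rw [rr_conj hσ, e1, e2]
    · obtain ⟨g, hg, hσ⟩ := hev.full (Equiv.swap i p)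
      have e1 : Equiv.swap i p j = j := Equiv.swap_apply_of_ne_of_ne hij.symm hpj.symm
      have e2 : Equiv.swap i p i = p := Equiv.swap_apply_left _ _
      have e3 : Equiv.swap i p p = i := Equiv.swap_apply_right _ _
      refine ⟨g, norm_E3 hev hσ ?_ ?_ ?_, ?_⟩
      · rw [e1, e2, rr_symm hev]; exact m3
      · rw [e2, e3, rr_symm hev]; exact m2
      · rw [e1, e3, rr_symm hev]; exact m1
      · rw [rr_conj hσ, e1, e2, rr_symm hev]
  · -- `E3 ≤ KX`
    intro e he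
    rw [mem_KX]
    refine ⟨fun y hy => ?_, fun q hq => ?_⟩
    · rcases (hp.mem y).1 hy with rfl | rfl
      · rw [mul_one, one_mul]
      · exact hev.comm_mem (hEA he) (rr_mem hev _ _)
    · rw [hN] at hq
      rw [hp.mem]
      have hee : e⁻¹ = e := inv_eq_of_mul_eq_one_left (hev.sq_mem (hEA he))
      rcases hs.conj_V hij hq (hEV he) with h1 | h1
      · left
        calc e * q * e⁻¹ * q⁻¹ = e * (q * e⁻¹ * q⁻¹) := by group
          _ = 1 := by rw [hee, h1]; exact hev.sq_mem (hEA he)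
      · right
        calc e * q * e⁻¹ * q⁻¹ = e * (q * e⁻¹ * q⁻¹) := by group
          _ = e * (e * rr ε i j) := by rw [hee, h1]
          _ = rr ε i j := by rw [← mul_assoc, hev.sq_mem (hEA he), one_mul]
  · -- `move`
    obtain ⟨v, hv, he⟩ := NV.exists_fac M.toNatV l ![0, 1]
    have h1 := hp.fac v hv (by rw [he]; exact one_ne_zero)
    refine ⟨rr ε i p, m2, v, hv, fun h2 => ?_⟩
    have h3 := rr_conj h1 i p
    rw [← h2, mul_inv_cancel_right, Equiv.swap_apply_left, Equiv.swap_apply_of_ne_of_ne hpi hpj] at h3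
    exact NSix.TkPair.rr_ne hev hn hpi.symm hij.symm hpi h3
  · intro g hg v hv w hw'
    rw [hN] at hg
    exact hw g hg v (hEV hv) w (hEV hw')

end Cfsg.Agent.Omega.IId.Cv

end
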