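import Cfsg.Agent.Mrg.Omega.IId.Cv.SymPos
import Cfsg.Agent.Mrg.Omega.IId.ThmCD.Blk
import Cfsg.Agent.Mrg.Omega.IId.ThmCD.Cor

section


/-!
# II.d, `CvSymBig`: the position, any number of factors (helper184)

`exists_spos_all` : helper592's `exists_spos` for `M : NatD F S P V D k`, every `k`: THEOREM C with an arbitrary `D`
(`NV.thmCD`, helper653, helper131) in place of `fac_le_o2_line`.
-/

set_option autoImplicit false
set_option linter.unusedSectionVars false

namespace Cfsg.Agent.Omega.IId.Cv.SymD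

open Subgroup Pointwise Cfsg Cfsg.Agent.ZN.ChoiceBase
open Cfsg.Agent.ZN (o2 zc zl)
open Cfsg.Agent.Omega.MinPar Cfsg.Agent.Omega.Frame Cfsg.Agent.Omega.FFThm Cfsg.Agent.Omega.FrameMulti
open Cfsg.Agent.Omega.FrameFF (cv Free)
open Cfsg.Agent.Omega.S5.Def Cfsg.Agent.Lib.SL2Mat
open Cfsg.Agent.Omega.NSix.Base Cfsg.Agent.Omega.NSix.Basic Cfsg.Agent.Omega.NSix.FixApp
open scoped commutatorElement

universe u

variable {G : Type u} [Group G] [Finite G] {S S' : Sylow 2 G} {P P' V D : Subgroup G} {F : Type} [Field F] [Finite F]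
  [CharP F 2] {k m' : ℕ} {A : Subgroup G} {ε : (Fin (2 ^ m' + 1) → ZMod 2) → G}

/-- THEOREM C in the form `QL M i ≤ S` -/
theorem hC_two (M : NatD F S P V D k) (hF : Nat.card F = 2) (i : Fin k) : NV.QL M i ≤ (S : Subgroup G) := by
  obtain ⟨z, hz, hz1, -⟩ := NV.exists_z M.toNatV i
  rw [NV.QL_eq M hF hz hz1]
  exact (NV.thmCD M hF hz hz1).1

/-- `N_G(line) = NN ε i j` -/
theorem nor_line_eq (M : NatD F S P V D k) (hs : F4Leaf.Pos.Sit S' P' m' A ε) {l : Fin k} {i j : Fin (2 ^ m' + 1)}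
    (hij : i ≠ j) (hm : ∀ x, x ∈ NV.line M.toNatV l ↔ x = 1 ∨ x = rr ε i j) :
    normalizer (NV.line M.toNatV l : Set G) = NN ε i j := by
  have hn : 5 ≤ 2 ^ m' + 1 := S5.Syl.five_le hs.m2
  ext g
  rw [mem_NN']
  constructor
  · intro hg
    have h8 : g * rr ε i j * g⁻¹ ∈ NV.line M.toNatV l :=
      (mem_normalizer_iff.1 hg _).1 ((hm _).2 (Or.inr rfl))
    rcases (hm _).1 h8 with h9 | h9
    · exfalso
      have h10 : rr ε i j = 1 := by
        have h11 : rr ε i j = g⁻¹ * (g * rr ε i j * g⁻¹) * g := by group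
        rw [h11, h9]; group
      exact rr_ne_one hs.split.even (by omega) hij h10
    · exact h9
  · intro hg
    rw [mem_normalizer_iff]
    intro x
    have hg' : g⁻¹ * rr ε i j * g = rr ε i j := by
      calc g⁻¹ * rr ε i j * g = g⁻¹ * (g * rr ε i j * g⁻¹) * g := by rw [hg]
        _ = rr ε i j := by group
    change x ∈ NV.line M.toNatV l ↔ g * x * g⁻¹ ∈ NV.line M.toNatV l
    rw [hm, hm]
    constructor
    · rintro (rfl | rfl)
      · left; group
      · right; exact hg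
    · rintro (h8 | h8)
      · left
        have h9 : x = g⁻¹ * (g * x * g⁻¹) * g := by group
        rw [h9, h8]; group
      · right
        have h9 : x = g⁻¹ * (g * x * g⁻¹) * g := by group
        rw [h9, h8, hg']

/-- **The position, any number of factors.** -/
theorem exists_spos_all (hp : Pair S S' P P')
    (hN' : NoOver (zl (S' : Subgroup G) P') P') (hF : Nat.card F = 2) (hs : F4Leaf.Pos.Sit S' P' m' A ε)
    (M : NatD F S P V D k) : ∃ l i j, SPos M S' P' m' A ε l i j := by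
  have hn : 5 ≤ 2 ^ m' + 1 := S5.Syl.five_le hs.m2
  have hVP : zl (S' : Subgroup G) P' ≤ P := hp.le.trans hp.star.le
  obtain ⟨I, hI⟩ := NV.exists_ind M.toNatV hp.le (NV.off_V M hVP (hp.off M.hG hN'))
  obtain ⟨l, hl⟩ : I.Nonempty := by
    refine NV.lines_ne_bot' (M := M.toNatV) ?_
    rw [← hI.commutator_eq hVP, ← NV.commutator_V M hVP]
    exact hp.ne
  have hIl : I = {l} := by
    by_contra hcon
    obtain ⟨y, hy, hyl⟩ : ∃ y ∈ I, y ≠ l := by
      by_contra h0
      push Not at h0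
      apply hcon
      ext x
      exact ⟨fun hx => h0 x hx, fun hx => by rw [show x = l from hx]; exact hl⟩
    obtain ⟨i, j, hij, hm, hf⟩ := exists_swap_of_ind hp hF hs M hI hl
    obtain ⟨i', j', hij', hm', hf'⟩ := exists_swap_of_ind hp hF hs M hI hy
    obtain ⟨v, hv, he⟩ := NV.exists_fac M.toNatV l ![0, 1]
    obtain ⟨w, hw, he'⟩ := NV.exists_fac M.toNatV y ![0, 1]
    have hsv := hf v hv (by rw [he]; exact one_ne_zero)
    have hsw := hf' w hw (by rw [he']; exact one_ne_zero)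
    have hvw : v * w = w * v := by
      have h1 := MinSimple.VModule.zc_comm _ _ (NV.V_le_zz M hv.1) _ (NV.V_le_zz M hw.1)
      exact h1
    rcases NSix.TkPair.disj_of_comm hs.split.even (by omega) hij hij' hsv hsw hvw with h1 | ⟨h1, h2, h3, h4⟩
    · -- the same duad: the same line
      have h2 := NSix.TkPair.rr_of_swap hs.split.even hij h1
      apply hyl
      refine NV.line_inj (M := M.toNatV) fun x hx => ?_
      rw [hm', ← h2, ← hm] at hx
      exact hx
    · -- `fac y ≤ O₂(C_G(n))`, `n^⊥ ≤ Z(O₂(C_G(n)))`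
      have h5 : NV.fac M.toNatV y ≤ o2 (NN ε i j) := by
        have h6 := NV.fac_le_QL_of_ne M (hC_two M hF) hyl
        rwa [NV.QL, nor_line_eq M hs hij hm] at h6
      obtain ⟨q, hq⟩ : ∃ q : Fin (2 ^ m' + 1), q ∉ ({i, j, i', j'} : Finset (Fin (2 ^ m' + 1))) := by
        by_contra hc
        push Not at hc
        have h1 : (Finset.univ : Finset (Fin (2 ^ m' + 1))).card ≤ ({i, j, i', j'} : Finset _).card :=
          Finset.card_le_card fun x _ => hc x
        have h2 : ({i, j, i', j'} : Finset (Fin (2 ^ m' + 1))).card ≤ 4 := Finset.card_le_four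
        rw [Finset.card_univ, Fintype.card_fin] at h1
        omega
      simp only [Finset.mem_insert, Finset.mem_singleton, not_or] at hq
      obtain ⟨q1, q2, q3, q4⟩ := hq
      have h6 : rr ε i' q ∈ Vn ε i j := rr_mem_Vn ⟨h1, h2⟩ ⟨q1, q2⟩
      have h7 := (hs.vn_cen hij h6).2 w (h5 hw)
      have h8 := (S5.Pair.swap_comm_iff hs.split.even (by omega) hij' hsw (Pi.single i' 1 + Pi.single q 1)).1
        (by rw [← NSix.TkPair.rr_eq hs.split.even]; exact h7.symm)
      rw [Pi.add_apply, Pi.add_apply, Pi.single_eq_same, Pi.single_eq_of_ne (Ne.symm q3), Pi.single_eq_of_ne hij'.symm,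
        Pi.single_eq_of_ne (Ne.symm q4), add_zero, add_zero] at h8
      exact one_ne_zero h8
  subst hIl
  obtain ⟨i, j, h⟩ := SPos.of_ind hp hF hs M hI
  exact ⟨l, i, j, h⟩

end Cfsg.Agent.Omega.IId.Cv.SymD

end

section


/-!
# II.d, `CvSymNat K`: the cut for any number of factors (helper184)

`M : NatD F S P V D k`, `2 < k`, `|F| = 2`, `D ≠ 1`, `P'` of type `S_{2^m'+1}`; `SPos` exists (`exists_spos_all`):

* `V_l` unmixed: `UnMBig K` (one-sided, no partner);
* `V_{P'}` does not commute with all its conjugates under `C_G(n)`: `TTPair K`;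
* otherwise `CvSymMixBig`.

`cvSymNat_of_all : CvOneA2 K → CvOneA4 K → CvTwoA K → CvTwoB K → TTPair K → CvSymMix → UnMBig K → CvSymMixBig →
CvSymNat K` (replaces `cvSymNat_of`; the socket `CvSymBig K` is not used).
-/

set_option autoImplicit false
set_option linter.unusedSectionVars false

namespace Cfsg.Agent.Omega.IId.Cv

open Subgroup Pointwise Cfsg Cfsg.Agent.ZN.ChoiceBase
open Cfsg.Agent.ZN (o2 zc zl)
open Cfsg.Agent.Omega.MinPar Cfsg.Agent.Omega.Frame Cfsg.Agent.Omega.FFThm Cfsg.Agent.Omega.FrameMulti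
open Cfsg.Agent.Omega.FrameFF (cv Free)
open Cfsg.Agent.Omega.FrameLE (AllIn)
open Cfsg.Agent.Omega.S5.Def
open Cfsg.Agent.Omega.NSix.Base Cfsg.Agent.Omega.NSix.Basic
open Cfsg.Agent.Omega.HOne.Main (vx SplitPar)
open scoped commutatorElement

universe u

/-- **One-sided socket**: an unmixed factor, more than two factors, `q = 2`, `D ≠ 1`. -/
def UnMBig (K : Cls.{u}) : Prop :=
  ∀ (G : Type u) [Group G] [Finite G] (S : Sylow 2 G), HypN K S → ∀ (P : Subgroup G) (F : Type) [Field F] [Finite F]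
    [CharP F 2] (k : ℕ) (V D : Subgroup G) (M : NatD F S P V D k) (i : Fin k), 2 < k → Nat.card F = 2 → D ≠ ⊥ →
      UnM M i → IsKnownSimple' G

/-- **Both mixed**, more than two factors (the form of `CvSymMix`). -/
def CvSymMixBig : Prop :=
  ∀ (G : Type u) [Group G] [Finite G] (S S' : Sylow 2 G) (P P' V D : Subgroup G) (F : Type) [Field F] [Finite F]
    [CharP F 2] (k : ℕ) (M : NatD F S P V D k) (m' : ℕ) (A : Subgroup G) (ε : (Fin (2 ^ m' + 1) → ZMod 2) → G)
    (l : Fin k) (i j : Fin (2 ^ m' + 1)), 2 < k → SymD.SPos M S' P' m' A ε l i j → D ≠ ⊥ → ¬ UnM M l →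
      (∀ g ∈ NN ε i j, ∀ v ∈ zl (S' : Subgroup G) P', ∀ w ∈ zl (S' : Subgroup G) P',
        v * (g * w * g⁻¹) = g * w * g⁻¹ * v) → False

/-- **`CvSymNat` from its inputs**, any number of factors. -/
theorem cvSymNat_of_all {K : Cls.{u}} (h1 : CvOneA2 K) (h2 : CvOneA4 K) (h3 : CvTwoA K) (h4 : CvTwoB K)
    (hTT : TTPair K) (hM : CvSymMix.{u}) (hU : UnMBig K) (hB : CvSymMixBig.{u}) : CvSymNat K := by
  intro G _ _ S S' hH P P' hp F _ _ _ k m' M₀ M' hk hm' hD
  have hc := hH.ctx.char2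
  obtain ⟨t1, t2⟩ := Sym.typed_of hH.typed hp
  obtain ⟨A, ε, h⟩ := F4Leaf.Split.exists_split hc hp.star' (by omega) M'
  have hF := SymD.card_two hc hp t1.noOver t2.noOver M₀ (by omega) hm' h
  have M := NatD.ofSplit hc hp.star M₀ (splitPar_two hc S hp.star M₀ (by omega) hF)
  have hs : F4Leaf.Pos.Sit S' P' m' A ε := ⟨hc, hp.star', hm', h⟩
  have hD' := cv_ne_bot_of M (by omega) hD hs
  obtain ⟨l, i, j, hpos⟩ := SymD.exists_spos_all hp t2.noOver hF hs M
  have hkey : (∃ g ∈ NN ε i j, ∃ v ∈ zl (S' : Subgroup G) P', ∃ w ∈ zl (S' : Subgroup G) P',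
      v * (g * w * g⁻¹) ≠ g * w * g⁻¹ * v) → IsKnownSimple' G := by
    rintro ⟨g, hg, v, hv, w, hw, hne⟩
    have hmu := mutual_of_NN hs hpos.ne hg hv hw hne
    have hH' := hH.toHyp.conj S'
    exact hTT G hH'.ctx hH'.cls S' hH'.full hH'.allIn hH'.typed P' P' g hmu (fun hf => hD' hf.1) m' m' hm' hm'
      ⟨M'⟩ ⟨M'⟩
  by_cases hw : ∃ g ∈ NN ε i j, ∃ v ∈ zl (S' : Subgroup G) P', ∃ w ∈ zl (S' : Subgroup G) P',
      v * (g * w * g⁻¹) ≠ g * w * g⁻¹ * v
  · exact hkey hw
  push Not at hw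
  by_cases hk2 : 2 < k
  · by_cases hu : UnM M l
    · exact hU G S hH P F k _ _ M l hk2 hF hD hu
    · exact (hB G S S' P P' _ _ F k M m' A ε l i j hk2 hpos hD hu
        fun g hg v hv w hw' => hw g hg v hv w hw').elim
  · obtain rfl : k = 2 := by omega
    by_cases hu : UnM M l
    · exact unM_known h1 h2 h3 h4 hH M l hD hu
    · exact (hM G S S' P P' _ _ F M m' A ε l i j hpos hD hu fun g hg v hv w hw' => hw g hg v hv w hw').elim

end Cfsg.Agent.Omega.IId.Cv

end
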