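import Cfsg.Agent.Mrg.Omega.BTwo.Entry


/-!
# Mixed pairs over a Sylow 2-subgroup of `N_G(R)` which need not respect the lines of `V₁`, `V₂` (helper468)

`TwoV V₁ V₂ .. S T U` : `M4.TwoT` with `S ≤ N_G(V₁) ∩ N_G(V₂) ∩ N_G(R)`, `|N_G(R) : S|` odd, and subgroups `T`, `U` of `S`
of index `≤ 2` which permute the lines of `V₁`, `V₂`.

* `TwoV.YY_eq` : `C_G(W₁ W₂) = R` if `|R| ≥ 4` and both sides have a torus transitive on `R - 1`.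
  The Gaschütz step (6) needs `S ≤ N_G(V₂)` only; in (7), `K = C_{N(R)}(Y/R)`, the orbit of `d ∈ D₁` under `K` is `{d}` or
  `d R` and `T ∩ K` centralises `d`, `4 ∤ |K : T ∩ K|`.
-/

set_option autoImplicit false
set_option linter.unusedSectionVars false

namespace Cfsg.Agent.Omega.IId.M4

open Subgroup Cfsg.Agent.Omega.BTwo Cfsg.Agent.Omega.Mix Cfsg.Agent.Omega.MixOne
open Cfsg.Agent.Omega.MixOne.TwoW (Sq cj_Sq Sq_eq Oo mem_Oo Ct mem_Ct Kk)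

variable {G : Type*} [Group G] {ι κ : Type*}

/-- an orbit of length `|R|`, `4 ∣ |R|` -/
theorem orbit_false [Finite G] {K C R : Subgroup G} {d : G} (hCd : ∀ x ∈ C, x * d * x⁻¹ = d)
    (hC4 : ¬ 4 ∣ C.relIndex K) (h1 : ∀ r ∈ R, ∃ x ∈ K, x * d * x⁻¹ = d * r)
    (h2 : ∀ x ∈ K, ∃ r ∈ R, x * d * x⁻¹ = d * r) (h4 : 4 ∣ Nat.card R) : False := by
  let _ : MulAction K G := MulAction.compHom G ((MulAut.conj : G →* MulAut G).comp K.subtype)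
  have hsm : ∀ (x : K) (y : G), x • y = (x : G) * y * (x : G)⁻¹ := fun x y => rfl
  have e1 : (MulAction.stabilizer K d).index = (MulAction.orbit K d).ncard := MulAction.index_stabilizer K d
  have e2 : MulAction.orbit K d = (fun r => d * r) '' (R : Set G) := by
    ext y
    constructor
    · rintro ⟨x, rfl⟩
      obtain ⟨r, hr, e⟩ := h2 x x.2
      exact ⟨r, hr, e.symm⟩
    · rintro ⟨r, hr, rfl⟩
      obtain ⟨x, hx, e⟩ := h1 r hr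
      exact ⟨⟨x, hx⟩, e⟩
  have e3 : (MulAction.orbit K d).ncard = Nat.card R := by
    rw [e2, Set.ncard_image_of_injective _ (mul_right_injective d)]
    rfl
  have e4 : C.subgroupOf K ≤ MulAction.stabilizer K d := by
    intro x hx
    rw [MulAction.mem_stabilizer_iff, hsm]
    exact hCd x (mem_subgroupOf.1 hx)
  have e5 := Subgroup.index_dvd_of_le e4
  rw [e1, e3] at e5
  exact hC4 (h4.trans e5)

/-- `4 ∤ |K : T ∩ K|` for `T ≤ S`, `|S : T| ≤ 2`, `|H : S|` odd -/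
theorem not_four_dvd [Finite G] {S T H K : Subgroup G} (hTS : T ≤ S) (hT4 : T.relIndex S ≤ 2) (hSH : S ≤ H)
    (hodd : ¬ 2 ∣ S.relIndex H) (hKH : K ≤ H) (hK : S ≤ normalizer (K : Set G)) : ¬ 4 ∣ (T ⊓ K).relIndex K := by
  intro h
  have h1 : T ⊓ K ≤ S ⊓ K := inf_le_inf hTS le_rfl
  have h2 := relIndex_mul_relIndex _ _ _ h1 (inf_le_right : S ⊓ K ≤ K)
  have h3 := odd_rel hSH hodd hKH hK
  have h4 : (T ⊓ K).relIndex (S ⊓ K) = T.relIndex (S ⊓ K) := by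
    have e : T ⊓ K = T ⊓ (S ⊓ K) := by rw [← inf_assoc, inf_eq_left.2 hTS]
    rw [e, inf_relIndex_right]
  have h0 : ∀ A B : Subgroup G, A.relIndex B ≠ 0 := fun A B => (A.subgroupOf B).index_ne_zero_of_finite
  have h5 : T.relIndex (S ⊓ K) ≤ T.relIndex S := relIndex_le_of_le_right inf_le_left (h0 _ _)
  have h6 : T.relIndex (S ⊓ K) ≠ 0 := h0 _ _
  rw [← h2, h4] at h
  have h7 : Nat.Coprime 4 ((S ⊓ K).relIndex K) := by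
    have : Nat.Coprime (2 ^ 2) ((S ⊓ K).relIndex K) := Nat.Coprime.pow_left 2 (Nat.coprime_two_left.2 h3)
    exact this
  have h8 := h7.dvd_of_dvd_mul_right h
  have h9 := Nat.le_of_dvd (Nat.pos_of_ne_zero h6) h8
  omega

/-- `M4.TwoT` over `S`, normalising `V₁`, `V₂`, `R`; `T`, `U` permute the lines of `V₁`, `V₂`. -/
structure TwoV (V₁ V₂ : Subgroup G) (R₁ B₁ C₁ : ι → Subgroup G) (R₂ B₂ C₂ : κ → Subgroup G) (i : ι) (j : κ)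
    (S T U : Subgroup G) : Prop where
  s₁ : SideW V₁ R₁ B₁ C₁
  s₂ : SideW V₂ R₂ B₂ C₂
  hR : R₁ i = R₂ j
  hB : B₁ i = C₂ j
  hC : C₁ i = B₂ j
  ch : Char2 (normalizer (R₁ i : Set G))
  NL : ∀ K : Subgroup G, IsPGroup 2 K → ST V₁ R₁ ≤ normalizer (K : Set G) →
    ST V₂ R₂ ≤ normalizer (K : Set G) → normalizer (R₁ i : Set G) ≤ normalizer (K : Set G) → K = ⊥
  NV₁ : S ≤ normalizer (V₁ : Set G)
  NV₂ : S ≤ normalizer (V₂ : Set G)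
  SR : S ≤ normalizer (R₁ i : Set G)
  odd : ¬ 2 ∣ S.relIndex (normalizer (R₁ i : Set G))
  TS : T ≤ S
  US : U ≤ S
  T4 : T.relIndex S ≤ 2
  U4 : U.relIndex S ≤ 2
  SV₁ : T ≤ ST V₁ R₁
  SV₂ : U ≤ ST V₂ R₂
  gen₁ : ∀ K : Subgroup G, (∀ h ∈ normalizer (R₁ i : Set G), cj h V₁ ≤ K) → C₁ i ≤ K
  gen₂ : ∀ K : Subgroup G, (∀ h ∈ normalizer (R₁ i : Set G), cj h V₂ ≤ K) → B₁ i ≤ K

variable {V₁ V₂ : Subgroup G} {R₁ B₁ C₁ : ι → Subgroup G} {R₂ B₂ C₂ : κ → Subgroup G} {i : ι} {j : κ}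
  {S T U : Subgroup G}

namespace TwoV

theorem symm (t : TwoV V₁ V₂ R₁ B₁ C₁ R₂ B₂ C₂ i j S T U) : TwoV V₂ V₁ R₂ B₂ C₂ R₁ B₁ C₁ j i S U T where
  s₁ := t.s₂
  s₂ := t.s₁
  hR := t.hR.symm
  hB := t.hC.symm
  hC := t.hB.symm
  ch := by rw [← t.hR]; exact t.ch
  NL := by
    intro K hK h1 h2 h3
    rw [← t.hR] at h3
    exact t.NL K hK h2 h1 h3
  NV₁ := t.NV₂
  NV₂ := t.NV₁
  SR := by rw [← t.hR]; exact t.SR
  odd := by rw [← t.hR]; exact t.odd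
  TS := t.US
  US := t.TS
  T4 := t.U4
  U4 := t.T4
  SV₁ := t.SV₂
  SV₂ := t.SV₁
  gen₁ := by
    intro K hK
    rw [← t.hR] at hK
    rw [← t.hB]
    exact t.gen₂ K hK
  gen₂ := by
    intro K hK
    rw [← t.hR] at hK
    rw [← t.hC]
    exact t.gen₁ K hK

variable (t : TwoV V₁ V₂ R₁ B₁ C₁ R₂ B₂ C₂ i j S T U)
include t

theorem YY_eq_YY : YY (B₁ i) (C₁ i) = YY (B₂ j) (C₂ j) := by
  rw [YY, YY, t.hB, t.hC, sup_comm]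

/-- **(3)** `C_G(W₁ W₂)` is a 2-group -/
theorem Y_isPGroup [Finite G] : IsPGroup 2 (YY (B₁ i) (C₁ i)) := by
  set D := OD (YY (B₁ i) (C₁ i)) with hD
  have h1 : ST V₁ R₁ ≤ normalizer (D : Set G) := t.s₁.nOD i
  have h2 : ST V₂ R₂ ≤ normalizer (D : Set G) := by
    rw [hD, t.YY_eq_YY]; exact t.s₂.nOD j
  have h3 : normalizer (R₁ i : Set G) ≤ normalizer (D : Set G) := by
    intro g hg
    rw [← cj_eq_self_iff, hD, cj_OD, cj_eq_self_iff.2 (t.s₁.nY i hg)]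
  have hN : normalizer (D : Set G) ≤ normalizer (O2 D : Set G) := by
    intro g hg
    rw [← cj_eq_self_iff, cj_O2, cj_eq_self_iff.2 hg]
  have h4 : O2 D = ⊥ := t.NL _ (O2_isPGroup D) (h1.trans hN) (h2.trans hN) (h3.trans hN)
  have hDR : D ≤ normalizer (R₁ i : Set G) := by
    intro x hx
    exact t.s₁.cV_le_NR (t.s₁.Y_V (OD_le _ hx)) i
  set Q := O2 (normalizer (R₁ i : Set G)) with hQ
  have hQR : Q ≤ normalizer (R₁ i : Set G) := O2_le _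
  have h5 : D ⊓ Q ≤ O2 D := by
    refine le_O2_of_normal inf_le_left ((O2_isPGroup _).to_le inf_le_right) ?_
    rintro g hg a ⟨haD, haQ⟩
    exact ⟨D.mul_mem (D.mul_mem hg haD) (D.inv_mem hg),
      conj_mem_of_normalizer (le_normalizer_O2 _ (hDR hg)) haQ⟩
  rw [h4] at h5
  have h6 : D ≤ Q := by
    intro d hd
    refine t.ch d (hDR hd) fun q hq => ?_
    apply comm_of_eq_one
    have : d * q * d⁻¹ * q⁻¹ ∈ D ⊓ Q := by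
      refine ⟨?_, Q.mul_mem (conj_mem_of_normalizer (le_normalizer_O2 _ (hDR hd)) hq) (Q.inv_mem hq)⟩
      have e : d * q * d⁻¹ * q⁻¹ = d * (q * d⁻¹ * q⁻¹) := by group
      rw [e]
      exact D.mul_mem hd (conj_mem_of_normalizer (h3 (hQR hq)) (D.inv_mem hd))
    exact mem_bot.1 (h5 this)
  have h7 : D = ⊥ := by
    rw [eq_bot_iff]
    exact fun d hd => h5 ⟨hd, h6 hd⟩
  exact isPGroup_of_OD h7

/-- **(5)** `Y` has exponent 2 -/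
theorem Y_sq [Finite G] {y : G} (hy : y ∈ YY (B₁ i) (C₁ i)) : y * y = 1 := by
  have h1 : ST V₁ R₁ ≤ normalizer (Sq (YY (B₁ i) (C₁ i)) : Set G) := by
    intro g hg
    rw [Sq_eq t.s₁ i, ← cj_eq_self_iff, cj_Sq, cj_eq_self_iff.2 (t.s₁.nD hg)]
  have h2 : ST V₂ R₂ ≤ normalizer (Sq (YY (B₁ i) (C₁ i)) : Set G) := by
    intro g hg
    rw [t.YY_eq_YY, Sq_eq t.s₂ j, ← cj_eq_self_iff, cj_Sq, cj_eq_self_iff.2 (t.s₂.nD hg)]
  have h3 : normalizer (R₁ i : Set G) ≤ normalizer (Sq (YY (B₁ i) (C₁ i)) : Set G) := by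
    intro g hg
    rw [← cj_eq_self_iff, cj_Sq, cj_eq_self_iff.2 (t.s₁.nY i hg)]
  have h4 : Sq (YY (B₁ i) (C₁ i)) ≤ YY (B₁ i) (C₁ i) := by
    rw [Sq, closure_le]
    rintro _ ⟨y, hy, rfl⟩
    exact mul_mem hy hy
  have h5 := t.NL _ (t.Y_isPGroup.to_le h4) h1 h2 h3
  have h6 : y * y ∈ Sq (YY (B₁ i) (C₁ i)) := subset_closure ⟨y, hy, rfl⟩
  rw [h5] at h6
  exact mem_bot.1 h6

theorem Y_comm [Finite G] {x y : G} (hx : x ∈ YY (B₁ i) (C₁ i)) (hy : y ∈ YY (B₁ i) (C₁ i)) : x * y = y * x := by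
  have h1 := t.Y_sq (mul_mem hx hy)
  have hx1 : x⁻¹ = x := inv_eq_of_mul_eq_one_left (t.Y_sq hx)
  have hy1 : y⁻¹ = y := inv_eq_of_mul_eq_one_left (t.Y_sq hy)
  have h2 : (x * y)⁻¹ = x * y := inv_eq_of_mul_eq_one_left h1
  rw [mul_inv_rev, hx1, hy1] at h2
  exact h2.symm

/-- `V₂ ∩ Y = R` -/
theorem V₂_Y {v : G} (hv : v ∈ V₂) (hy : v ∈ YY (B₁ i) (C₁ i)) : v ∈ R₁ i := by
  rw [t.hR]
  refine t.s₂.VB j v hv fun b hb => ?_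
  rw [← t.hC] at hb
  exact ((mem_YY.1 hy).2 b hb).symm

/-- **(6)** `B i ≤ (Y ∩ B i) C̃` -/
theorem B_le [Finite G] : B₁ i ≤ (YY (B₁ i) (C₁ i) ⊓ B₁ i) ⊔
    Ct (R₁ i) (B₁ i) (Oo (R₁ i) (B₁ i) (YY (B₁ i) (C₁ i))) (t.s₁.B_comm i) (t.s₁.R_B i) := by
  set Y := YY (B₁ i) (C₁ i) with hY
  set O := Oo (R₁ i) (B₁ i) Y with hO
  set N := normalizer (R₁ i : Set G) with hN
  have hNB : N ≤ normalizer (B₁ i : Set G) := t.s₁.nB i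
  have hNY : N ≤ normalizer (Y : Set G) := t.s₁.nY i
  have hV₂B : V₂ ≤ B₁ i := by rw [t.hB]; exact t.s₂.V_C j
  -- `O` is normal in `N(R)`
  have hNO : ∀ n ∈ N, ∀ g ∈ O, n * g * n⁻¹ ∈ O := by
    rintro n hn g ⟨g1, g2, g3, g4⟩
    refine ⟨mul_mem (mul_mem hn g1) (inv_mem hn), mul_mem (mul_mem (hNB hn) g2) (inv_mem (hNB hn)),
      mul_mem (mul_mem (hNY hn) g3) (inv_mem (hNY hn)), fun b hb => ?_⟩
    have h1 := g4 _ (conj_inv_mem_of_normalizer (hNB hn) hb)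
    have e : n * g * n⁻¹ * b * (n * g * n⁻¹)⁻¹ * b⁻¹ =
        n * (g * (n⁻¹ * b * n) * g⁻¹ * (n⁻¹ * b * n)⁻¹) * n⁻¹ := by group
    rw [e]; exact conj_mem_of_normalizer (hNY hn) h1
  have hSO : S ≤ normalizer (O : Set G) := by
    intro g hg
    exact mem_normalizer_of_conj fun x hx => hNO g (t.SR hg) x hx
  -- averaging
  have key : ∀ w ∈ V₂, ∃ y ∈ Y ⊓ B₁ i, ∀ x ∈ O, (w * y)⁻¹ * x * (w * y) * x⁻¹ ∈ R₁ i := by
    intro w hw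
    have hwB := hV₂B hw
    have hcomm : ∀ x ∈ O, w⁻¹ * x * w * x⁻¹ ∈ Y ⊓ B₁ i := by
      rintro x ⟨x1, x2, x3, x4⟩
      have h1 := x4 w hwB
      have h2 : x * w * x⁻¹ * w⁻¹ ∈ B₁ i := mul_mem (conj_mem_of_normalizer x2 hwB) (inv_mem hwB)
      have e : w⁻¹ * x * w * x⁻¹ = x * w * x⁻¹ * w⁻¹ := by
        calc w⁻¹ * x * w * x⁻¹ = w⁻¹ * (x * w * x⁻¹ * w⁻¹) * w := by group
          _ = w⁻¹ * (w * (x * w * x⁻¹ * w⁻¹)) := by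
            rw [mul_assoc, t.s₁.B_comm i _ h2 w hwB]
          _ = x * w * x⁻¹ * w⁻¹ := by group
      rw [e]
      exact ⟨h1, h2⟩
    refine Avg.avg (X := O) (P := S ⊓ O) (Y := Y ⊓ B₁ i) (D := R₁ i) inf_le_right
      (odd_rel t.SR t.odd (fun x hx => hx.1) hSO) (le_inf (t.s₁.R_Y i) (t.s₁.R_B i)) ?_ ?_ ?_ ?_ hcomm ?_
    · rintro x ⟨x1, x2, x3, x4⟩ y ⟨hy1, hy2⟩
      exact ⟨conj_mem_of_normalizer x3 hy1, conj_mem_of_normalizer x2 hy2⟩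
    · rintro x ⟨x1, x2, x3, x4⟩ y hy
      exact conj_mem_of_normalizer x1 hy
    · rintro x ⟨hx1, hx2⟩ y hy
      rw [t.s₁.B_comm i x hx2 y (t.s₁.R_B i hy), mul_inv_cancel_right]
      exact hy
    · rintro y ⟨hy1, hy2⟩
      rw [t.s₁.B_sq i y hy2]
      exact one_mem _
    · rintro x ⟨hxS, hxO⟩
      have h1 := (hcomm x hxO).1
      have h2 : w⁻¹ * x * w * x⁻¹ ∈ V₂ := by
        have h3 := conj_mem_of_normalizer (t.NV₂ hxS) hw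
        have e : w⁻¹ * x * w * x⁻¹ = w⁻¹ * (x * w * x⁻¹) := by group
        rw [e]
        exact mul_mem (inv_mem hw) h3
      exact t.V₂_Y h2 h1
  refine t.gen₂ _ fun h hh => ?_
  rw [cj_le_iff]
  intro w hw
  obtain ⟨y, hy, hwy⟩ := key w hw
  have e : h * w * h⁻¹ = (h * (w * y) * h⁻¹) * (h * y * h⁻¹)⁻¹ := by group
  rw [e]
  refine mul_mem ?_ (inv_mem ?_)
  · refine (le_sup_right : _ ≤ (Y ⊓ B₁ i) ⊔ _) ?_
    rw [mem_Ct]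
    refine ⟨conj_mem_of_normalizer (hNB hh) (mul_mem (hV₂B hw) hy.2), fun g hg => ?_⟩
    have h1 : h⁻¹ * g * h ∈ O := by
      have := hNO h⁻¹ (inv_mem hh) g hg
      simpa using this
    have h2 := conj_mem_of_normalizer hh (hwy _ h1)
    have e2 : h * ((w * y)⁻¹ * (h⁻¹ * g * h) * (w * y) * (h⁻¹ * g * h)⁻¹) * h⁻¹ =
        (h * (w * y) * h⁻¹)⁻¹ * g * (h * (w * y) * h⁻¹) * g⁻¹ := by group
    rwa [e2] at h2
  · exact (le_sup_left : Y ⊓ B₁ i ≤ _)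
      ⟨conj_mem_of_normalizer (hNY hh) hy.1, conj_mem_of_normalizer (hNB hh) hy.2⟩

/-- **(6)** `Y ∩ T ≤ R B₀` at every point `k ≠ i` of `V₁` -/
theorem mem_RB0 [Finite G] {k : ι} (hk : k ≠ i) {y : G} (hy : y ∈ YY (B₁ k) (C₁ k)) (hyB : y ∈ B₁ k) :
    ∃ r ∈ R₁ k, ∃ x ∈ ⨅ m, B₁ m, y = r * x := by
  -- an element `b ∈ C̃` outside `C(V₁)`
  obtain ⟨b, hb, hbV⟩ : ∃ b ∈ Ct (R₁ i) (B₁ i) (Oo (R₁ i) (B₁ i) (YY (B₁ i) (C₁ i)))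
      (t.s₁.B_comm i) (t.s₁.R_B i), ¬ ∀ v ∈ V₁, b * v = v * b := by
    by_contra hn
    push Not at hn
    obtain ⟨b, hb, hbV⟩ := t.s₁.exists_move (Ne.symm hk)
    have h1 : B₁ i ≤ centralizer (V₁ : Set G) := by
      refine t.B_le.trans (sup_le ?_ ?_)
      · rintro x ⟨hx, -⟩
        exact mem_centralizer_iff.2 fun v hv => (t.s₁.Y_V hx v hv).symm
      · intro x hx
        exact mem_centralizer_iff.2 fun v hv => (hn x hx v hv).symm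
    exact hbV fun v hv => (mem_centralizer_iff.1 (h1 hb) v hv).symm
  have hbB := (mem_Ct.1 hb).1
  -- `y ∈ O`
  have hyN := t.s₁.cV_le_NR (t.s₁.Y_V hy) i
  have hyO : y ∈ Oo (R₁ i) (B₁ i) (YY (B₁ i) (C₁ i)) := by
    refine ⟨hyN, t.s₁.nB i hyN, t.s₁.nY i hyN, fun b' hb' => ?_⟩
    have := inv_mem (t.s₁.comm_B_Y hb' hy)
    have e : (b' * y * b'⁻¹ * y⁻¹)⁻¹ = y * b' * y⁻¹ * b'⁻¹ := by group
    rwa [e] at this
  have h1 := (mem_Ct.1 hb).2 y hyO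
  have h2 : b * y * b⁻¹ * y⁻¹ ∈ R₁ i := by
    have hbi : b⁻¹ = b := inv_eq_of_mul_eq_one_left (t.s₁.B_sq i b hbB)
    have e : b⁻¹ * y * b * y⁻¹ = b * y * b⁻¹ * y⁻¹ := by
      rw [hbi]
    rwa [e] at h1
  exact t.s₁.mem_R_of_comm (Ne.symm hk) hbB hbV hyB h2

/-- **(6)** `Y = R D` -/
theorem exists_RD [Finite G] {y : G} (hy : y ∈ YY (B₁ i) (C₁ i)) :
    ∃ r ∈ R₁ i, ∃ d ∈ ⨅ m, YY (B₁ m) (C₁ m), y = r * d := by
  obtain ⟨k, hk, -⟩ := t.s₁.third i i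
  obtain ⟨m, hmi, hmk, x, hx, e⟩ := t.s₁.trans_B i k
  have hxN := t.s₁.B_le_ST m hx
  have hy' : x * y * x⁻¹ ∈ YY (B₁ k) (C₁ k) := by
    rw [← t.s₁.cY e]; exact conj_mem_cj hy
  obtain ⟨u, hu, huY, d, hd, hud⟩ := t.s₁.exists_D hy'
  obtain ⟨r, hr, β, hβ, hrβ⟩ := t.mem_RB0 hk huY (TT_le _ _ hu)
  have hβD := t.s₁.B0_le_D hβ
  have e' : cj x⁻¹ (R₁ k) = R₁ i := by rw [← e, cj_inv_cj]
  refine ⟨x⁻¹ * r * x, ?_, x⁻¹ * (β * d) * x, ?_, ?_⟩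
  · rw [← e']
    have := conj_mem_cj (g := x⁻¹) hr
    simpa using this
  · have := conj_mem_of_normalizer (inv_mem (t.s₁.nD hxN)) (mul_mem hβD hd)
    simpa using this
  · have h1 : x * y * x⁻¹ = r * (β * d) := by rw [hud, hrβ, mul_assoc]
    calc y = x⁻¹ * (x * y * x⁻¹) * x := by group
      _ = x⁻¹ * (r * (β * d)) * x := by rw [h1]
      _ = x⁻¹ * r * x * (x⁻¹ * (β * d) * x) := by group

/-- **(7)** `D = C_Y(K)`, `K = C_{N(R)}(Y/R)`, if `4 ∣ |R|` and `X` has a torus which is transitive on `R - 1` -/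
theorem D_iff [Finite G] (h4 : 4 ∣ Nat.card (R₁ i)) (τ : G) (hτ : τ ∈ ⨆ k, B₁ k)
    (hτN : τ ∈ normalizer (R₁ i : Set G)) (hτR : ∀ r ∈ R₁ i, τ * r = r * τ → r = 1)
    (htr : ∀ r ∈ R₁ i, r ≠ 1 → ∀ s ∈ R₁ i, s ≠ 1 → ∃ τ ∈ ⨆ k, B₁ k, τ ∈ normalizer (R₁ i : Set G) ∧ τ * r * τ⁻¹ = s)
    {y : G} (hy : y ∈ YY (B₁ i) (C₁ i)) :
    y ∈ ⨅ m, YY (B₁ m) (C₁ m) ↔ ∀ g ∈ Kk (R₁ i) (YY (B₁ i) (C₁ i)), g * y = y * g := by
  set Y := YY (B₁ i) (C₁ i) with hY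
  have hτD : ∀ τ ∈ ⨆ k, B₁ k, ∀ d ∈ ⨅ m, YY (B₁ m) (C₁ m), τ * d = d * τ := by
    intro τ hτ d hd
    have h1 : (⨆ k, B₁ k) ≤ centralizer ({d} : Set G) := by
      refine iSup_le fun k b hb => ?_
      rw [mem_centralizer_iff]
      intro z hz
      rw [Set.mem_singleton_iff.1 hz]
      exact SideW.D_comm hd k b hb
    exact (mem_centralizer_iff.1 (h1 hτ) d rfl).symm
  have hτK : ∀ τ ∈ ⨆ k, B₁ k, τ ∈ normalizer (R₁ i : Set G) → τ ∈ Kk (R₁ i) Y := by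
    intro τ hτ hτN
    refine ⟨hτN, t.s₁.nY i hτN, fun z hz => ?_⟩
    obtain ⟨r, hr, d, hd, rfl⟩ := t.exists_RD hz
    have h1 := hτD τ hτ d hd
    have hr' := conj_mem_of_normalizer hτN hr
    have e : τ * (r * d) * τ⁻¹ * (r * d)⁻¹ = τ * r * τ⁻¹ * r⁻¹ := by
      have h2 : d * τ⁻¹ = τ⁻¹ * d := by
        calc d * τ⁻¹ = τ⁻¹ * (τ * d) * τ⁻¹ := by group
          _ = τ⁻¹ * (d * τ) * τ⁻¹ := by rw [h1]
          _ = τ⁻¹ * d := by group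
      calc τ * (r * d) * τ⁻¹ * (r * d)⁻¹ = τ * r * (d * τ⁻¹) * d⁻¹ * r⁻¹ := by group
        _ = τ * r * (τ⁻¹ * d) * d⁻¹ * r⁻¹ := by rw [h2]
        _ = τ * r * τ⁻¹ * r⁻¹ := by group
    rw [e]
    exact mul_mem hr' (inv_mem hr)
  constructor
  · intro hd
    have hNK : ∀ n ∈ normalizer (R₁ i : Set G), ∀ g ∈ Kk (R₁ i) Y, n * g * n⁻¹ ∈ Kk (R₁ i) Y := by
      rintro n hn g ⟨g1, g3, g4⟩
      have hnY := t.s₁.nY i hn
      refine ⟨mul_mem (mul_mem hn g1) (inv_mem hn), mul_mem (mul_mem hnY g3) (inv_mem hnY), fun b hb => ?_⟩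
      have h1 := g4 _ (conj_inv_mem_of_normalizer hnY hb)
      have e : n * g * n⁻¹ * b * (n * g * n⁻¹)⁻¹ * b⁻¹ =
          n * (g * (n⁻¹ * b * n) * g⁻¹ * (n⁻¹ * b * n)⁻¹) * n⁻¹ := by group
      rw [e]; exact conj_mem_of_normalizer hn h1
    have hSK : S ≤ normalizer (Kk (R₁ i) Y : Set G) := by
      intro g hg
      exact mem_normalizer_of_conj fun x hx => hNK g (t.SR hg) x hx
    -- `x y x⁻¹ ∈ y R`
    have hmv : ∀ x ∈ Kk (R₁ i) Y, ∃ r ∈ R₁ i, x * y * x⁻¹ = y * r := by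
      rintro x ⟨x1, x3, x4⟩
      have h1 := x4 y hy
      have h2 : x * y * x⁻¹ ∈ Y := conj_mem_of_normalizer x3 hy
      refine ⟨x * y * x⁻¹ * y⁻¹, h1, ?_⟩
      have h3 : x * y * x⁻¹ * y⁻¹ ∈ Y := mul_mem h2 (inv_mem hy)
      rw [t.Y_comm hy h3]
      group
    by_contra hcon
    push Not at hcon
    obtain ⟨g, hg, hgy⟩ := hcon
    obtain ⟨r, hr, e⟩ := hmv g hg
    have hr1 : r ≠ 1 := by
      rintro rfl
      rw [mul_one] at e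
      exact hgy (mul_inv_eq_iff_eq_mul.1 e)
    refine orbit_false (K := Kk (R₁ i) Y) (C := T ⊓ Kk (R₁ i) Y) (R := R₁ i) (d := y) ?_
      (not_four_dvd t.TS t.T4 t.SR t.odd (fun x hx => hx.1) hSK) ?_ hmv h4
    · rintro x ⟨hxS, hxK⟩
      obtain ⟨r', hr', e'⟩ := hmv x hxK
      have h2 := conj_mem_of_normalizer (t.s₁.nD (t.SV₁ hxS)) hd
      have h1 : y⁻¹ * (x * y * x⁻¹) ∈ ⨅ m, YY (B₁ m) (C₁ m) := mul_mem (inv_mem hd) h2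
      have h3 : y⁻¹ * (x * y * x⁻¹) ∈ R₁ i := by
        rw [e', inv_mul_cancel_left]; exact hr'
      have h5 := t.s₁.D_R h1 h3
      rw [inv_mul_eq_one] at h5
      exact h5.symm
    · intro s hs
      by_cases hs1 : s = 1
      · exact ⟨1, one_mem _, by rw [hs1]; group⟩
      obtain ⟨σ, hσ, hσN, hσr⟩ := htr r hr hr1 s hs hs1
      refine ⟨σ * g, mul_mem (hτK σ hσ hσN) hg, ?_⟩
      have h3 := hτD σ hσ y hd
      calc σ * g * y * (σ * g)⁻¹ = σ * (g * y * g⁻¹) * σ⁻¹ := by group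
        _ = σ * (y * r) * σ⁻¹ := by rw [e]
        _ = (σ * y) * r * σ⁻¹ := by group
        _ = y * (σ * r * σ⁻¹) := by rw [h3]; group
        _ = y * s := by rw [hσr]
  · intro hall
    obtain ⟨r, hr, d, hd, e⟩ := t.exists_RD hy
    have h1 := hall τ (hτK τ hτ hτN)
    have h2 := hτD τ hτ d hd
    have h3 : τ * r = r * τ := by
      rw [e] at h1
      have h4 : τ * r * d = r * τ * d := by
        calc τ * r * d = τ * (r * d) := by group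
          _ = r * d * τ := h1
          _ = r * (d * τ) := by group
          _ = r * (τ * d) := by rw [h2]
          _ = r * τ * d := by group
      exact mul_right_cancel h4
    rw [e, hτR r hr h3, one_mul]
    exact hd

/-- **(7)** the fixed point groups `D₁`, `D₂` are trivial (`q ≥ 4`) -/
theorem D_eq_bot [Finite G] (h4 : 4 ∣ Nat.card (R₁ i))
    (h₁ : ∃ τ ∈ ⨆ k, B₁ k, τ ∈ normalizer (R₁ i : Set G) ∧ ∀ r ∈ R₁ i, τ * r = r * τ → r = 1)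
    (h₂ : ∃ τ ∈ ⨆ k, B₂ k, τ ∈ normalizer (R₂ j : Set G) ∧ ∀ r ∈ R₂ j, τ * r = r * τ → r = 1)
    (g₁ : ∀ r ∈ R₁ i, r ≠ 1 → ∀ s ∈ R₁ i, s ≠ 1 → ∃ τ ∈ ⨆ k, B₁ k, τ ∈ normalizer (R₁ i : Set G) ∧ τ * r * τ⁻¹ = s)
    (g₂ : ∀ r ∈ R₂ j, r ≠ 1 → ∀ s ∈ R₂ j, s ≠ 1 → ∃ τ ∈ ⨆ k, B₂ k, τ ∈ normalizer (R₂ j : Set G) ∧ τ * r * τ⁻¹ = s) :
    (⨅ m, YY (B₁ m) (C₁ m)) = ⊥ := by
  obtain ⟨τ₁, a1, a2, a3⟩ := h₁
  obtain ⟨τ₂, b1, b2, b3⟩ := h₂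
  have h4' : 4 ∣ Nat.card (R₂ j) := by rw [← t.hR]; exact h4
  have hD1 : ∀ y, y ∈ ⨅ m, YY (B₁ m) (C₁ m) ↔ y ∈ YY (B₁ i) (C₁ i) ∧
      ∀ g ∈ Kk (R₁ i) (YY (B₁ i) (C₁ i)), g * y = y * g := by
    intro y
    constructor
    · intro hd
      have hy := mem_iInf.1 hd i
      exact ⟨hy, (t.D_iff h4 τ₁ a1 a2 a3 g₁ hy).1 hd⟩
    · rintro ⟨hy, h⟩
      exact (t.D_iff h4 τ₁ a1 a2 a3 g₁ hy).2 h
  have hD2 : ∀ y, y ∈ ⨅ m, YY (B₂ m) (C₂ m) ↔ y ∈ YY (B₁ i) (C₁ i) ∧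
      ∀ g ∈ Kk (R₁ i) (YY (B₁ i) (C₁ i)), g * y = y * g := by
    intro y
    rw [t.YY_eq_YY, t.hR]
    constructor
    · intro hd
      have hy := mem_iInf.1 hd j
      exact ⟨hy, (t.symm.D_iff h4' τ₂ b1 b2 b3 g₂ hy).1 hd⟩
    · rintro ⟨hy, h⟩
      exact (t.symm.D_iff h4' τ₂ b1 b2 b3 g₂ hy).2 h
  have hE : (⨅ m, YY (B₁ m) (C₁ m)) = ⨅ m, YY (B₂ m) (C₂ m) := by
    ext y
    rw [hD1, hD2]
  have hle : (⨅ m, YY (B₁ m) (C₁ m)) ≤ YY (B₁ i) (C₁ i) := iInf_le _ i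
  refine t.NL _ (t.Y_isPGroup.to_le hle) t.s₁.nD ?_ ?_
  · rw [hE]; exact t.s₂.nD
  · intro n hn
    refine mem_normalizer_of_conj fun y hy => ?_
    obtain ⟨h1, h2⟩ := (hD1 y).1 hy
    refine (hD1 _).2 ⟨conj_mem_of_normalizer (t.s₁.nY i hn) h1, fun g hg => ?_⟩
    have h3 : n⁻¹ * g * n ∈ Kk (R₁ i) (YY (B₁ i) (C₁ i)) := by
      obtain ⟨g1, g3, g4⟩ := hg
      have hn' := inv_mem hn
      have hnY := t.s₁.nY i hn
      refine ⟨mul_mem (mul_mem hn' g1) hn, mul_mem (mul_mem (inv_mem hnY) g3) hnY, fun b hb => ?_⟩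
      have h1 := g4 _ (conj_mem_of_normalizer hnY hb)
      have e : n⁻¹ * g * n * b * (n⁻¹ * g * n)⁻¹ * b⁻¹ =
          n⁻¹ * (g * (n * b * n⁻¹) * g⁻¹ * (n * b * n⁻¹)⁻¹) * n := by group
      rw [e]; exact conj_inv_mem_of_normalizer hn h1
    have h4 := h2 _ h3
    calc g * (n * y * n⁻¹) = n * (n⁻¹ * g * n * y) * n⁻¹ := by group
      _ = n * (y * (n⁻¹ * g * n)) * n⁻¹ := by rw [h4]
      _ = n * y * n⁻¹ * g := by group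

/-- **`C_G(W₁ W₂) = R`** without any hypothesis on `Z(S)` -/
theorem YY_eq [Finite G] (h4 : 4 ∣ Nat.card (R₁ i))
    (h₁ : ∃ τ ∈ ⨆ k, B₁ k, τ ∈ normalizer (R₁ i : Set G) ∧ ∀ r ∈ R₁ i, τ * r = r * τ → r = 1)
    (h₂ : ∃ τ ∈ ⨆ k, B₂ k, τ ∈ normalizer (R₂ j : Set G) ∧ ∀ r ∈ R₂ j, τ * r = r * τ → r = 1)
    (g₁ : ∀ r ∈ R₁ i, r ≠ 1 → ∀ s ∈ R₁ i, s ≠ 1 → ∃ τ ∈ ⨆ k, B₁ k, τ ∈ normalizer (R₁ i : Set G) ∧ τ * r * τ⁻¹ = s)
    (g₂ : ∀ r ∈ R₂ j, r ≠ 1 → ∀ s ∈ R₂ j, s ≠ 1 → ∃ τ ∈ ⨆ k, B₂ k, τ ∈ normalizer (R₂ j : Set G) ∧ τ * r * τ⁻¹ = s) :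
    YY (B₁ i) (C₁ i) = R₁ i := by
  refine le_antisymm (fun y hy => ?_) (t.s₁.R_Y i)
  obtain ⟨r, hr, d, hd, rfl⟩ := t.exists_RD hy
  rw [t.D_eq_bot h4 h₁ h₂ g₁ g₂] at hd
  rw [mem_bot.1 hd, mul_one]
  exact hr

end TwoV

end Cfsg.Agent.Omega.IId.M4
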